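import Groth.Prelude.Def_W4bk4grassmannianPl
import Mathlib

/-! Combinatorics of `I(d,n)`. -/

noncomputable section

open W4bk4grassmannian Finset

namespace LeadGrass

variable {d n : ℕ}

instance : Fintype (Idx d n) := Fintype.ofInjective (fun a : Idx d n => a.1) Subtype.val_injective

lemma le_val (θ : Idx d n) : ∀ t : Fin d, t.val ≤ (θ.1 t).val := by
  intro ⟨t, ht⟩
  induction t with
  | zero => simp
  | succ t ih =>
    have h1 := ih (by omega)
    have h2 : (θ.1 ⟨t, by omega⟩).val < (θ.1 ⟨t + 1, ht⟩).val := θ.2 (show (⟨t, by omega⟩ : Fin d) < ⟨t + 1, ht⟩ by simp [Fin.lt_def])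
    simp only at h1 ⊢
    omega

lemma val_gap (θ : Idx d n) {t t' : Fin d} (h : t.val ≤ t'.val) :
    (θ.1 t).val + (t'.val - t.val) ≤ (θ.1 t').val := by
  obtain ⟨t', ht'⟩ := t'
  induction t' with
  | zero =>
    have : t = ⟨0, ht'⟩ := Fin.ext (by simpa using h)
    simp [this]
  | succ s ih =>
    by_cases he : t.val = s + 1
    · have : t = ⟨s + 1, ht'⟩ := Fin.ext he
      simp [this]
    · have h1 := ih (by omega) (by simp at h ⊢; omega)
      have h2 : (θ.1 ⟨s, by omega⟩).val < (θ.1 ⟨s + 1, ht'⟩).val := θ.2 (show (⟨s, by omega⟩ : Fin d) < ⟨s + 1, ht'⟩ by simp [Fin.lt_def])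
      simp only at h1 h ⊢
      omega

lemma val_le_top (θ : Idx d n) (t : Fin d) : (θ.1 t).val + (d - t.val) ≤ n := by
  have := val_gap θ (t := t) (t' := ⟨d - 1, by have := t.isLt; omega⟩) (by have := t.isLt; simp; omega)
  have h2 := (θ.1 ⟨d - 1, by have := t.isLt; omega⟩).isLt
  have := t.isLt
  dsimp only at *
  omega

/-- The smallest index. -/
def bot (h : d ≤ n) : Idx d n :=
  ⟨fun t => ⟨t.val, lt_of_lt_of_le t.isLt h⟩, fun _ _ h => h⟩

lemma bot_le (h : d ≤ n) (θ : Idx d n) : bot h ≤ θ := fun t => Fin.le_def.2 (le_val θ t)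

/-- The largest index. -/
def top (h : d ≤ n) : Idx d n :=
  ⟨fun t => ⟨n - d + t.val, by have := t.isLt; omega⟩, fun _ _ hab => by
    simp only [Fin.lt_def] at hab ⊢; omega⟩

lemma le_top (h : d ≤ n) (θ : Idx d n) : θ ≤ top h := fun t => by
  have := val_le_top θ t
  have := t.isLt
  rw [Fin.le_def]; simp [top]; omega

lemma le_sup_left' (i j : Idx d n) : i ≤ W4bk4grassmannian.sup i j := fun t => le_max_left _ _
lemma le_sup_right' (i j : Idx d n) : j ≤ W4bk4grassmannian.sup i j := fun t => le_max_right _ _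
lemma inf_le_left' (i j : Idx d n) : W4bk4grassmannian.inf i j ≤ i := fun t => min_le_left _ _
lemma inf_le_right' (i j : Idx d n) : W4bk4grassmannian.inf i j ≤ j := fun t => min_le_right _ _
lemma sup_le' {i j a : Idx d n} (h : i ≤ a) (h' : j ≤ a) : W4bk4grassmannian.sup i j ≤ a := fun t => max_le (h t) (h' t)
lemma le_inf' {i j a : Idx d n} (h : a ≤ i) (h' : a ≤ j) : a ≤ W4bk4grassmannian.inf i j := fun t => le_min (h t) (h' t)

/-- Sum of the entries. -/
def wt (θ : Idx d n) : ℕ := ∑ t, (θ.1 t).val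

lemma wt_le {i j : Idx d n} (h : i ≤ j) : wt i ≤ wt j := Finset.sum_le_sum fun t _ => h t

lemma wt_lt {i j : Idx d n} (h : i < j) : wt i < wt j := by
  obtain ⟨t, ht⟩ : ∃ t, i.1 t ≠ j.1 t := by
    by_contra hc
    push_neg at hc
    exact h.ne (Subtype.ext (funext hc))
  refine Finset.sum_lt_sum (fun t _ => h.le t) ⟨t, mem_univ t, ?_⟩
  exact lt_of_le_of_ne (h.le t) (fun e => ht (Fin.ext e))

lemma codeg_eq (θ : Idx d n) : codeg θ + ∑ t : Fin d, t.val = wt θ := by
  rw [codeg, wt, ← Finset.sum_add_distrib]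
  exact Finset.sum_congr rfl fun t _ => Nat.sub_add_cancel (le_val θ t)

/-- Lowering one entry. -/
def lower (θ : Idx d n) (t : Fin d) (h : t.val < (θ.1 t).val)
    (h' : ∀ s : Fin d, s.val + 1 = t.val → (θ.1 s).val + 1 < (θ.1 t).val) : Idx d n :=
  ⟨Function.update θ.1 t ⟨(θ.1 t).val - 1, by omega⟩, by
    intro a b hab
    rw [Fin.lt_def] at hab ⊢
    by_cases ha : a = t
    · subst ha
      have hb : b ≠ a := fun e => by subst e; omega
      simp only [Function.update_self, Function.update_of_ne hb]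
      have : (θ.1 a).val < (θ.1 b).val := θ.2 (Fin.lt_def.2 hab)
      omega
    · by_cases hb : b = t
      · subst hb
        simp only [Function.update_self, Function.update_of_ne ha]
        have h1 := val_gap θ (t := a) (t' := ⟨b.val - 1, by omega⟩) (by simp; omega)
        have h2 := h' ⟨b.val - 1, by omega⟩ (by simp; omega)
        simp only at h1 h2
        omega
      · simp only [Function.update_of_ne ha, Function.update_of_ne hb]
        exact θ.2 (Fin.lt_def.2 hab)⟩

lemma lower_mem_divisors (θ : Idx d n) (t : Fin d) (h : t.val < (θ.1 t).val)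
    (h' : ∀ s : Fin d, s.val + 1 = t.val → (θ.1 s).val + 1 < (θ.1 t).val) : lower θ t h h' ∈ divisors θ := by
  have hle : lower θ t h h' ≤ θ := by
    intro s
    by_cases hs : s = t
    · subst hs; simp [lower, Fin.le_def]
    · simp [lower, Function.update_of_ne hs]
  have hw : wt (lower θ t h h') + 1 = wt θ := by
    rw [wt, wt, ← Finset.add_sum_erase _ _ (mem_univ t), ← Finset.add_sum_erase _ (fun s => (θ.1 s).val) (mem_univ t)]
    have : ∑ x ∈ univ.erase t, ((lower θ t h h').1 x).val = ∑ x ∈ univ.erase t, (θ.1 x).val :=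
      Finset.sum_congr rfl fun x hx => by simp [lower, Function.update_of_ne (Finset.ne_of_mem_erase hx)]
    rw [this]
    simp [lower]
    omega
  refine ⟨lt_of_le_of_ne hle fun e => by rw [e] at hw; omega, ?_⟩
  have := codeg_eq (lower θ t h h')
  have := codeg_eq θ
  omega

/-- A divisor between. -/
theorem exists_divisor_ge {τ w : Idx d n} (h : τ < w) : ∃ φ ∈ divisors w, τ ≤ φ := by
  classical
  have hex : ∃ m : ℕ, ∃ t : Fin d, t.val = m ∧ τ.1 t < w.1 t := by
    by_contra hc
    push_neg at hc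
    exact h.ne (Subtype.ext (funext fun t => le_antisymm (h.le t) (hc _ t rfl)))
  obtain ⟨t, ht, hlt⟩ := Nat.find_spec hex
  rw [Fin.lt_def] at hlt
  have h1 : t.val < (w.1 t).val := lt_of_le_of_lt (le_val τ t) hlt
  have h2 : ∀ s : Fin d, s.val + 1 = t.val → (w.1 s).val + 1 < (w.1 t).val := by
    intro s hs
    have heq : τ.1 s = w.1 s := le_antisymm (h.le s)
      (not_lt.1 fun hc => Nat.find_min hex (m := s.val) (by omega) ⟨s, rfl, hc⟩)
    have : (τ.1 s).val < (τ.1 t).val := τ.2 (by rw [Fin.lt_def]; omega)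
    rw [heq] at this
    omega
  refine ⟨lower w t h1 h2, lower_mem_divisors w t h1 h2, fun s => ?_⟩
  by_cases hs : s = t
  · subst hs
    simp only [lower, Function.update_self, Fin.le_def]
    omega
  · simp only [lower, Function.update_of_ne hs]
    exact h.le s

/-- The counting function `N_θ(x) = #{t | θ_t ≤ x}`. -/
def cnt (θ : Idx d n) (x : Fin n) : ℕ := (univ.filter fun t => θ.1 t ≤ x).card

lemma cnt_anti {i j : Idx d n} (h : i ≤ j) (x : Fin n) : cnt j x ≤ cnt i x :=
  card_le_card fun t ht => by simp only [mem_filter, mem_univ, true_and] at ht ⊢; exact (h t).trans ht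

lemma lt_cnt_iff (θ : Idx d n) (x : Fin n) (t : Fin d) : t.val < cnt θ x ↔ θ.1 t ≤ x := by
  constructor
  · intro h
    by_contra hc
    have : (univ.filter fun s => θ.1 s ≤ x) ⊆ univ.filter fun s => s < t := fun s hs => by
      simp only [mem_filter, mem_univ, true_and] at hs ⊢
      exact θ.2.lt_iff_lt.1 (lt_of_le_of_lt hs (not_le.1 hc))
    have := card_le_card this
    rw [show (univ.filter fun s => s < t) = Iio t by ext; simp, Fin.card_Iio] at this
    rw [cnt] at h
    omega
  · intro h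
    have : Iic t ⊆ univ.filter fun s => θ.1 s ≤ x := fun s hs => by
      simp only [mem_filter, mem_univ, true_and]
      exact (θ.2.monotone (mem_Iic.1 hs)).trans h
    have := card_le_card this
    rw [Fin.card_Iic] at this
    rw [cnt]; omega

lemma le_iff_cnt {i j : Idx d n} : i ≤ j ↔ ∀ x, cnt j x ≤ cnt i x :=
  ⟨cnt_anti, fun h t => (lt_cnt_iff i (j.1 t) t).1 (lt_of_lt_of_le ((lt_cnt_iff j _ t).2 le_rfl) (h _))⟩

lemma eq_of_cnt {i j : Idx d n} (h : ∀ x, cnt i x = cnt j x) : i = j :=
  le_antisymm (le_iff_cnt.2 fun x => (h x).ge) (le_iff_cnt.2 fun x => (h x).le)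

lemma cnt_sup (i j : Idx d n) (x : Fin n) : cnt (W4bk4grassmannian.sup i j) x = min (cnt i x) (cnt j x) := by
  refine le_antisymm (le_min (cnt_anti (le_sup_left' i j) x) (cnt_anti (le_sup_right' i j) x)) ?_
  by_contra hc
  rw [not_le] at hc
  have hd : cnt i x ≤ d := (card_filter_le _ _).trans (by simp)
  have h1 : i.1 ⟨cnt (W4bk4grassmannian.sup i j) x, by omega⟩ ≤ x := (lt_cnt_iff i x _).1 (by simp; omega)
  have h2 : j.1 ⟨cnt (W4bk4grassmannian.sup i j) x, by omega⟩ ≤ x := (lt_cnt_iff j x _).1 (by simp; omega)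
  have := (lt_cnt_iff (W4bk4grassmannian.sup i j) x ⟨cnt (W4bk4grassmannian.sup i j) x, by omega⟩).2 (max_le h1 h2)
  simp at this

lemma cnt_inf (i j : Idx d n) (x : Fin n) : cnt (W4bk4grassmannian.inf i j) x = max (cnt i x) (cnt j x) := by
  refine le_antisymm ?_ (max_le (cnt_anti (inf_le_left' i j) x) (cnt_anti (inf_le_right' i j) x))
  by_contra hc
  rw [not_le] at hc
  have hd : cnt (W4bk4grassmannian.inf i j) x ≤ d := (card_filter_le _ _).trans (by simp)
  have h := (lt_cnt_iff (W4bk4grassmannian.inf i j) x ⟨max (cnt i x) (cnt j x), by omega⟩).1 (by simpa using hc)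
  simp only [W4bk4grassmannian.inf, min_le_iff] at h
  rcases h with h | h
  · have := (lt_cnt_iff i x _).2 h; simp at this
  · have := (lt_cnt_iff j x _).2 h; simp at this

end LeadGrass
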