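import Groth.Agent.Lead.Grass.Coord
import Groth.Agent.Lead.Grass.Comb
import Groth.Prelude.Def_CAlgX

/-! Minors of a matrix as Plücker coordinates on the opposite big cell. -/

noncomputable section

open MvPolynomial W4bk4grassmannian Finset

universe u v

namespace LeadGrass

variable {K : Type u} [CommRing K] {S : Type v} [CommRing S] [Algebra K S] {d r k : ℕ}

/-- The matrix `[I ; Z]`. -/
def bigMat (Z : Matrix (Fin r) (Fin d) S) : Matrix (Fin (d + r)) (Fin d) S :=
  Matrix.of fun i j => if h : i.val < d then (if i.val = j.val then 1 else 0) else Z ⟨i.val - d, by omega⟩ j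

lemma bigMat_map {T : Type*} [CommRing T] (f : S →+* T) (Z : Matrix (Fin r) (Fin d) S) :
    (bigMat Z).map f = bigMat (Z.map f) := by
  ext i j
  simp only [Matrix.map_apply, bigMat, Matrix.of_apply]
  split_ifs <;> simp

/-- The rows cutting out the minor with rows `A` (reversed) and columns `B`. -/
def rowsAB (A : Idx k r) (B : Idx k d) (j : Fin d) : Fin (d + r) :=
  if h : ∃ i, B.1 i = j then ⟨d + (Fin.rev (A.1 h.choose)).val, by omega⟩ else ⟨j.val, by omega⟩

lemma rowsAB_mem (A : Idx k r) (B : Idx k d) (i : Fin k) :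
    (rowsAB A B (B.1 i)).val = d + (Fin.rev (A.1 i)).val := by
  have h : ∃ i', B.1 i' = B.1 i := ⟨i, rfl⟩
  rw [rowsAB, dif_pos h]
  show d + (Fin.rev (A.1 h.choose)).val = _
  rw [B.2.injective h.choose_spec]

lemma rowsAB_notMem (A : Idx k r) (B : Idx k d) {j : Fin d} (h : ∀ i, B.1 i ≠ j) :
    (rowsAB A B j).val = j.val := by
  rw [rowsAB, dif_neg (fun ⟨i, hi⟩ => h i hi)]

lemma rowsAB_inj (A : Idx k r) (B : Idx k d) : Function.Injective (rowsAB A B) := by
  intro x y h
  have hv := congrArg Fin.val h
  by_cases hx : ∃ i, B.1 i = x <;> by_cases hy : ∃ i, B.1 i = y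
  · obtain ⟨i, rfl⟩ := hx
    obtain ⟨i', rfl⟩ := hy
    rw [rowsAB_mem, rowsAB_mem] at hv
    exact congrArg B.1 (A.2.injective (Fin.rev_injective (Fin.ext (by omega))))
  · obtain ⟨i, rfl⟩ := hx
    push_neg at hy
    rw [rowsAB_mem, rowsAB_notMem A B hy] at hv
    omega
  · obtain ⟨i, rfl⟩ := hy
    push_neg at hx
    rw [rowsAB_mem, rowsAB_notMem A B hx] at hv
    omega
  · push_neg at hx hy
    rw [rowsAB_notMem A B hx, rowsAB_notMem A B hy] at hv
    exact Fin.ext hv

lemma rowsAB_card (A : Idx k r) (B : Idx k d) : (univ.image (rowsAB A B)).card = d := by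
  rw [card_image_of_injective _ (rowsAB_inj A B), card_univ, Fintype.card_fin]

/-- The Plücker index of the minor. -/
def cidx (A : Idx k r) (B : Idx k d) : Idx d (d + r) := sortIdx d (d + r) (rowsAB A B) (rowsAB_card A B)

/-- The sign of the minor. -/
def csign (A : Idx k r) (B : Idx k d) : S := (-1) ^ invCount d (d + r) (rowsAB A B)

lemma coord_rowsAB (A : Idx k r) (B : Idx k d) :
    coord K d (d + r) (rowsAB A B) = (-1 : PlRing K d (d + r)) ^ invCount d (d + r) (rowsAB A B) * X (cidx A B) := by
  rw [coord, dif_pos (rowsAB_card A B)]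
  rfl

omit [Algebra K S] in
lemma det_rowsAB (Z : Matrix (Fin r) (Fin d) S) (A : Idx k r) (B : Idx k d) :
    ((bigMat Z).submatrix (rowsAB A B) id).det = (Z.submatrix (fun i => Fin.rev (A.1 i)) B.1).det := by
  classical
  let p : Fin d → Prop := fun j => ∃ i, B.1 i = j
  rw [Matrix.twoBlockTriangular_det _ p]
  · have h2 : Matrix.toSquareBlockProp ((bigMat Z).submatrix (rowsAB A B) id) (fun i => ¬ p i) = 1 := by
      ext ⟨x, hx⟩ ⟨y, hy⟩
      have hx' : ∀ i, B.1 i ≠ x := fun i hi => hx ⟨i, hi⟩
      have hv := rowsAB_notMem A B hx'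
      simp only [Matrix.toSquareBlockProp_def, Matrix.of_apply, Matrix.submatrix_apply, id, bigMat,
        Matrix.one_apply, Subtype.mk.injEq]
      rw [dif_pos (by omega), hv]
      simp [Fin.ext_iff]
    rw [h2, Matrix.det_one, mul_one]
    let e : Fin k ≃ {j : Fin d // p j} := Equiv.ofBijective (fun i => ⟨B.1 i, i, rfl⟩)
      ⟨fun a b h => B.2.injective (congrArg Subtype.val h), fun ⟨j, i, hi⟩ => ⟨i, Subtype.ext hi⟩⟩
    rw [← Matrix.det_submatrix_equiv_self e]
    congr 1
    ext a b
    simp only [Matrix.submatrix_apply, Matrix.toSquareBlockProp_def, Matrix.of_apply, id, bigMat]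
    have hv : (rowsAB A B (e a).1).val = d + (Fin.rev (A.1 a)).val := rowsAB_mem A B a
    rw [dif_neg (by omega)]
    exact congrArg₂ Z (Fin.ext (by simp only [hv]; omega)) rfl
  · intro i hi j hj
    have hi' : ∀ x, B.1 x ≠ i := fun x hx => hi ⟨x, hx⟩
    have hv := rowsAB_notMem A B hi'
    simp only [Matrix.submatrix_apply, id, bigMat, Matrix.of_apply]
    rw [dif_pos (by omega), hv, if_neg]
    exact fun e => hi (Fin.ext e ▸ hj)

lemma pl_cidx (Z : Matrix (Fin r) (Fin d) S) (A : Idx k r) (B : Idx k d) :
    pl (K := K) (bigMat Z) (X (cidx A B)) = csign A B * (Z.submatrix (fun i => Fin.rev (A.1 i)) B.1).det := by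
  rw [← det_rowsAB, ← pl_coord (K := K), coord_rowsAB, map_mul, map_pow, map_neg, map_one, csign, ← mul_assoc,
    ← mul_pow, neg_one_mul, neg_neg, one_pow, one_mul]

/-- Number of rows in the lower block. -/
def large (θ : Idx d (d + r)) : ℕ := (univ.filter fun t => d ≤ (θ.1 t).val).card

lemma cnt_sortIdx {n : ℕ} (a : Fin d → Fin n) (h : (univ.image a).card = d) (x : Fin n) :
    cnt (sortIdx d n a h) x = (univ.filter fun t => a t ≤ x).card := by
  classical
  have ha := injective_of_card h
  have key : (univ.filter fun t => (sortIdx d n a h).1 t ≤ x).image (sortIdx d n a h).1 =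
      (univ.filter fun t => a t ≤ x).image a := by
    have h1 : univ.image (sortIdx d n a h).1 = univ.image a := by
      apply Finset.coe_injective
      rw [coe_image, coe_univ, Set.image_univ]
      exact Finset.range_orderEmbOfFin _ h
    rw [← Finset.filter_image (p := fun y => y ≤ x), ← Finset.filter_image (p := fun y => y ≤ x), h1]
  rw [cnt, ← card_image_of_injective _ (sortIdx d n a h).2.injective, key, card_image_of_injective _ ha]

lemma large_eq (θ : Idx d (d + r)) {hd : 0 < d} : large θ + cnt θ ⟨d - 1, by omega⟩ = d := by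
  rw [large, cnt, add_comm]
  conv_rhs => rw [show d = (univ : Finset (Fin d)).card by simp]
  rw [← card_filter_add_card_filter_not (s := (univ : Finset (Fin d))) (fun t => θ.1 t ≤ ⟨d - 1, by omega⟩)]
  congr 2
  refine filter_congr fun t _ => ?_
  simp only [Fin.le_def, not_le]
  omega

/-- Number of entries below a bound. -/
def below {r k : ℕ} (A : Idx k r) (z : ℕ) : ℕ := (univ.filter fun i => (A.1 i).val < z).card

lemma lt_below_iff {r k : ℕ} (A : Idx k r) (z : ℕ) (i : Fin k) : i.val < below A z ↔ (A.1 i).val < z := by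
  constructor
  · intro h
    by_contra hc
    rw [not_lt] at hc
    have : below A z ≤ (Iio i).card := card_le_card fun j hj => by
      rw [mem_filter] at hj
      rw [mem_Iio]
      by_contra hji
      have := A.2.monotone (not_lt.1 hji)
      rw [Fin.le_def] at this
      omega
    rw [Fin.card_Iio] at this
    omega
  · intro h
    have : (Iic i).card ≤ below A z := card_le_card fun j hj => by
      rw [mem_Iic] at hj
      have := A.2.monotone hj
      rw [Fin.le_def] at this
      rw [mem_filter]
      exact ⟨mem_univ _, by omega⟩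
    rw [Fin.card_Iic] at this
    omega

lemma below_le {r k : ℕ} (A : Idx k r) (z : ℕ) : below A z ≤ k :=
  (card_filter_le _ _).trans_eq (by simp)

lemma below_all {r k : ℕ} (A : Idx k r) {z : ℕ} (hz : r ≤ z) : below A z = k := by
  rw [below, filter_true_of_mem (fun i _ => by omega), card_univ, Fintype.card_fin]

lemma forall_below_iff {r k k' : ℕ} (A : Idx k r) (A' : Idx k' r) :
    (∀ z, below A z ≤ below A' z) ↔
      k ≤ k' ∧ ∀ (i : Fin k) (i' : Fin k'), i.val = i'.val → A'.1 i' ≤ A.1 i := by
  constructor
  · intro h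
    refine ⟨?_, fun i i' e => ?_⟩
    · have := h r
      rwa [below_all A le_rfl, below_all A' le_rfl] at this
    · have h1 := (lt_below_iff A ((A.1 i).val + 1) i).2 (by omega)
      have h2 := (lt_below_iff A' ((A.1 i).val + 1) i').1 (by have := h ((A.1 i).val + 1); omega)
      rw [Fin.le_def]; omega
  · rintro ⟨hk, h⟩ z
    by_contra hc
    rw [not_le] at hc
    have hb := below_le A z
    let i : Fin k := ⟨below A' z, by omega⟩
    have h1 := (lt_below_iff A z i).1 hc
    have h2 : below A' z < k' := by omega
    have h3 := (lt_below_iff A' z ⟨below A' z, h2⟩).not.1 (lt_irrefl _)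
    have h4 := h i ⟨below A' z, h2⟩ rfl
    rw [Fin.le_def] at h4
    omega

lemma cnt_cidx_low (A : Idx k r) (B : Idx k d) (x : Fin (d + r)) (hx : x.val < d) :
    cnt (cidx A B) x + below B (x.val + 1) = x.val + 1 := by
  classical
  rw [cidx, cnt_sortIdx, below, ← card_image_of_injective _ B.2.injective, ← card_union_of_disjoint]
  · refine Eq.trans ?_ (Fin.card_Iic (⟨x.val, hx⟩ : Fin d))
    congr 1
    ext j
    simp only [mem_union, mem_filter, mem_univ, true_and, mem_image, mem_Iic, Fin.le_def]
    by_cases hj : ∃ i, B.1 i = j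
    · obtain ⟨i, rfl⟩ := hj
      have := rowsAB_mem A B i
      constructor
      · rintro (h | ⟨a, ha, hab⟩)
        · omega
        · rw [B.2.injective hab] at ha; omega
      · intro h; exact Or.inr ⟨i, by omega, rfl⟩
    · push_neg at hj
      have := rowsAB_notMem A B hj
      constructor
      · rintro (h | ⟨a, -, hab⟩)
        · omega
        · exact absurd hab (hj a)
      · intro h; exact Or.inl (by omega)
  · rw [disjoint_left]
    intro j hj hj'
    simp only [mem_filter, mem_univ, true_and, mem_image, Fin.le_def] at hj hj'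
    obtain ⟨i, -, rfl⟩ := hj'
    have := rowsAB_mem A B i
    omega

lemma cnt_cidx_high (A : Idx k r) (B : Idx k d) (x : Fin (d + r)) (hx : d ≤ x.val) :
    cnt (cidx A B) x + below A (d + r - 1 - x.val) = d := by
  classical
  rw [cidx, cnt_sortIdx, below, ← card_image_of_injective _ B.2.injective, ← card_union_of_disjoint]
  · refine Eq.trans ?_ (Fintype.card_fin d)
    rw [← card_univ]
    congr 1
    refine eq_univ_of_forall fun j => ?_
    simp only [mem_union, mem_filter, mem_univ, true_and, mem_image, Fin.le_def]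
    by_cases hj : ∃ i, B.1 i = j
    · obtain ⟨i, rfl⟩ := hj
      have := rowsAB_mem A B i
      rw [Fin.val_rev] at this
      by_cases hA : (A.1 i).val < d + r - 1 - x.val
      · exact Or.inr ⟨i, hA, rfl⟩
      · exact Or.inl (by omega)
    · push_neg at hj
      have := rowsAB_notMem A B hj
      exact Or.inl (by omega)
  · rw [disjoint_left]
    intro j hj hj'
    simp only [mem_filter, mem_univ, true_and, mem_image, Fin.le_def] at hj hj'
    obtain ⟨i, hi, rfl⟩ := hj'
    have := rowsAB_mem A B i
    rw [Fin.val_rev] at this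
    omega

lemma large_cidx (A : Idx k r) (B : Idx k d) : large (cidx A B) = k := by
  rcases Nat.eq_zero_or_pos d with rfl | hd
  · have : k = 0 := by
      rcases Nat.eq_zero_or_pos k with h | h
      · exact h
      · exact (B.1 ⟨0, h⟩).elim0
    subst this
    simp [large]
  have h1 := large_eq (cidx A B) (hd := hd)
  have h2 := cnt_cidx_low A B ⟨d - 1, by omega⟩ (by dsimp only; omega)
  rw [below_all B (by dsimp only; omega)] at h2
  dsimp only at h2
  omega

lemma cidx_le_iff {k' : ℕ} (A : Idx k r) (B : Idx k d) (A' : Idx k' r) (B' : Idx k' d) :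
    cidx A B ≤ cidx A' B' ↔ k ≤ k' ∧ ∀ (i : Fin k) (i' : Fin k'), i.val = i'.val → A'.1 i' ≤ A.1 i ∧ B'.1 i' ≤ B.1 i := by
  classical
  rw [le_iff_cnt]
  constructor
  · intro h
    have hB : ∀ z, below B z ≤ below B' z := by
      intro z
      rcases Nat.eq_zero_or_pos z with rfl | hz
      · simp [below]
      rcases le_or_gt z d with hzd | hzd
      · have h1 := cnt_cidx_low A B ⟨z - 1, by omega⟩ (by dsimp only; omega)
        have h2 := cnt_cidx_low A' B' ⟨z - 1, by omega⟩ (by dsimp only; omega)
        have h3 := h ⟨z - 1, by omega⟩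
        dsimp only at h1 h2
        rw [Nat.sub_add_cancel hz] at h1 h2
        omega
      · rcases Nat.eq_zero_or_pos d with rfl | hd
        · have : k = 0 := by
            rcases Nat.eq_zero_or_pos k with h | h
            · exact h
            · exact (B.1 ⟨0, h⟩).elim0
          have := below_le B z
          omega
        rw [below_all B hzd.le, below_all B' hzd.le]
        have h1 := cnt_cidx_low A B ⟨d - 1, by omega⟩ (by dsimp only; omega)
        have h2 := cnt_cidx_low A' B' ⟨d - 1, by omega⟩ (by dsimp only; omega)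
        have h3 := h ⟨d - 1, by omega⟩
        dsimp only at h1 h2
        rw [below_all B (by omega)] at h1
        rw [below_all B' (by omega)] at h2
        omega
    obtain ⟨hk, hB'⟩ := (forall_below_iff B B').1 hB
    have hA : ∀ z, below A z ≤ below A' z := by
      intro z
      rcases lt_or_ge z r with hz | hz
      · have h1 := cnt_cidx_high A B ⟨d + r - 1 - z, by omega⟩ (by dsimp only; omega)
        have h2 := cnt_cidx_high A' B' ⟨d + r - 1 - z, by omega⟩ (by dsimp only; omega)
        have h3 := h ⟨d + r - 1 - z, by omega⟩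
        dsimp only at h1 h2
        rw [show d + r - 1 - (d + r - 1 - z) = z by omega] at h1 h2
        omega
      · rw [below_all A hz, below_all A' hz]
        exact hk
    obtain ⟨-, hA'⟩ := (forall_below_iff A A').1 hA
    exact ⟨hk, fun i i' e => ⟨hA' i i' e, hB' i i' e⟩⟩
  · rintro ⟨hk, h⟩ x
    rcases lt_or_ge x.val d with hx | hx
    · have h1 := cnt_cidx_low A B x hx
      have h2 := cnt_cidx_low A' B' x hx
      have h3 := (forall_below_iff B B').2 ⟨hk, fun i i' e => (h i i' e).2⟩ (x.val + 1)
      omega
    · have h1 := cnt_cidx_high A B x hx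
      have h2 := cnt_cidx_high A' B' x hx
      have h3 := (forall_below_iff A A').2 ⟨hk, fun i i' e => (h i i' e).1⟩ (d + r - 1 - x.val)
      omega

lemma cidx_inj {A A' : Idx k r} {B B' : Idx k d} (h : cidx A B = cidx A' B') : A = A' ∧ B = B' := by
  obtain ⟨-, h1⟩ := (cidx_le_iff A B A' B').1 h.le
  obtain ⟨-, h2⟩ := (cidx_le_iff A' B' A B).1 h.ge
  exact ⟨Subtype.ext (funext fun i => le_antisymm (h2 i i rfl).1 (h1 i i rfl).1),
    Subtype.ext (funext fun i => le_antisymm (h2 i i rfl).2 (h1 i i rfl).2)⟩

lemma exists_cidx (θ : Idx d (d + r)) : ∃ (A : Idx (large θ) r) (B : Idx (large θ) d), cidx A B = θ := by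
  classical
  let big := univ.filter fun t => d ≤ (θ.1 t).val
  let SA : Finset (Fin r) := big.attach.image fun t => Fin.rev ⟨(θ.1 t.1).val - d, by
    have := (mem_filter.1 t.2).2; omega⟩
  let SB : Finset (Fin d) := univ.filter fun j => ∀ t, (θ.1 t).val ≠ j.val
  have hA : SA.card = large θ := by
    rw [card_image_of_injective, card_attach]
    · rfl
    · intro a b h
      have := congrArg Fin.val (Fin.rev_injective h)
      have ha := (mem_filter.1 a.2).2
      have hb := (mem_filter.1 b.2).2
      simp only at this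
      exact Subtype.ext (θ.2.injective (Fin.ext (by omega)))
  have hB : SB.card = large θ := by
    let small := univ.filter fun t => ¬ d ≤ (θ.1 t).val
    have hsm : SBᶜ.card = small.card := by
      rw [show SBᶜ = small.attach.image (fun t => (⟨(θ.1 t.1).val, by have := (mem_filter.1 t.2).2; omega⟩ : Fin d)) from ?_,
        card_image_of_injective, card_attach]
      · intro a b h
        exact Subtype.ext (θ.2.injective (Fin.ext (by simpa using congrArg Fin.val h)))
      · ext j
        simp only [SB, mem_compl, mem_filter, mem_univ, true_and, not_forall, not_not, mem_image, mem_attach,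
          Subtype.exists, small]
        constructor
        · rintro ⟨t, ht⟩; exact ⟨t, by omega, Fin.ext ht⟩
        · rintro ⟨t, ht, e⟩; exact ⟨t, congrArg Fin.val e⟩
    rw [card_compl, Fintype.card_fin] at hsm
    have := card_filter_add_card_filter_not (s := (univ : Finset (Fin d))) (fun t => d ≤ (θ.1 t).val)
    rw [card_univ, Fintype.card_fin] at this
    have hle : SB.card ≤ d := by simpa using card_le_univ SB
    simp only [large, small] at *
    omega
  let A : Idx (large θ) r := ⟨SA.orderEmbOfFin hA, (SA.orderEmbOfFin hA).strictMono⟩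
  let B : Idx (large θ) d := ⟨SB.orderEmbOfFin hB, (SB.orderEmbOfFin hB).strictMono⟩
  refine ⟨A, B, ?_⟩
  have himg : univ.image (rowsAB A B) = univ.image θ.1 := by
    refine eq_of_subset_of_card_le ?_ (by rw [rowsAB_card, card_image_of_injective _ θ.2.injective, card_univ, Fintype.card_fin])
    intro x hx
    simp only [mem_image, mem_univ, true_and] at hx ⊢
    obtain ⟨j, rfl⟩ := hx
    by_cases hj : ∃ i, B.1 i = j
    · obtain ⟨i, rfl⟩ := hj
      have hmem : A.1 i ∈ SA := SA.orderEmbOfFin_mem hA i
      simp only [SA, mem_image, mem_attach, true_and] at hmem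
      obtain ⟨⟨t, ht⟩, e⟩ := hmem
      have ht' := (mem_filter.1 ht).2
      refine ⟨t, Fin.ext ?_⟩
      rw [rowsAB_mem, ← e, Fin.rev_rev]
      dsimp only
      omega
    · push_neg at hj
      have hnot : j ∉ SB := fun hc => by
        have : j ∈ Set.range (SB.orderEmbOfFin hB) := by rw [Finset.range_orderEmbOfFin]; exact hc
        obtain ⟨i, hi⟩ := this
        exact hj i hi
      simp only [SB, mem_filter, mem_univ, true_and, not_forall, not_not] at hnot
      obtain ⟨t, ht⟩ := hnot
      exact ⟨t, Fin.ext (by rw [rowsAB_notMem A B hj]; exact ht)⟩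
  apply Subtype.ext
  have := Finset.orderEmbOfFin_unique (rowsAB_card A B) (f := θ.1)
    (fun t => by rw [himg]; exact mem_image_of_mem _ (mem_univ t)) θ.2
  exact this.symm

omit [Algebra K S] in
lemma minorIdeal_anti (Z : Matrix (Fin r) (Fin d) S) {t t' : ℕ} (h : t ≤ t') :
    CAlgX.minorIdeal Z t' ≤ CAlgX.minorIdeal Z t := by
  induction h with
  | refl => exact le_rfl
  | @step m _ ih =>
    refine le_trans (Ideal.span_le.2 ?_) ih
    rintro _ ⟨⟨f, g⟩, rfl⟩
    show (Z.submatrix f g).det ∈ CAlgX.minorIdeal Z m
    rw [Matrix.det_succ_row_zero]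
    refine Submodule.sum_mem _ fun j _ => Ideal.mul_mem_left _ _ ?_
    rw [Matrix.submatrix_submatrix]
    exact Ideal.subset_span ⟨(f ∘ Fin.succ, g ∘ j.succAbove), rfl⟩

/-- The minors of size at least `t` generate the `t`-th determinantal ideal. -/
theorem span_large (Z : Matrix (Fin r) (Fin d) S) (t : ℕ) :
    Ideal.span {f : S | ∃ θ : Idx d (d + r), t ≤ large θ ∧ f = pl (K := K) (bigMat Z) (X θ)} =
      CAlgX.minorIdeal Z t := by
  classical
  refine le_antisymm (Ideal.span_le.2 ?_) (Ideal.span_le.2 ?_)
  · rintro _ ⟨θ, ht, rfl⟩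
    obtain ⟨A, B, e⟩ := exists_cidx θ
    rw [← e, pl_cidx]
    refine Ideal.mul_mem_left _ _ (minorIdeal_anti Z ht ?_)
    exact Ideal.subset_span ⟨(fun i => Fin.rev (A.1 i), B.1), rfl⟩
  · rintro _ ⟨⟨f, g⟩, rfl⟩
    show (Z.submatrix f g).det ∈ _
    by_cases hf : Function.Injective f
    swap
    · rw [Function.Injective] at hf
      push_neg at hf
      obtain ⟨x, y, e, hne⟩ := hf
      rw [Matrix.det_zero_of_row_eq hne (funext fun j => by simp [e])]
      exact zero_mem _
    by_cases hg : Function.Injective g
    swap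
    · rw [Function.Injective] at hg
      push_neg at hg
      obtain ⟨x, y, e, hne⟩ := hg
      rw [Matrix.det_zero_of_column_eq hne fun i => by simp [e]]
      exact zero_mem _
    let f' : Fin t → Fin r := fun i => Fin.rev (f i)
    have hf' : (univ.image f').card = t := by
      rw [card_image_of_injective _ (fun a b h => hf (Fin.rev_injective h) : Function.Injective f'), card_univ, Fintype.card_fin]
    have hg' : (univ.image g).card = t := by rw [card_image_of_injective _ hg, card_univ, Fintype.card_fin]
    let A := sortIdx t r f' hf'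
    let B := sortIdx t d g hg'
    have hperm : ∀ {n : ℕ} (a : Fin t → Fin n) (h : (univ.image a).card = t),
        ∃ σ : Equiv.Perm (Fin t), ∀ i, a i = (sortIdx t n a h).1 (σ i) := by
      intro n a h
      have ha := injective_of_card h
      have hm : ∀ i, ∃ j, (sortIdx t n a h).1 j = a i := fun i => by
        have : a i ∈ Set.range (Finset.orderEmbOfFin _ h) := by rw [Finset.range_orderEmbOfFin]; simp
        exact this
      choose s hs using hm
      have hsinj : Function.Injective s := fun x y e => ha (by rw [← hs x, ← hs y, e])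
      exact ⟨Equiv.ofBijective s (Finite.injective_iff_bijective.1 hsinj), fun i => (hs i).symm⟩
    obtain ⟨σ, hσ⟩ := hperm f' hf'
    obtain ⟨π, hπ⟩ := hperm g hg'
    have e : Z.submatrix f g = ((Z.submatrix (fun i => Fin.rev (A.1 i)) B.1).submatrix σ id).submatrix id π := by
      ext i j
      simp only [Matrix.submatrix_apply, id, A, B]
      rw [← hσ, ← hπ]
      simp [f']
    rw [e, Matrix.det_permute', Matrix.det_permute]
    refine Ideal.mul_mem_left _ _ (Ideal.mul_mem_left _ _ ?_)
    rw [show (Z.submatrix (fun i => Fin.rev (A.1 i)) B.1).det = csign A B * pl (K := K) (bigMat Z) (X (cidx A B)) by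
      rw [pl_cidx, csign, ← mul_assoc, ← mul_pow, neg_one_mul, neg_neg, one_pow, one_mul]]
    exact Ideal.mul_mem_left _ _ (Ideal.subset_span ⟨cidx A B, (large_cidx A B).ge, rfl⟩)

lemma le_large_iff (θ : Idx d (d + r)) {t : ℕ} (ht : 0 < t) (htd : t ≤ d) :
    t ≤ large θ ↔ d ≤ (θ.1 ⟨d - t, by omega⟩).val := by
  have h := large_eq θ (hd := by omega)
  rw [← not_lt, ← not_lt]
  refine not_congr ?_
  have h2 := lt_cnt_iff θ ⟨d - 1, by omega⟩ ⟨d - t, by omega⟩
  rw [Fin.le_def] at h2
  dsimp only at h2
  omega

end LeadGrass
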