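import Groth.Agent.Lead.Grass.Minors

/-! Standard bitableaux. -/

noncomputable section

open MvPolynomial W4bk4grassmannian Finset

universe u

namespace LeadGrass

variable {K : Type u} [Field K] {m n : ℕ}

/-- The Plücker index of a minor. -/
def midx (M : MinorIdx m n) : Idx n (n + m) := cidx M.2.1 M.2.2

lemma minorGE_iff (M M' : MinorIdx m n) : MinorGE M M' ↔ midx M ≤ midx M' := by
  rw [midx, midx, cidx_le_iff, MinorGE]
  exact and_congr (by omega) Iff.rfl

lemma midx_inj : Function.Injective (midx : MinorIdx m n → Idx n (n + m)) := by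
  rintro ⟨s, A, B⟩ ⟨s', A', B'⟩ h
  have h1 := large_cidx A B
  rw [show cidx A B = cidx A' B' from h, large_cidx] at h1
  obtain rfl : s' = s := by omega
  obtain ⟨rfl, rfl⟩ := cidx_inj h
  rfl

lemma exists_midx (θ : Idx n (n + m)) (h : 0 < large θ) : ∃ M : MinorIdx m n, midx M = θ ∧ M.1 + 1 = large θ := by
  obtain ⟨A, B, e⟩ := exists_cidx θ
  generalize large θ = L at A B e h
  obtain ⟨s, rfl⟩ : ∃ s, L = s + 1 := ⟨L - 1, by omega⟩
  exact ⟨⟨s, A, B⟩, e, rfl⟩

variable [Infinite K]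

theorem bitableaux (t : ℕ) (hn : 0 < n) (ht : 1 ≤ t) (htmn : t ≤ min m n + 1) :
    LinearIndependent K (fun c : (Σ k : ℕ, {c : Fin k → MinorIdx m n //
        (∀ i, (c i).1 + 1 ≤ t - 1) ∧ ∀ i j, i < j → MinorGE (c i) (c j)}) =>
        Ideal.Quotient.mk (CAlgX.minorIdeal (genMatrix K m n) t)
          (Finset.univ.prod fun i => minorOf K (c.2.1 i))) ∧
      Submodule.span K (Set.range fun c : (Σ k : ℕ, {c : Fin k → MinorIdx m n //
        (∀ i, (c i).1 + 1 ≤ t - 1) ∧ ∀ i j, i < j → MinorGE (c i) (c j)}) =>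
        Ideal.Quotient.mk (CAlgX.minorIdeal (genMatrix K m n) t)
          (Finset.univ.prod fun i => minorOf K (c.2.1 i))) = ⊤ := by
  classical
  obtain ⟨e, rfl⟩ : ∃ e, t = e + 1 := ⟨t - 1, by omega⟩
  show LinearIndependent K (fun c : (Σ k : ℕ, {c : Fin k → MinorIdx m n // (∀ i, (c i).1 + 1 ≤ e) ∧ ∀ i j, i < j → MinorGE (c i) (c j)}) => Ideal.Quotient.mk (CAlgX.minorIdeal (genMatrix K m n) (e + 1)) (Finset.univ.prod fun i => minorOf K (c.2.1 i))) ∧ Submodule.span K (Set.range fun c : (Σ k : ℕ, {c : Fin k → MinorIdx m n // (∀ i, (c i).1 + 1 ≤ e) ∧ ∀ i j, i < j → MinorGE (c i) (c j)}) => Ideal.Quotient.mk (CAlgX.minorIdeal (genMatrix K m n) (e + 1)) (Finset.univ.prod fun i => minorOf K (c.2.1 i))) = ⊤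
  have hb := core_basis (K := K) (d := n) (r := m) hn (e := e) (by omega) (by omega)
  let T := Σ k : ℕ, {c : Fin k → MinorIdx m n // (∀ i, (c i).1 + 1 ≤ e) ∧ ∀ i j, i < j → MinorGE (c i) (c j)}
  let φ : T → Core n m e := fun c => ⟨c.1, fun i => midx (c.2.1 (Fin.rev i)), fun a b hab => by
      rcases eq_or_lt_of_le hab with rfl | hlt
      · exact le_rfl
      · exact (minorGE_iff _ _).1 (c.2.2.2 _ _ (Fin.rev_lt_rev.2 hlt)),
    fun i => ⟨by dsimp only; rw [midx, large_cidx]; omega, by dsimp only; rw [midx, large_cidx]; exact c.2.2.1 _⟩⟩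
  have hφ : Function.Bijective φ := by
    constructor
    · rintro ⟨k, c, hc⟩ ⟨k', c', hc'⟩ h
      have hk := (Sigma.mk.inj h).1
      simp only [φ] at hk
      subst hk
      have h2 := congrArg Subtype.val (eq_of_heq (Sigma.mk.inj h).2)
      have : c = c' := funext fun i => midx_inj (by simpa using congrFun h2 (Fin.rev i))
      subst this
      rfl
    · rintro ⟨k, c, hc, hp⟩
      choose M hM hMs using fun i => exists_midx (c i) (hp i).1
      refine ⟨⟨k, fun i => M (Fin.rev i), fun i => ?_, fun i j hij => ?_⟩, ?_⟩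
      · rw [hMs]; exact (hp _).2
      · rw [minorGE_iff, hM, hM]; exact hc (Fin.rev_lt_rev.2 hij).le
      · simp only [φ, Fin.rev_rev, hM]
  have hval : ∀ c : T, ∃ u : Kˣ, Ideal.Quotient.mk (CAlgX.minorIdeal (genMatrix K m n) (e + 1))
      (phi K n m (chainMon K (φ c).2.1)) = u • Ideal.Quotient.mk (CAlgX.minorIdeal (genMatrix K m n) (e + 1))
        (Finset.univ.prod fun i => minorOf K (c.2.1 i)) := by
    intro c
    refine ⟨∏ i, (-1) ^ invCount n (n + m) (rowsAB (c.2.1 i).2.1 (c.2.1 i).2.2), ?_⟩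
    rw [Units.smul_def, ← Ideal.Quotient.mkₐ_eq_mk K, ← map_smul]
    congr 1
    rw [chainMon, map_prod]
    show ∏ i, phi K n m (X (midx (c.2.1 (Fin.rev i)))) = _
    rw [Fintype.prod_bijective Fin.rev Fin.rev_bijective _ (fun i => phi K n m (X (midx (c.2.1 i)))) fun i => rfl,
      Algebra.smul_def, Units.coe_prod, map_prod, ← prod_mul_distrib]
    refine prod_congr rfl fun i _ => ?_
    rw [midx, phi_cidx, csign, minorOf]
    simp
  choose u hu using hval
  constructor
  · have h := ((hb.1.comp φ hφ.1).units_smul fun c => (u c)⁻¹)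
    convert h using 1
    funext c
    rw [Pi.smul_apply']
    rw [Function.comp_apply, hu, inv_smul_smul]
  · rw [eq_top_iff, ← hb.2, Submodule.span_le]
    rintro _ ⟨c, rfl⟩
    obtain ⟨c', rfl⟩ := hφ.2 c
    show Ideal.Quotient.mk _ (phi K n m (chainMon K (φ c').2.1)) ∈ _
    rw [hu, Units.smul_def]
    exact Submodule.smul_mem _ _ (Submodule.subset_span ⟨c', rfl⟩)

end LeadGrass
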