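import Groth.Agent.Lead.Grass.FreeBasis
import Groth.Agent.Lead.CM.Free

/-! Schubert cones and their divisor unions are Cohen–Macaulay. -/

noncomputable section

open MvPolynomial W4bk4grassmannian Finset

universe u

namespace LeadGrass

variable {K : Type u} [Field K] {d n : ℕ}

theorem cm_tRing (P : Tops d n) (hd : 0 < d) (hne : P.T.Nonempty) : LocCoh.IsCohenMacaulayRing (TRing K P) := by
  letI := (params K P).toRingHom.toAlgebra
  obtain ⟨h1, h2⟩ := free_over_params (K := K) P hd hne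
  exact LeadCM.cm_of_finite_flat (P := MvPolynomial (Fin (P.D + 1)) K)

lemma tIdeal_single (τ : Idx d n) : tIdeal K (Tops.single τ) = plIdeal K τ :=
  le_antisymm (iInf_le (fun t : (Tops.single τ).T => plIdeal K t.1) ⟨τ, mem_singleton.2 rfl⟩)
    (le_iInf fun t => by rw [mem_singleton.1 t.2])

theorem cm_schubert [Infinite K] (hd : 0 < d) (τ : Idx d n) :
    LocCoh.IsCohenMacaulayRing (PlRing K d n ⧸ schubertVanishing K d n τ) := by
  rw [← plIdeal_eq_vanishing K hd, ← tIdeal_single]
  exact cm_tRing _ hd ⟨τ, mem_singleton.2 rfl⟩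

theorem cm_union [Infinite K] (hd : 0 < d) (τ : Idx d n) {s : ℕ} (φ : Fin s → Idx d n)
    (hφ : ∀ i, φ i ∈ divisors τ) :
    LocCoh.IsCohenMacaulayRing (PlRing K d n ⧸ ⨅ i, schubertVanishing K d n (φ i)) := by
  classical
  rcases Nat.eq_zero_or_pos s with rfl | hs
  · rw [iInf_of_empty]
    haveI : Subsingleton (PlRing K d n ⧸ (⊤ : Ideal (PlRing K d n))) := Ideal.Quotient.subsingleton_iff.2 rfl
    exact { isCohenMacaulayLocalRing_localization := fun p hp => absurd (Subsingleton.elim (α := Ideal _) p ⊤) hp.ne_top }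
  let P := Tops.ofDivisors τ (univ.image φ) (fun t ht => by
    obtain ⟨i, -, rfl⟩ := mem_image.1 ht
    exact hφ i)
  have h : tIdeal K P = ⨅ i, schubertVanishing K d n (φ i) := by
    refine le_antisymm (le_iInf fun i => ?_) (le_iInf fun t => ?_)
    · rw [← plIdeal_eq_vanishing K hd]
      exact iInf_le (fun t : P.T => plIdeal K t.1) ⟨φ i, mem_image_of_mem _ (mem_univ i)⟩
    · obtain ⟨t, ht⟩ := t
      obtain ⟨i, -, rfl⟩ := mem_image.1 ht
      rw [plIdeal_eq_vanishing K hd]
      exact iInf_le _ i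
  rw [← h]
  exact cm_tRing _ hd ⟨φ ⟨0, hs⟩, mem_image_of_mem _ (mem_univ _)⟩

end LeadGrass
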