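import Groth.Agent.Lead.Grass.Varieties
import Groth.Agent.Segre.Param

/-! The open cell of a Schubert variety: dimension and normality. -/

noncomputable section

open MvPolynomial W4bk4grassmannian Finset

universe u

namespace LeadGrass

variable {K : Type u} [Field K] {d n : ℕ}

/-- Free positions of the cell. -/
abbrev CellIdx (τ : Idx d n) : Type := {p : Fin n × Fin d // p.1 < τ.1 p.2 ∧ ∀ a, p.1 ≠ τ.1 a}

variable (K) in
/-- Coordinate ring of the cone over the cell. -/
abbrev Cell (τ : Idx d n) : Type u := MvPolynomial (Option (CellIdx τ)) K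

variable (K) in
/-- The normal form of a matrix in the cell. -/
def cellMat (τ : Idx d n) : Matrix (Fin n) (Fin d) (Cell K τ) :=
  Matrix.of fun i j => if i = τ.1 j then 1 else if h : i < τ.1 j ∧ ∀ a, i ≠ τ.1 a then X (some ⟨(i, j), h⟩) else 0

variable (K) in
/-- The cone coordinates. -/
def cell (τ : Idx d n) : PlRing K d n →ₐ[K] Cell K τ :=
  aeval fun θ => X none * ((cellMat K τ).submatrix θ.1 id).det

lemma cellMat_pivot (τ : Idx d n) : (cellMat K τ).submatrix τ.1 id = 1 := by
  ext a b
  simp only [Matrix.submatrix_apply, id, cellMat, Matrix.of_apply, Matrix.one_apply]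
  by_cases h : a = b
  · subst h; simp
  · rw [if_neg h, if_neg (fun e => h (τ.2.injective e)), dif_neg (fun hc => hc.2 a rfl)]

lemma cellMat_upper (τ : Idx d n) (i : Fin n) (j : Fin d) (h : ¬ i ≤ τ.1 j) : cellMat K τ i j = 0 := by
  simp only [cellMat, Matrix.of_apply]
  rw [if_neg (fun e => h e.le), dif_neg (fun hc => h hc.1.le)]

lemma cell_top (τ : Idx d n) : cell K τ (X τ) = X none := by
  rw [cell, aeval_X, cellMat_pivot, Matrix.det_one, mul_one]

lemma cell_coord (τ : Idx d n) (a : Fin d → Fin n) :
    cell K τ (coord K d n a) = X none * ((cellMat K τ).submatrix a id).det := by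
  rw [← pl_coord (K := K) (cellMat K τ) a]
  unfold coord
  split_ifs with h
  · simp only [map_mul, map_pow, map_neg, map_one, cell, aeval_X, pl_X]; ring
  · simp

lemma cell_z (τ : Idx d n) (q : CellIdx τ) :
    ∃ f : PlRing K d n, cell K τ f = X none * X (some q) := by
  obtain ⟨⟨s, t⟩, hs⟩ := q
  refine ⟨coord K d n (Function.update τ.1 t s), ?_⟩
  rw [cell_coord]
  congr 1
  have : (cellMat K τ).submatrix (Function.update τ.1 t s) id =
      (1 : Matrix (Fin d) (Fin d) (Cell K τ)).updateRow t (∑ k, cellMat K τ s k • (1 : Matrix (Fin d) (Fin d) (Cell K τ)) k) := by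
    ext a b
    by_cases ha : a = t
    · subst ha
      simp [Matrix.updateRow_self, Matrix.one_apply]
    · rw [Matrix.updateRow_ne ha, ← cellMat_pivot τ]
      simp [Function.update_of_ne ha]
  rw [this, Matrix.det_updateRow_sum, Matrix.det_one, smul_eq_mul, mul_one]
  simp only [cellMat, Matrix.of_apply]
  rw [if_neg (fun e => hs.2 t e), dif_pos hs]

lemma exists_pow_mem (τ : Idx d n) (s : Cell K τ) : ∃ N, X none ^ N * s ∈ (cell K τ).range := by
  have hy : (X none : Cell K τ) ∈ (cell K τ).range := ⟨X τ, cell_top τ⟩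
  induction s using MvPolynomial.induction_on with
  | C a => exact ⟨0, by rw [pow_zero, one_mul]; exact (cell K τ).range.algebraMap_mem a⟩
  | add p q hp hq =>
    obtain ⟨a, ha⟩ := hp
    obtain ⟨b, hb⟩ := hq
    refine ⟨a + b, ?_⟩
    rw [mul_add]
    refine add_mem ?_ ?_
    · rw [add_comm a, pow_add, mul_assoc]; exact mul_mem (pow_mem hy b) ha
    · rw [pow_add, mul_assoc]; exact mul_mem (pow_mem hy a) hb
  | mul_X p o hp =>
    obtain ⟨a, ha⟩ := hp
    cases o with
    | none => exact ⟨a, by rw [← mul_assoc]; exact mul_mem ha hy⟩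
    | some q =>
      refine ⟨a + 1, ?_⟩
      rw [show (X none : Cell K τ) ^ (a + 1) * (p * X (some q)) = (X none ^ a * p) * (X none * X (some q)) by ring]
      exact mul_mem ha (cell_z τ q)

lemma cell_eq_pl (τ : Idx d n) (hd : 0 < d) :
    cell K τ = pl (K := K) (Matrix.of fun i j => cellMat K τ i j * if j = ⟨0, hd⟩ then X none else 1) := by
  refine MvPolynomial.algHom_ext fun θ => ?_
  rw [pl_X, cell, aeval_X]
  have : (Matrix.of fun i j => cellMat K τ i j * if j = ⟨0, hd⟩ then (X none : Cell K τ) else 1).submatrix θ.1 id =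
      (cellMat K τ).submatrix θ.1 id * Matrix.diagonal (fun j : Fin d => if j = ⟨0, hd⟩ then (X none : Cell K τ) else 1) := by
    ext a b; simp [Matrix.mul_diagonal]
  rw [this, Matrix.det_mul, Matrix.det_diagonal, Finset.prod_ite_eq' univ, if_pos (mem_univ _), mul_comm]

/-- The kernel of the cone coordinates. -/
theorem ker_cell (τ : Idx d n) (hd : 0 < d) : RingHom.ker (cell K τ).toRingHom = plIdeal K τ := by
  classical
  refine le_antisymm (fun f hf => ?_) (Ideal.span_le.2 ?_)
  · rw [plIdeal_eq_ker K hd]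
    -- column operations on the generic matrix
    let F := FractionRing (MatRing K d n)
    have hinjF : Function.Injective (algebraMap (MatRing K d n) F) := IsFractionRing.injective _ _
    set M : Matrix (Fin n) (Fin d) F := (mat K τ).map (algebraMap (MatRing K d n) F) with hM
    set g : Matrix (Fin d) (Fin d) F := M.submatrix τ.1 id with hg
    have hdet : g.det ≠ 0 := by
      intro h0
      apply rho_ne K τ
      apply hinjF
      rw [map_zero, ← h0, rho, pl_X, RingHom.map_det, hg, hM]
      rfl
    haveI : Invertible g := g.invertibleOfIsUnitDet (IsUnit.mk0 _ hdet)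
    have hupper : g.BlockTriangular id := fun a b hab => by
      simp only [hg, hM, Matrix.submatrix_apply, id, Matrix.map_apply, mat, Matrix.of_apply]
      have hab' : b < a := hab
      rw [if_neg (τ.2 hab').not_ge, map_zero]
    have hinv : g⁻¹.BlockTriangular id := Matrix.blockTriangular_inv_of_blockTriangular hupper
    set B := M * g⁻¹ with hB
    let φ : Cell K τ →ₐ[K] F := aeval fun o => o.elim g.det fun q => B q.1.1 q.1.2
    have hpiv : ∀ a b, B (τ.1 a) b = (1 : Matrix (Fin d) (Fin d) F) a b := fun a b => by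
      have : B (τ.1 a) b = (g * g⁻¹) a b := by simp [hB, hg, Matrix.mul_apply]
      rw [this, Matrix.mul_nonsing_inv g (IsUnit.mk0 _ hdet)]
    have hmap : (cellMat K τ).map φ = B := by
      ext i j : 1
      simp only [Matrix.map_apply, cellMat, Matrix.of_apply]
      split_ifs with h1 h2
      · rw [map_one, h1, hpiv, Matrix.one_apply_eq]
      · simp [φ]
      · rw [map_zero]
        by_cases hr : ∃ a, i = τ.1 a
        · obtain ⟨a, rfl⟩ := hr
          rw [hpiv, Matrix.one_apply_ne (fun e => h1 (by rw [e]))]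
        · push_neg at hr
          symm
          rw [hB, Matrix.mul_apply]
          refine sum_eq_zero fun a _ => ?_
          by_cases hja : j < a
          · rw [hinv hja, mul_zero]
          · have hia : ¬ i ≤ τ.1 a := fun hc => h2 ⟨lt_of_le_of_ne (hc.trans (τ.2.monotone (not_lt.1 hja))) h1, hr⟩
            simp [hM, mat, hia]
    have hcomp : φ.comp (cell K τ) = (IsScalarTower.toAlgHom K (MatRing K d n) F).comp (rho K τ) := by
      refine MvPolynomial.algHom_ext fun θ => ?_
      rw [AlgHom.comp_apply, AlgHom.comp_apply, cell, aeval_X, map_mul, AlgHom.map_det, rho, pl_X]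
      show φ (X none) * (((cellMat K τ).submatrix θ.1 id).map φ).det = algebraMap (MatRing K d n) F _
      rw [← Matrix.submatrix_map, hmap, RingHom.map_det]
      have h2 : (algebraMap (MatRing K d n) F).mapMatrix ((mat K τ).submatrix θ.1 id) = B.submatrix θ.1 id * g := by
        rw [RingHom.mapMatrix_apply, ← Matrix.submatrix_map, ← hM]
        have : B * g = M := by rw [hB, Matrix.mul_assoc, Matrix.nonsing_inv_mul g (IsUnit.mk0 _ hdet), Matrix.mul_one]
        conv_lhs => rw [← this]
        ext a b
        simp [Matrix.mul_apply]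
      rw [h2, Matrix.det_mul, mul_comm]
      congr 1
      simp [φ]
    have h1 := congrArg (fun ψ : PlRing K d n →ₐ[K] F => ψ f) hcomp
    simp only [AlgHom.comp_apply] at h1
    rw [RingHom.mem_ker] at hf ⊢
    apply hinjF
    rw [map_zero]
    refine h1.symm.trans ?_
    rw [show cell K τ f = 0 from hf, map_zero]
  · rintro _ (⟨i, j, r, -, rfl⟩ | ⟨θ, hθ, rfl⟩)
    · show cell K τ _ = 0
      rw [cell_eq_pl τ hd]; exact pl_shuffleRel _ i j r
    · show cell K τ _ = 0
      rw [cell_eq_pl τ hd, pl_X]
      exact det_schubert _ τ (fun i j h => by simp [cellMat_upper τ i j h]) hθ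

/-- The coordinate ring as a subalgebra of the cell ring. -/
def toRange (τ : Idx d n) (hd : 0 < d) : (PlRing K d n ⧸ plIdeal K τ) ≃+* (cell K τ).range :=
  (Ideal.quotEquivOfEq (by rw [← ker_cell τ hd]; ext f; simp only [RingHom.mem_ker]; exact ⟨fun h => Subtype.ext h, fun h => congrArg Subtype.val h⟩)).trans
    (RingHom.quotientKerEquivOfSurjective (f := (cell K τ).rangeRestrict.toRingHom) (cell K τ).rangeRestrict_surjective)

lemma sup_span_radical (τ : Idx d n) (hd : 0 < d) : (plIdeal K τ ⊔ Ideal.span {X τ}).IsRadical := by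
  by_cases h : ∃ φ, φ < τ
  · rw [sup_span_eq_inter hd τ h]
    exact Ideal.isRadical_iInf _ fun φ => Ideal.isRadical_iInf _ fun _ => (plIdeal_isPrime K hd φ).isRadical
  · have hle : d ≤ n := by
      have h1 := val_le_top τ ⟨0, hd⟩
      simp at h1
      omega
    have hτ : τ = bot hle := by
      rcases eq_or_lt_of_le (bot_le hle τ) with e | e
      · exact e.symm
      · exact absurd ⟨_, e⟩ h
    subst hτ
    exact (bot_section_prime hd hle (bot hle)).isRadical

lemma saturate (τ : Idx d n) (hd : 0 < d) {u : Cell K τ} (hu : IsIntegral (cell K τ).range u)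
    (hyu : X none * u ∈ (cell K τ).range) : u ∈ (cell K τ).range := by
  set y : (cell K τ).range := ⟨X none, X τ, cell_top τ⟩
  set b : (cell K τ).range := ⟨X none * u, hyu⟩
  obtain ⟨p, hp, hp0⟩ := hu
  have h0 : b ^ p.natDegree ∈ Ideal.span {y} := by
    rw [Ideal.mem_span_singleton]
    refine ⟨-∑ i ∈ range p.natDegree, p.coeff i * b ^ i * y ^ (p.natDegree - i - 1), Subtype.ext ?_⟩
    rw [Polynomial.eval₂_eq_sum_range, sum_range_succ, hp.coeff_natDegree, map_one, one_mul] at hp0
    simp only [SubmonoidClass.coe_pow, mul_neg, NegMemClass.coe_neg, MulMemClass.coe_mul, AddSubmonoidClass.coe_finsetSum, mul_sum, b, y]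
    rw [mul_pow, eq_neg_iff_add_eq_zero]
    have e : ∀ i ∈ range p.natDegree, X none * ((p.coeff i : Cell K τ) * (X none * u) ^ i * X none ^ (p.natDegree - i - 1)) =
        X none ^ p.natDegree * ((p.coeff i : Cell K τ) * u ^ i) := by
      intro i hi
      rw [mem_range] at hi
      obtain ⟨e, he⟩ : ∃ e, p.natDegree = i + e + 1 := ⟨p.natDegree - i - 1, by omega⟩
      rw [he, show i + e + 1 - i - 1 = e by omega]
      ring
    rw [sum_congr rfl e, ← mul_sum, ← mul_add, add_comm]
    simp only [Subalgebra.algebraMap_def, Algebra.algebraMap_self, RingHom.id_apply] at hp0 ⊢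
    rw [show ∀ (z : Cell K τ), z = 0 → X none ^ p.natDegree * z = 0 from fun z hz => by rw [hz, mul_zero]]
    exact hp0
  obtain ⟨fb, hfb⟩ := (cell K τ).rangeRestrict_surjective b
  obtain ⟨⟨c, fc, rfl⟩, hc⟩ := Ideal.mem_span_singleton.1 h0
  have hmem : fb ^ p.natDegree ∈ plIdeal K τ ⊔ Ideal.span {X τ} := by
    have : fb ^ p.natDegree - X τ * fc ∈ plIdeal K τ := by
      rw [← ker_cell τ hd, RingHom.mem_ker]
      show cell K τ _ = 0
      rw [map_sub, map_pow, map_mul, cell_top, sub_eq_zero, show cell K τ fb = (b : Cell K τ) from congrArg Subtype.val hfb]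
      exact congrArg Subtype.val hc
    have h2 := Ideal.add_mem _ (Ideal.mem_sup_left this)
      (Ideal.mem_sup_right (Ideal.mul_mem_right fc _ (Ideal.subset_span rfl) : X τ * fc ∈ Ideal.span {X τ}))
    simpa using h2
  obtain ⟨a, ha, c', hc', hac⟩ := Submodule.mem_sup.1 (sup_span_radical τ hd ⟨_, hmem⟩)
  obtain ⟨g, rfl⟩ := Ideal.mem_span_singleton.1 hc'
  refine ⟨g, mul_left_cancel₀ (X_ne_zero (R := K) none) ?_⟩
  show X none * cell K τ g = _
  have : cell K τ fb = X none * u := congrArg Subtype.val hfb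
  rw [← this, ← hac, map_add, map_mul, cell_top, show cell K τ a = 0 from ?_, zero_add]
  rw [← ker_cell τ hd] at ha
  exact ha

/-- Normality of the cone. -/
theorem range_normal (τ : Idx d n) (hd : 0 < d) : IsIntegrallyClosed (cell K τ).range := by
  set T := (cell K τ).range
  let FT := FractionRing T
  let FS := FractionRing (Cell K τ)
  let j : FT →+* FS := IsFractionRing.lift (A := T) (g := (algebraMap (Cell K τ) FS).comp T.val.toRingHom)
    ((IsFractionRing.injective (Cell K τ) FS).comp Subtype.val_injective)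
  rw [isIntegrallyClosed_iff FT]
  intro x hx
  have hj : ∀ t : T, j (algebraMap T FT t) = algebraMap (Cell K τ) FS (t : Cell K τ) := fun t =>
    IsLocalization.lift_eq _ t
  obtain ⟨p, hp, hp0⟩ := hx
  have hjx : IsIntegral (Cell K τ) (j x) := by
    refine ⟨p.map T.val.toRingHom, hp.map _, ?_⟩
    rw [Polynomial.eval₂_map]
    have : (algebraMap (Cell K τ) FS).comp T.val.toRingHom = j.comp (algebraMap T FT) := RingHom.ext fun t => (hj t).symm
    rw [this, ← Polynomial.hom_eval₂, hp0, map_zero]
  obtain ⟨s, hs⟩ := IsIntegrallyClosed.isIntegral_iff.1 hjx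
  have hint : IsIntegral T s := by
    refine ⟨p, hp, IsFractionRing.injective (Cell K τ) FS ?_⟩
    rw [Polynomial.hom_eval₂, map_zero, hs]
    have : (algebraMap (Cell K τ) FS).comp (algebraMap T (Cell K τ)) = j.comp (algebraMap T FT) := RingHom.ext fun t => (hj t).symm
    rw [this, ← Polynomial.hom_eval₂, hp0, map_zero]
  have hsT : s ∈ T := by
    obtain ⟨N, hN⟩ := exists_pow_mem τ s
    clear hs
    induction N generalizing s with
    | zero => rw [pow_zero, one_mul] at hN; exact hN
    | succ N ih =>
      refine ih s hint (saturate τ hd ?_ ?_)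
      · exact (isIntegral_algebraMap (R := T) (x := ⟨X none, X τ, cell_top τ⟩)).pow N |>.mul hint
      · rw [← mul_assoc, ← pow_succ']; exact hN
  exact ⟨⟨s, hsT⟩, j.injective (by rw [hj]; exact hs)⟩

theorem normal (τ : Idx d n) (hd : 0 < d) : IsIntegrallyClosed (PlRing K d n ⧸ plIdeal K τ) := by
  haveI := range_normal (K := K) τ hd
  exact IsIntegrallyClosed.of_equiv (toRange τ hd).symm

lemma card_cellIdx (τ : Idx d n) : Fintype.card (CellIdx τ) = codeg τ := by
  classical
  rw [Fintype.card_subtype, codeg]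
  rw [show (univ.filter fun p : Fin n × Fin d => p.1 < τ.1 p.2 ∧ ∀ a, p.1 ≠ τ.1 a).card =
    ∑ t : Fin d, ((Iio (τ.1 t)) \ (univ.image τ.1)).card by
      rw [← card_sigma]
      refine card_bij (fun p _ => ⟨p.2, p.1⟩) (fun p hp => ?_) (fun p _ q _ h => ?_) (fun q hq => ?_)
      · simp at hp ⊢; exact ⟨hp.1, fun x hx => hp.2 x hx.symm⟩
      · simp only [Sigma.mk.injEq, heq_eq_eq] at h; exact Prod.ext h.2 h.1
      · exact ⟨(q.2, q.1), by simp at hq ⊢; exact ⟨hq.1, fun x hx => hq.2 x hx.symm⟩, rfl⟩]
  refine sum_congr rfl fun t _ => ?_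
  rw [card_sdiff, Fin.card_Iio]
  congr 1
  rw [show univ.image τ.1 ∩ Iio (τ.1 t) = (Iio t).image τ.1 by
    ext x
    simp only [mem_inter, mem_image, mem_univ, true_and, mem_Iio]
    exact ⟨fun ⟨⟨a, ha⟩, hx⟩ => ⟨a, τ.2.lt_iff_lt.1 (ha ▸ hx), ha⟩, fun ⟨a, ha, he⟩ => ⟨⟨a, he⟩, he ▸ τ.2 ha⟩⟩,
    card_image_of_injective _ τ.2.injective, Fin.card_Iio]

lemma exists_series (hd : 0 < d) (hle : d ≤ n) (τ : Idx d n) : ∀ φ : Idx d n, φ ≤ τ →
    ∃ s : LTSeries (PrimeSpectrum (PlRing K d n)), s.length = codeg φ + 1 ∧ s.head.asIdeal = plIdeal K φ := by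
  intro φ
  induction φ using (Finite.to_wellFoundedLT (α := Idx d n)).wf.induction with
  | _ φ ih =>
    intro hφ
    by_cases hb : φ = bot hle
    · subst hb
      have hc : codeg (bot hle) = 0 := by simp [codeg, bot]
      set m : Ideal (PlRing K d n) := RingHom.ker (aeval fun _ => (0 : K) : PlRing K d n →ₐ[K] K).toRingHom
      haveI := plIdeal_isPrime K hd (bot hle)
      have hm : m.IsPrime := RingHom.ker_isPrime _
      have hlt : plIdeal K (bot hle) < m := by
        refine lt_of_le_of_ne (fun f hf => ?_) fun e => ?_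
        · have h1 := congrArg (stdFam K hd).ε (plIdeal_le_ker K le_rfl hf : rho K (bot hle) f = 0)
          rw [map_zero] at h1
          show aeval (fun _ => (0 : K)) f = 0
          have e : (stdFam K hd).ε.comp (rho K (bot hle)) = aeval (fun _ => (0 : K)) :=
            MvPolynomial.algHom_ext fun θ => by
              rw [aeval_X, AlgHom.comp_apply]
              exact (stdFam K hd).εX (bot hle) trivial θ
          rw [← e]
          exact h1
        · have : X (bot hle) ∈ m := by simp [m]
          rw [← e] at this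
          exact rho_ne K (bot hle) (plIdeal_le_ker K le_rfl this)
      exact ⟨(RelSeries.singleton _ (⟨plIdeal K (bot hle), inferInstance⟩ : PrimeSpectrum _)).snoc ⟨m, hm⟩ hlt,
        by simp [hc], by simp⟩
    · obtain ⟨δ, hδ, -⟩ := exists_divisor_ge (lt_of_le_of_ne (bot_le hle φ) (Ne.symm hb))
      obtain ⟨s, hs, hh⟩ := ih δ hδ.1 (hδ.1.le.trans hφ)
      have hlt : (⟨plIdeal K φ, plIdeal_isPrime K hd φ⟩ : PrimeSpectrum _) < s.head := by
        show plIdeal K φ < s.head.asIdeal
        rw [hh]
        refine lt_of_le_of_ne ?_ fun e => ?_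
        · refine Ideal.span_mono (Set.union_subset_union_right _ ?_)
          rintro _ ⟨θ, hθ, rfl⟩; exact ⟨θ, fun h => hθ (h.trans hδ.1.le), rfl⟩
        · have h2 := X_mem_plIdeal K hδ.1.not_ge
          rw [← e] at h2
          exact rho_ne K φ (plIdeal_le_ker K le_rfl h2)
      exact ⟨s.cons _ hlt, by simp [hs]; have := hδ.2; omega, by simp⟩

theorem dim (τ : Idx d n) (hd : 0 < d) :
    ringKrullDim (PlRing K d n ⧸ plIdeal K τ) = ((codeg τ + 1 : ℕ) : WithBot ℕ∞) := by
  classical
  refine le_antisymm ?_ ?_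
  · set T := (cell K τ).range
    rw [ringKrullDim_eq_of_ringEquiv (toRange τ hd)]
    haveI : Algebra.FiniteType K T := Algebra.FiniteType.of_surjective (cell K τ).rangeRestrict (cell K τ).rangeRestrict_surjective
    obtain ⟨s, g, hg, hfin⟩ := exists_finite_inj_algHom_of_fg K T
    rw [← Groth.Agent.Segre.Param.ringKrullDim_eq_of_isIntegral g.toRingHom hfin.to_isIntegral hg,
      MvPolynomial.ringKrullDim_of_isNoetherianRing, ringKrullDim_eq_zero_of_field, zero_add]
    have h := lift_trdeg_le_of_injective (T.val.comp g) (Subtype.val_injective.comp hg)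
    rw [MvPolynomial.trdeg_of_isDomain, MvPolynomial.trdeg_of_isDomain] at h
    simp [Cardinal.mk_fintype, card_cellIdx] at h
    simp only [Nat.card_eq_fintype_card, Fintype.card_fin]
    exact_mod_cast h
  · have hle : d ≤ n := by
      have h1 := val_le_top τ ⟨0, hd⟩
      simp at h1
      omega
    obtain ⟨s, hs, hh⟩ := exists_series (K := K) hd hle τ τ le_rfl
    have hcont : ∀ i, plIdeal K τ ≤ (s i).asIdeal := fun i => hh ▸ s.monotone (Fin.zero_le i)
    let t : LTSeries (PrimeSpectrum (PlRing K d n ⧸ plIdeal K τ)) := LTSeries.mk s.length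
      (fun i => ⟨(s i).asIdeal.map (Ideal.Quotient.mk _),
        Ideal.map_isPrime_of_surjective Ideal.Quotient.mk_surjective (by rw [Ideal.mk_ker]; exact hcont i)⟩)
      (fun i j hij => by
        show (s i).asIdeal.map _ < (s j).asIdeal.map _
        refine lt_of_le_of_ne (Ideal.map_mono (s.monotone hij.le)) fun e => ?_
        have e' := congrArg (Ideal.comap (Ideal.Quotient.mk (plIdeal K τ))) e
        rw [Ideal.comap_map_of_surjective _ Ideal.Quotient.mk_surjective, Ideal.comap_map_of_surjective _ Ideal.Quotient.mk_surjective,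
          ← RingHom.ker_eq_comap_bot, Ideal.mk_ker, sup_eq_left.2 (hcont i), sup_eq_left.2 (hcont j)] at e'
        exact (s.strictMono hij).ne (PrimeSpectrum.ext e'))
    have := Order.LTSeries.length_le_krullDim t
    rw [show t.length = codeg τ + 1 from hs] at this
    exact this

end LeadGrass
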