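import Groth.Prelude.Def_W4bk4grassmannianPl
import Mathlib

/-! Signed Plücker coordinates as minors, and the shuffle identity. -/

noncomputable section

open MvPolynomial W4bk4grassmannian Finset

universe u v

namespace LeadGrass

variable {K : Type u} [CommRing K] {d n : ℕ} {S : Type v} [CommRing S] [Algebra K S]

/-- Evaluation of the Plücker variables at the minors of a matrix over a `K`-algebra. -/
def pl (M : Matrix (Fin n) (Fin d) S) : PlRing K d n →ₐ[K] S :=
  MvPolynomial.aeval fun θ : Idx d n => (M.submatrix θ.1 id).det

@[simp] lemma pl_X (M : Matrix (Fin n) (Fin d) S) (θ : Idx d n) :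
    pl (K := K) M (X θ) = (M.submatrix θ.1 id).det := by simp [pl]

lemma pl_comp {T : Type*} [CommRing T] [Algebra K T] (φ : S →ₐ[K] T) (M : Matrix (Fin n) (Fin d) S)
    (f : PlRing K d n) : φ (pl M f) = pl (M.map φ) f := by
  rw [pl, pl, ← AlgHom.comp_apply, comp_aeval]
  congr 1
  ext θ : 1
  rw [aeval_X, aeval_X, AlgHom.map_det]
  rfl

lemma evalMinors_eq (A : Matrix (Fin n) (Fin d) K) : evalMinors K d n A = pl A := rfl

lemma pluckerMap_eq : pluckerMap K d n = pl (Matrix.of fun i j => (X (i, j) : MatRing K d n)) := rfl

lemma injective_of_card {a : Fin d → Fin n} (h : (univ.image a).card = d) : Function.Injective a :=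
  card_image_iff.1 (by rw [h, card_univ, Fintype.card_fin]) |> fun h' x y e => h' (mem_univ x) (mem_univ y) e

lemma sign_sort {a : Fin d → Fin n} (σ : Equiv.Perm (Fin d)) {b : Fin d → Fin n} (hb : StrictMono b)
    (hab : ∀ t, a t = b (σ t)) : (Equiv.Perm.sign σ : ℤ) = (-1) ^ invCount d n a := by
  rw [σ.sign_eq_prod_prod_Iio, invCount]
  have h : ∀ x y : Fin d, a x < a y ↔ σ x < σ y := fun x y => by rw [hab, hab, hb.lt_iff_lt]
  simp only [Units.coe_prod, apply_ite (fun z : ℤˣ => (z : ℤ)), Units.val_one, Units.val_neg]
  rw [← Finset.prod_const, Finset.prod_filter, Fintype.prod_prod_type, Finset.prod_comm]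
  refine Finset.prod_congr rfl fun j _ => ?_
  rw [← Finset.prod_subset (subset_univ (Iio j)) (fun x _ hx => by
    rw [if_neg]; exact fun hc => hx (mem_Iio.2 hc.1))]
  refine Finset.prod_congr rfl fun i hi => ?_
  rw [mem_Iio] at hi
  have hne : σ i ≠ σ j := fun e => hi.ne (σ.injective e)
  simp only [hi, true_and, h]
  rcases lt_or_gt_of_ne hne with h' | h'
  · rw [if_pos h', if_neg h'.not_gt]
  · rw [if_neg h'.not_gt, if_pos h']

/-- The signed coordinate is the minor on the rows in the given order. -/
lemma pl_coord (M : Matrix (Fin n) (Fin d) S) (a : Fin d → Fin n) :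
    pl M (coord K d n a) = (M.submatrix a id).det := by
  unfold coord
  split_ifs with h
  · set b := (sortIdx d n a h).1
    have hinj := injective_of_card h
    have hmem : ∀ t, ∃ s, b s = a t := fun t => by
      have : a t ∈ Set.range (Finset.orderEmbOfFin _ h) := by
        rw [Finset.range_orderEmbOfFin]; simp
      exact this
    choose s hs using hmem
    have hsinj : Function.Injective s := fun x y e => hinj (by rw [← hs x, ← hs y, e])
    let σ : Equiv.Perm (Fin d) := Equiv.ofBijective s (Finite.injective_iff_bijective.1 hsinj)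
    have hab : ∀ t, a t = b (σ t) := fun t => (hs t).symm
    rw [show (M.submatrix a id) = (M.submatrix b id).submatrix σ id by ext i j; simp [hab],
      Matrix.det_permute, sign_sort σ (sortIdx d n a h).2 hab, map_mul, map_pow, map_neg, map_one, pl_X]
    simp [b]
  · rw [map_zero]
    symm
    have : ¬ Function.Injective a := fun hi => h (by rw [card_image_of_injective _ hi, card_univ, Fintype.card_fin])
    rw [Function.Injective] at this
    push_neg at this
    obtain ⟨x, y, e, hne⟩ := this
    exact Matrix.det_zero_of_row_eq hne (funext fun j => by simp [e])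

/-- A multilinear map vanishing when two adjacent arguments agree vanishes when any two agree. -/
lemma zero_of_adjacent {R V P : Type*} [CommRing R] [AddCommGroup V] [Module R V] [AddCommGroup P] [Module R P]
    {N : ℕ} (f : MultilinearMap R (fun _ : Fin N => V) P)
    (hf : ∀ (v : Fin N → V) (k l : Fin N), k.val + 1 = l.val → v k = v l → f v = 0) :
    ∀ (v : Fin N → V) (k l : Fin N), k ≠ l → v k = v l → f v = 0 := by
  have swap : ∀ (v : Fin N → V) (k l : Fin N), k.val + 1 = l.val → f (v ∘ Equiv.swap k l) = - f v := by
    intro v k l hkl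
    have hne : k ≠ l := fun e => by subst e; omega
    set g := fun x y => f (Function.update (Function.update v k x) l y)
    have hxx : ∀ x, g x x = 0 := fun x => hf _ k l hkl (by simp [hne])
    have hadd₂ : ∀ x y z, g x (y + z) = g x y + g x z := fun x y z => f.map_update_add _ l y z
    have hadd₁ : ∀ x y z, g (x + y) z = g x z + g y z := fun x y z => by
      simp only [g, Function.update_comm hne]
      exact f.map_update_add _ k x y
    have h := hxx (v k + v l)
    rw [hadd₁, hadd₂, hadd₂, hxx, hxx, zero_add, add_zero] at h
    have e1 : g (v k) (v l) = f v := by simp [g]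
    have e2 : g (v l) (v k) = f (v ∘ Equiv.swap k l) := by
      simp only [g]
      congr 1
      funext t
      by_cases h1 : t = l
      · subst h1; simp
      · by_cases h2 : t = k
        · subst h2; simp [hne]
        · simp [h1, h2, Equiv.swap_apply_of_ne_of_ne]
    rw [e1, e2] at h
    exact eq_neg_of_add_eq_zero_right h
  intro v k l hne hv
  wlog hkl : k.val < l.val generalizing k l
  · exact this l k hne.symm hv.symm (by omega)
  obtain ⟨g, hg⟩ := Nat.exists_eq_add_of_lt hkl
  induction g generalizing v l with
  | zero => exact hf v k l (by omega) hv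
  | succ g ih =>
    let l' : Fin N := ⟨l.val - 1, by omega⟩
    have hl' : l'.val + 1 = l.val := by simp [l']; omega
    have hne' : k ≠ l' := fun e => by have := congrArg Fin.val e; simp [l'] at this; omega
    have := ih l' hne' (v := v ∘ Equiv.swap l' l) (by
      simp [Equiv.swap_apply_of_ne_of_ne hne' hne, hv]) (by simp [l']; omega) (by simp [l']; omega)
    rwa [swap v l' l hl', neg_eq_zero] at this

/-- More arguments than coordinates and vanishing on repetitions: zero. -/
lemma zero_of_pigeon {R P : Type*} [CommRing R] [AddCommGroup P] [Module R P] {D : ℕ}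
    (f : MultilinearMap R (fun _ : Fin (D + 1) => Fin D → R) P)
    (hf : ∀ (v : Fin (D + 1) → Fin D → R) (k l : Fin (D + 1)), k.val + 1 = l.val → v k = v l → f v = 0)
    (v : Fin (D + 1) → Fin D → R) : f v = 0 := by
  have : f = 0 := by
    refine Module.Basis.ext_multilinear (fun _ => Pi.basisFun R (Fin D)) fun c => ?_
    obtain ⟨k, l, hne, he⟩ := Fintype.exists_ne_map_eq_of_card_lt c (by simp)
    rw [MultilinearMap.zero_apply]
    exact zero_of_adjacent f hf _ k l hne (by simp [he])
  simp [this]

section Shuffle

variable (P Q : Matrix (Fin d) (Fin d) S) (r : Fin d)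

/-- Rows of the first factor. -/
def rowsI (A : Finset (Fin (d + 1))) (hA : A.card = r.val + 1) (v : Fin (d + 1) → Fin d → S) : Fin d → Fin d → S :=
  fun t => if h : t.val ≤ r.val then v (A.orderEmbOfFin hA ⟨t.val, by omega⟩) else P t

lemma compl_card (A : Finset (Fin (d + 1))) (hA : A.card = r.val + 1) : Aᶜ.card = d - r.val := by
  rw [Finset.card_compl, hA, Fintype.card_fin]; omega

/-- Rows of the second factor. -/
def rowsJ (A : Finset (Fin (d + 1))) (hA : A.card = r.val + 1) (v : Fin (d + 1) → Fin d → S) : Fin d → Fin d → S :=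
  fun t => if h : t.val < r.val then Q t
    else v (Aᶜ.orderEmbOfFin (compl_card r A hA) ⟨t.val - r.val, by have := t.isLt; omega⟩)

/-- The summand of the shuffle identity. -/
def term (A : Finset (Fin (d + 1))) (v : Fin (d + 1) → Fin d → S) : S :=
  if hA : A.card = r.val + 1 then
    (-1) ^ shuffleSign r A * (Matrix.of (rowsI P r A hA v)).det * (Matrix.of (rowsJ Q r A hA v)).det
  else 0

lemma rowsI_update_mem {A : Finset (Fin (d + 1))} {hA : A.card = r.val + 1} {k : Fin (d + 1)} (hk : k ∈ A)
    (v : Fin (d + 1) → Fin d → S) :
    ∃ t, ∀ x, rowsI P r A hA (Function.update v k x) = Function.update (rowsI P r A hA v) t x := by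
  have : k ∈ Set.range (A.orderEmbOfFin hA) := by rw [Finset.range_orderEmbOfFin]; exact hk
  obtain ⟨i, hi⟩ := this
  refine ⟨⟨i.val, by omega⟩, fun x => funext fun t => ?_⟩
  by_cases ht : t = ⟨i.val, by omega⟩
  · subst ht
    simp [rowsI, Nat.lt_succ_iff.1 i.isLt, hi]
  · rw [Function.update_of_ne ht]
    unfold rowsI
    split_ifs with h
    · rw [Function.update_of_ne]
      intro e
      rw [← hi] at e
      exact ht (Fin.ext (by simpa using congrArg Fin.val ((A.orderEmbOfFin hA).injective e)))
    · rfl

lemma rowsJ_update_mem {A : Finset (Fin (d + 1))} {hA : A.card = r.val + 1} {k : Fin (d + 1)} (hk : k ∉ A)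
    (v : Fin (d + 1) → Fin d → S) :
    ∃ t, ∀ x, rowsJ Q r A hA (Function.update v k x) = Function.update (rowsJ Q r A hA v) t x := by
  have : k ∈ Set.range (Aᶜ.orderEmbOfFin (compl_card r A hA)) := by
    rw [Finset.range_orderEmbOfFin]; simpa using hk
  obtain ⟨i, hi⟩ := this
  refine ⟨⟨i.val + r.val, by omega⟩, fun x => funext fun t => ?_⟩
  by_cases ht : t = ⟨i.val + r.val, by omega⟩
  · subst ht
    simp [rowsJ, hi]
  · rw [Function.update_of_ne ht]
    unfold rowsJ
    split_ifs with h
    · rfl
    · rw [Function.update_of_ne]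
      intro e
      rw [← hi] at e
      have := congrArg Fin.val ((Aᶜ.orderEmbOfFin (compl_card r A hA)).injective e)
      simp at this
      exact ht (Fin.ext (by simp; omega))

lemma rowsI_update_notMem {A : Finset (Fin (d + 1))} {hA : A.card = r.val + 1} {k : Fin (d + 1)} (hk : k ∉ A)
    (v : Fin (d + 1) → Fin d → S) (x : Fin d → S) :
    rowsI P r A hA (Function.update v k x) = rowsI P r A hA v := by
  funext t
  unfold rowsI
  split_ifs with h
  · rw [Function.update_of_ne]
    exact fun e => hk (e ▸ A.orderEmbOfFin_mem hA _)
  · rfl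

lemma rowsJ_update_notMem {A : Finset (Fin (d + 1))} {hA : A.card = r.val + 1} {k : Fin (d + 1)} (hk : k ∈ A)
    (v : Fin (d + 1) → Fin d → S) (x : Fin d → S) :
    rowsJ Q r A hA (Function.update v k x) = rowsJ Q r A hA v := by
  funext t
  unfold rowsJ
  split_ifs with h
  · rfl
  · rw [Function.update_of_ne]
    exact fun e => by
      have h1 := Aᶜ.orderEmbOfFin_mem (compl_card r A hA) ⟨t.val - r.val, by have := t.isLt; omega⟩
      rw [e] at h1
      exact Finset.mem_compl.1 h1 hk

lemma term_linear (A : Finset (Fin (d + 1))) (v : Fin (d + 1) → Fin d → S) (k : Fin (d + 1)) :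
    ∃ L : (Fin d → S) →ₗ[S] S, ∀ x, term P Q r A (Function.update v k x) = L x := by
  unfold term
  by_cases hA : A.card = r.val + 1
  · simp only [dif_pos hA]
    by_cases hk : k ∈ A
    · obtain ⟨t, ht⟩ := rowsI_update_mem P r (hA := hA) hk v
      refine ⟨((-1 : S) ^ shuffleSign r A * (Matrix.of (rowsJ Q r A hA v)).det) •
        (Matrix.detRowAlternating : (Fin d → S) [⋀^Fin d]→ₗ[S] S).toMultilinearMap.toLinearMap (rowsI P r A hA v) t,
        fun x => ?_⟩
      rw [rowsJ_update_notMem Q r hk, ht x]
      simp only [LinearMap.smul_apply, MultilinearMap.toLinearMap_apply, smul_eq_mul]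
      show _ = _ * (Matrix.of (Function.update (rowsI P r A hA v) t x)).det
      ring
    · obtain ⟨t, ht⟩ := rowsJ_update_mem Q r (hA := hA) hk v
      refine ⟨((-1 : S) ^ shuffleSign r A * (Matrix.of (rowsI P r A hA v)).det) •
        (Matrix.detRowAlternating : (Fin d → S) [⋀^Fin d]→ₗ[S] S).toMultilinearMap.toLinearMap (rowsJ Q r A hA v) t,
        fun x => ?_⟩
      rw [rowsI_update_notMem P r hk, ht x]
      simp only [LinearMap.smul_apply, MultilinearMap.toLinearMap_apply, smul_eq_mul]
      rfl
  · exact ⟨0, fun x => by simp [dif_neg hA]⟩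

/-- The shuffle sum as a multilinear map in the moving rows. -/
def shuffleMap : MultilinearMap S (fun _ : Fin (d + 1) => Fin d → S) S where
  toFun v := ∑ A, term P Q r A v
  map_update_add' := by
    intro inst v k x y
    cases Subsingleton.elim inst (instDecidableEqFin (d + 1))
    simp only [← Finset.sum_add_distrib]
    refine Finset.sum_congr rfl fun A _ => ?_
    obtain ⟨L, hL⟩ := term_linear P Q r A v k
    rw [hL, hL, hL, map_add]
  map_update_smul' := by
    intro inst v k c x
    cases Subsingleton.elim inst (instDecidableEqFin (d + 1))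
    rw [Finset.smul_sum]
    refine Finset.sum_congr rfl fun A _ => ?_
    obtain ⟨L, hL⟩ := term_linear P Q r A v k
    rw [hL, hL, map_smul]

lemma shuffleMap_adj (v : Fin (d + 1) → Fin d → S) (k l : Fin (d + 1)) (hkl : k.val + 1 = l.val)
    (hv : v k = v l) : shuffleMap P Q r v = 0 := by
  classical
  set s := Equiv.swap k l with hs
  have hne : k ≠ l := fun e => by subst e; omega
  show ∑ A, term P Q r A v = 0
  apply Finset.sum_involution (fun A _ => if (k ∈ A ↔ l ∈ A) then A else A.map s.toEmbedding)
  · intro A _
    split_ifs with h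
    · -- both or neither: the rows repeat
      suffices term P Q r A v = 0 by simp [this]
      unfold term
      split_ifs with hA
      · by_cases hk : k ∈ A
        · obtain ⟨x, hx⟩ : k ∈ Set.range (A.orderEmbOfFin hA) := by rw [Finset.range_orderEmbOfFin]; exact hk
          obtain ⟨y, hy⟩ : l ∈ Set.range (A.orderEmbOfFin hA) := by rw [Finset.range_orderEmbOfFin]; exact h.1 hk
          rw [Matrix.det_zero_of_row_eq (i := (⟨x.val, by omega⟩ : Fin d)) (j := ⟨y.val, by omega⟩)
            (M := Matrix.of (rowsI P r A hA v)), mul_zero, zero_mul]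
          · intro e
            have : x = y := Fin.ext (by simpa using e)
            exact hne (by rw [← hx, ← hy, this])
          · show rowsI P r A hA v _ = rowsI P r A hA v _
            simp [rowsI, Nat.lt_succ_iff.1 x.isLt, Nat.lt_succ_iff.1 y.isLt, hx, hy, hv]
        · have hl : l ∉ A := fun hl => hk (h.2 hl)
          obtain ⟨x, hx⟩ : k ∈ Set.range (Aᶜ.orderEmbOfFin (compl_card r A hA)) := by
            rw [Finset.range_orderEmbOfFin]; simpa using hk
          obtain ⟨y, hy⟩ : l ∈ Set.range (Aᶜ.orderEmbOfFin (compl_card r A hA)) := by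
            rw [Finset.range_orderEmbOfFin]; simpa using hl
          rw [Matrix.det_zero_of_row_eq (i := (⟨x.val + r.val, by omega⟩ : Fin d)) (j := ⟨y.val + r.val, by omega⟩)
            (M := Matrix.of (rowsJ Q r A hA v)), mul_zero]
          · intro e
            have : x = y := Fin.ext (by simpa using e)
            exact hne (by rw [← hx, ← hy, this])
          · show rowsJ Q r A hA v _ = rowsJ Q r A hA v _
            simp [rowsJ, hx, hy, hv]
      · rfl
    · -- exactly one: signs cancel
      set A' := A.map s.toEmbedding with hA'def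
      unfold term
      by_cases hA : A.card = r.val + 1
      swap
      · rw [dif_neg hA, dif_neg (by rw [hA'def, card_map]; exact hA), add_zero]
      have hA' : A'.card = r.val + 1 := by rw [hA'def, card_map]; exact hA
      rw [dif_pos hA, dif_pos hA']
      have hmem : ∀ x, x ∈ A' ↔ s x ∈ A := fun x => by
        rw [hA'def, Finset.mem_map_equiv, Equiv.symm_swap]
      have hcompl : A'ᶜ = Aᶜ.map s.toEmbedding := by
        ext x; rw [Finset.mem_compl, hmem, Finset.mem_map_equiv, Equiv.symm_swap, Finset.mem_compl]
      have hmono : ∀ B : Finset (Fin (d + 1)), ¬(k ∈ B ↔ l ∈ B) → ∀ x ∈ B, ∀ y ∈ B, x < y → s x < s y := by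
        intro B hB x hx y hy hxy
        rw [Fin.lt_def] at hxy ⊢
        rw [hs, Equiv.swap_apply_def, Equiv.swap_apply_def]
        split_ifs with a b c e f g
        all_goals first
          | omega
          | (subst_vars; exfalso; exact hB ⟨fun _ => by assumption, fun _ => by assumption⟩)
          | (simp only [Fin.ext_iff] at *; omega)
      have hvs : ∀ x, v (s x) = v x := fun x => by
        rw [hs, Equiv.swap_apply_def]; split_ifs with h1 h2 <;> simp_all
      have e1 : rowsI P r A' hA' v = rowsI P r A hA v := by
        have := Finset.orderEmbOfFin_unique hA' (f := fun i => s (A.orderEmbOfFin hA i))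
          (fun i => by rw [hmem, Equiv.swap_apply_self]; exact A.orderEmbOfFin_mem hA i)
          (fun i j hij => hmono A h _ (A.orderEmbOfFin_mem hA i) _ (A.orderEmbOfFin_mem hA j)
            ((A.orderEmbOfFin hA).strictMono hij))
        funext t
        unfold rowsI
        split_ifs with ht
        · rw [← congrFun this ⟨t.val, by omega⟩, hvs]
        · rfl
      have e2 : rowsJ Q r A' hA' v = rowsJ Q r A hA v := by
        have := Finset.orderEmbOfFin_unique (compl_card r A' hA') (f := fun i => s (Aᶜ.orderEmbOfFin (compl_card r A hA) i))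
          (fun i => by
            rw [Finset.mem_compl, hmem, Equiv.swap_apply_self]
            exact Finset.mem_compl.1 (Aᶜ.orderEmbOfFin_mem _ i))
          (fun i j hij => hmono Aᶜ (fun e => h (by simpa [not_iff_not] using e)) _ (Aᶜ.orderEmbOfFin_mem _ i) _
            (Aᶜ.orderEmbOfFin_mem _ j) ((Aᶜ.orderEmbOfFin (compl_card r A hA)).strictMono hij))
        funext t
        unfold rowsJ
        split_ifs with ht
        · rfl
        · rw [← congrFun this ⟨t.val - r.val, by have := t.isLt; omega⟩, hvs]
      rw [e1, e2]
      have hsum : ∀ B : Finset (Fin (d + 1)), B.card = r.val + 1 → r.val * (r.val + 1) / 2 ≤ ∑ a ∈ B, a.val := by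
        intro B hB
        have h1 : ∀ i : Fin (r.val + 1), i.val ≤ (B.orderEmbOfFin hB i).val := by
          intro i
          obtain ⟨i, hi⟩ := i
          induction i with
          | zero => simp
          | succ i ih =>
            have h2 := ih (by omega)
            have h3 : (B.orderEmbOfFin hB ⟨i, by omega⟩).val < (B.orderEmbOfFin hB ⟨i + 1, hi⟩).val :=
              (B.orderEmbOfFin hB).strictMono (by simp [Fin.lt_def])
            simp only at h2 ⊢; omega
        rw [← Finset.map_orderEmbOfFin_univ B hB, Finset.sum_map]
        calc r.val * (r.val + 1) / 2 = ∑ i : Fin (r.val + 1), i.val := by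
              rw [Fin.sum_univ_eq_sum_range (fun i => i), Finset.sum_range_id, Nat.add_sub_cancel, mul_comm]
          _ ≤ _ := Finset.sum_le_sum fun i _ => h1 i
      have hpar : (∑ a ∈ A', a.val) = (∑ a ∈ A, a.val) + 1 ∨ (∑ a ∈ A', a.val) + 1 = ∑ a ∈ A, a.val := by
        rw [hA'def, Finset.sum_map]
        by_cases hk : k ∈ A
        · have hl : l ∉ A := fun hl => h ⟨fun _ => hl, fun _ => hk⟩
          left
          rw [← Finset.add_sum_erase _ _ hk, ← Finset.add_sum_erase _ (fun a : Fin (d + 1) => a.val) hk,
            Finset.sum_congr rfl fun x hx => show (s.toEmbedding x).val = x.val by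
              have := Finset.mem_erase.1 hx
              simp [Equiv.swap_apply_of_ne_of_ne this.1 (fun e : x = l => hl (by rw [← e]; exact this.2)), hs]]
          simp only [hs, Equiv.coe_toEmbedding, Equiv.swap_apply_left, Equiv.swap_apply_right]
          erw [← hkl]; ring_nf
        · have hl : l ∈ A := by
            by_contra hl
            exact h ⟨fun h' => absurd h' hk, fun h' => absurd h' hl⟩
          right
          rw [← Finset.add_sum_erase _ _ hl, ← Finset.add_sum_erase _ (fun a : Fin (d + 1) => a.val) hl,
            Finset.sum_congr rfl fun x hx => show (s.toEmbedding x).val = x.val by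
              have := Finset.mem_erase.1 hx
              simp [Equiv.swap_apply_of_ne_of_ne (fun e : x = k => hk (by rw [← e]; exact this.2)) this.1, hs]]
          simp only [hs, Equiv.coe_toEmbedding, Equiv.swap_apply_left, Equiv.swap_apply_right]
          erw [← hkl]; ring_nf
      have b1 := hsum A hA
      have b2 := hsum A' hA'
      rw [← add_mul, ← add_mul]
      suffices (-1 : S) ^ shuffleSign r A + (-1) ^ shuffleSign r A' = 0 by rw [this, zero_mul, zero_mul]
      rcases hpar with hp | hp
      · rw [show shuffleSign r A' = shuffleSign r A + 1 by unfold shuffleSign; omega, pow_succ]; ring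
      · rw [show shuffleSign r A = shuffleSign r A' + 1 by unfold shuffleSign; omega, pow_succ]; ring
  · intro A _ hne'
    split_ifs with h
    · exfalso
      apply hne'
      unfold term
      split_ifs with hA
      · by_cases hk : k ∈ A
        · obtain ⟨x, hx⟩ : k ∈ Set.range (A.orderEmbOfFin hA) := by rw [Finset.range_orderEmbOfFin]; exact hk
          obtain ⟨y, hy⟩ : l ∈ Set.range (A.orderEmbOfFin hA) := by rw [Finset.range_orderEmbOfFin]; exact h.1 hk
          rw [Matrix.det_zero_of_row_eq (i := (⟨x.val, by omega⟩ : Fin d)) (j := ⟨y.val, by omega⟩)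
            (M := Matrix.of (rowsI P r A hA v)), mul_zero, zero_mul]
          · intro e
            have : x = y := Fin.ext (by simpa using e)
            exact hne (by rw [← hx, ← hy, this])
          · show rowsI P r A hA v _ = rowsI P r A hA v _
            simp [rowsI, Nat.lt_succ_iff.1 x.isLt, Nat.lt_succ_iff.1 y.isLt, hx, hy, hv]
        · have hl : l ∉ A := fun hl => hk (h.2 hl)
          obtain ⟨x, hx⟩ : k ∈ Set.range (Aᶜ.orderEmbOfFin (compl_card r A hA)) := by
            rw [Finset.range_orderEmbOfFin]; simpa using hk
          obtain ⟨y, hy⟩ : l ∈ Set.range (Aᶜ.orderEmbOfFin (compl_card r A hA)) := by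
            rw [Finset.range_orderEmbOfFin]; simpa using hl
          rw [Matrix.det_zero_of_row_eq (i := (⟨x.val + r.val, by omega⟩ : Fin d)) (j := ⟨y.val + r.val, by omega⟩)
            (M := Matrix.of (rowsJ Q r A hA v)), mul_zero]
          · intro e
            have : x = y := Fin.ext (by simpa using e)
            exact hne (by rw [← hx, ← hy, this])
          · show rowsJ Q r A hA v _ = rowsJ Q r A hA v _
            simp [rowsJ, hx, hy, hv]
      · rfl
    · intro e
      by_cases hk : k ∈ A
      · have hl : l ∉ A := fun hl => h ⟨fun _ => hl, fun _ => hk⟩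
        apply hl
        rw [← e, Finset.mem_map_equiv, Equiv.symm_swap, Equiv.swap_apply_right]
        exact hk
      · have hl : l ∈ A := by
          by_contra hl
          exact h ⟨fun h' => absurd h' hk, fun h' => absurd h' hl⟩
        apply hk
        rw [← e, Finset.mem_map_equiv, Equiv.symm_swap, Equiv.swap_apply_left]
        exact hl
  · intro A _
    by_cases h : (k ∈ A ↔ l ∈ A)
    · simp only [if_pos h]
    · have h' : ¬ (k ∈ A.map s.toEmbedding ↔ l ∈ A.map s.toEmbedding) := by
        rw [Finset.mem_map_equiv, Finset.mem_map_equiv, hs, Equiv.symm_swap, Equiv.swap_apply_left,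
          Equiv.swap_apply_right]
        exact fun e => h e.symm
      simp only [if_neg h, if_neg h']
      ext x
      simp [Finset.mem_map_equiv, hs]
  · simp

end Shuffle

/-- The shuffle relations vanish at minors. -/
theorem pl_shuffleRel (M : Matrix (Fin n) (Fin d) S) (i j : Idx d n) (r : Fin d) :
    pl M (shuffleRel K i j r) = 0 := by
  have h := zero_of_pigeon (shuffleMap (Matrix.of fun t => M (i.1 t)) (Matrix.of fun t => M (j.1 t)) r)
    (shuffleMap_adj _ _ r) (fun k => M (movingRows i j r k))
  rw [show shuffleMap _ _ r _ = ∑ A, term (Matrix.of fun t => M (i.1 t)) (Matrix.of fun t => M (j.1 t)) r A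
    (fun k => M (movingRows i j r k)) from rfl] at h
  rw [shuffleRel, map_sum, ← h]
  refine Finset.sum_congr rfl fun A _ => ?_
  unfold shuffleTerm term
  split_ifs with hA
  · rw [map_mul, map_mul, map_pow, map_neg, map_one, pl_coord, pl_coord]
    have e1 : M.submatrix (shuffleI i j r A hA) id = Matrix.of (rowsI (Matrix.of fun t => M (i.1 t)) r A hA
        (fun k => M (movingRows i j r k))) := by
      ext t c
      simp only [Matrix.submatrix_apply, id, Matrix.of_apply, shuffleI, rowsI]
      split_ifs <;> rfl
    have e2 : M.submatrix (shuffleJ i j r A hA) id = Matrix.of (rowsJ (Matrix.of fun t => M (j.1 t)) r A hA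
        (fun k => M (movingRows i j r k))) := by
      ext t c
      simp only [Matrix.submatrix_apply, id, Matrix.of_apply, shuffleJ, rowsJ]
      split_ifs <;> rfl
    rw [e1, e2]
  · exact map_zero _

end LeadGrass
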