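import Groth.Agent.Lead.Grass.Varieties

/-! Flat degenerations of Schubert cones. -/

noncomputable section

set_option maxSynthPendingDepth 5

open MvPolynomial W4bk4grassmannian Finset

universe u

namespace LeadGrass

/-- A map injective as soon as a spanning family goes to an independent one. -/
lemma injective_of_span_indep {K A B ι : Type*} [Field K] [AddCommGroup A] [Module K A] [AddCommGroup B] [Module K B]
    (f : A →ₗ[K] B) (v : ι → A) (hv : Submodule.span K (Set.range v) = ⊤) (hi : LinearIndependent K (f ∘ v)) :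
    Function.Injective f := by
  rw [← LinearMap.ker_eq_bot, eq_bot_iff]
  intro x hx
  obtain ⟨l, rfl⟩ := Finsupp.mem_span_range_iff_exists_finsupp.1 (hv ▸ Submodule.mem_top : x ∈ Submodule.span K (Set.range v))
  have h0 : l.linearCombination K (f ∘ v) = 0 := by
    rw [LinearMap.mem_ker, map_finsuppSum] at hx
    rw [Finsupp.linearCombination_apply, ← hx]
    exact Finsupp.sum_congr fun i _ => (map_smul f _ _).symm
  rw [linearIndependent_iff.1 hi l h0]
  simp

variable {K : Type u} [Field K] {d n : ℕ}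

variable (K) in
/-- The target of the family. -/
abbrev LR (d n : ℕ) : Type u := LaurentPolynomial (MatRing K d n)

variable (K d n) in
/-- The parameter line. -/
def par : Polynomial K →+* LR K d n :=
  Polynomial.toLaurent.comp (Polynomial.mapRingHom (C : K →+* MatRing K d n))

instance : Algebra (Polynomial K) (LR K d n) := (par K d n).toAlgebra

instance : IsScalarTower K (Polynomial K) (LR K d n) := IsScalarTower.of_algebraMap_eq fun x => by
  show algebraMap K (LR K d n) x = Polynomial.toLaurent (Polynomial.map C (Polynomial.C x))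
  rw [Polynomial.map_C, Polynomial.toLaurent_C]
  rfl

lemma par_X : algebraMap (Polynomial K) (LR K d n) Polynomial.X = LaurentPolynomial.T 1 := by
  show Polynomial.toLaurent (Polynomial.map C Polynomial.X) = _
  rw [Polynomial.map_X, Polynomial.toLaurent_X]

variable (w : Idx d n) (g : Idx d n → ℕ)

/-- Generators of the family. -/
def genL (θ : Below w) : LR K d n :=
  LaurentPolynomial.C (rho K w (X θ.1)) * LaurentPolynomial.T (-(g θ.1 : ℤ))

variable (K) in
/-- The family. -/
def fam : MvPolynomial (Below w) (Polynomial K) →ₐ[Polynomial K] LR K d n := aeval (genL w g)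

/-- Chains in the lattice. -/
abbrev BChain : Type := Σ m : ℕ, {c : Fin m → Below w // Antitone c}

variable (K) in
/-- Chain monomials of the family. -/
def chainR (c : BChain w) : (fam K w g).range := ⟨fam K w g (∏ k, X (c.2.1 k)), _, rfl⟩

/-- Weight of a chain. -/
def gtot (c : BChain w) : ℕ := ∑ k, g (c.2.1 k).1

lemma chainR_val (c : BChain w) :
    (chainR K w g c : LR K d n) = LaurentPolynomial.C (rho K w (chainMon K fun k => (c.2.1 k).1)) * LaurentPolynomial.T (-(gtot w g c : ℤ)) := by
  show fam K w g (∏ k, X (c.2.1 k)) = _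
  simp only [fam, map_prod, aeval_X, genL, Finset.prod_mul_distrib, chainMon]
  congr 1
  rw [gtot, Nat.cast_sum, ← Finset.sum_neg_distrib]
  induction (univ : Finset (Fin c.1)) using Finset.induction with
  | empty => simp
  | insert a s ha ih => rw [prod_insert ha, sum_insert ha, LaurentPolynomial.T_add, ih]

lemma chainR_indep (hd : 0 < d) : LinearIndependent (Polynomial K) (chainR K w g) := by
  classical
  refine linearIndependent_iff.2 fun l hl => ?_
  ext c k
  let m : ℤ := (k : ℤ) - gtot w g c
  let co : BChain w → K := fun e => if 0 ≤ m + gtot w g e then (l e).coeff (m + gtot w g e).toNat else 0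
  have h1 := congrArg (fun x : (fam K w g).range => (x : LR K d n)) hl
  simp only [Finsupp.linearCombination_apply, Finsupp.sum, AddSubmonoidClass.coe_finsetSum, ZeroMemClass.coe_zero] at h1
  have h2 : ∑ e ∈ l.support, co e • rho K w (chainMon K fun j => (e.2.1 j).1) = 0 := by
    have h3 := congrArg (fun f : LR K d n => f.coeff m) h1
    simp only [AddMonoidAlgebra.coeff_sum, Finsupp.coe_finsetSum, Finset.sum_apply, AddMonoidAlgebra.coeff_zero, Finsupp.coe_zero, Pi.zero_apply] at h3
    refine Eq.trans (sum_congr rfl fun e _ => ?_) h3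
    rw [Subalgebra.coe_smul, chainR_val, Algebra.smul_def]
    show _ = ((Polynomial.toLaurent (Polynomial.map C (l e))) * _ : LR K d n).coeff m
    rw [mul_comm (Polynomial.toLaurent _), ← LaurentPolynomial.single_eq_C_mul_T, AddMonoidAlgebra.coeff_single_mul_apply, LaurentPolynomial.coeff_toLaurent]
    simp only [co]
    split_ifs with hpos
    · rw [show -(-(gtot w g e : ℤ)) + m = Nat.castEmbedding (m + gtot w g e).toNat by simp; omega,
        Finsupp.mapDomain_apply Nat.castEmbedding.injective]
      rw [show (Polynomial.map (C : K →+* MatRing K d n) (l e)).toFinsupp.coeff (m + gtot w g e).toNat =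
        (Polynomial.map (C : K →+* MatRing K d n) (l e)).coeff (m + gtot w g e).toNat from rfl]
      rw [Polynomial.coeff_map, MvPolynomial.algebraMap_eq, mul_comm]
    · rw [map_zero, zero_mul]
      symm
      rw [Finsupp.mapDomain_notin_range _ _ (by rintro ⟨j, hj⟩; simp at hj; omega), mul_zero]
  let α := Σ m : ℕ, {c : Fin m → Idx d n // Antitone c ∧ (∀ _k : Fin m, True) ∧ ∃ φ, φ = w ∧ ∀ k, c k ≤ φ}
  let e : BChain w → α := fun c => ⟨c.1, fun k => (c.2.1 k).1, fun a b h => c.2.2 h, fun _ => trivial, w, rfl, fun k => (c.2.1 k).2⟩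
  have he : Function.Injective e := by
    rintro ⟨m, a⟩ ⟨m', b⟩ h
    have hm := (Sigma.mk.inj h).1
    simp only [e] at hm
    subst hm
    have h2 := congrArg Subtype.val (eq_of_heq (Sigma.mk.inj h).2)
    exact congrArg (Sigma.mk m) (Subtype.ext (funext fun k => Subtype.ext (congrFun h2 k)))
  let l' : BChain w →₀ K := Finsupp.onFinset l.support co fun e he => by
    rw [Finsupp.mem_support_iff]
    intro h0
    exact he (by simp [co, h0])
  have h4 := (stdFam K hd).indep_union (· = w) (fun _ _ => trivial) ⟨w, rfl⟩ (fun _ => True) (fun _ _ => trivial)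
    (l'.mapDomain e) (by
      intro φ hφ
      subst hφ
      rw [Finsupp.sum_mapDomain_index]
      rotate_left
      · intro b; exact zero_smul _ _
      · intro b _ _; exact add_smul _ _ _
      refine Eq.trans ?_ h2
      rw [map_finsuppSum]
      refine (Finsupp.sum_of_support_subset l' (Finsupp.support_onFinset_subset : l'.support ⊆ l.support) _ (fun a _ => by simp)).trans
        (sum_congr rfl fun b _ => ?_)
      simp only [l', Finsupp.onFinset_apply, map_smul]
      rfl)
  have h5 := congrArg (fun f => f (e c)) h4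
  simp only [Finsupp.mapDomain_apply he, l', Finsupp.onFinset_apply, Finsupp.coe_zero, Pi.zero_apply] at h5
  have h6 : co c = (l c).coeff k := by
    simp only [co, m, sub_add_cancel]
    simp
  rw [← h6]
  simpa using h5

/-- The weight does not decrease along straightening. -/
def WeightOK : Prop := ∀ i j a b : Idx d n, ¬ i ≤ j → ¬ j ≤ i → SameContent a b i j →
  W4bk4grassmannian.sup i j ≤ a → g i + g j ≤ g a + g b

variable {w g}

lemma genL_pair (θ η : Below w) : genL (K := K) w g θ * genL w g η =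
    LaurentPolynomial.C (rho K w (X θ.1) * rho K w (X η.1)) * LaurentPolynomial.T (-((g θ.1 + g η.1 : ℕ) : ℤ)) := by
  rw [genL, genL, map_mul, Nat.cast_add, neg_add, LaurentPolynomial.T_add]
  ring

open Classical in
/-- The deformed straightening relation. -/
lemma straighten_fam (hd : 0 < d) (h : d ≤ n) (hg : WeightOK g) (i j : Below w) (h1 : ¬ i.1 ≤ j.1) (h2 : ¬ j.1 ≤ i.1) :
    ∃ l : (Idx d n × Idx d n) →₀ K, l (W4bk4grassmannian.sup i.1 j.1, W4bk4grassmannian.inf i.1 j.1) = 1 ∧
      (∀ p ∈ l.support, p.2 ≤ p.1 ∧ W4bk4grassmannian.sup i.1 j.1 ≤ p.1 ∧ SameContent p.1 p.2 i.1 j.1 ∧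
        g i.1 + g j.1 ≤ g p.1 + g p.2) ∧
      fam K w g (X i * X j) = ∑ p ∈ l.support,
        if hp : p.1 ≤ w ∧ p.2 ≤ w then
          fam K w g (C (Polynomial.C (l p) * Polynomial.X ^ (g p.1 + g p.2 - (g i.1 + g j.1))) * (X ⟨p.1, hp.1⟩ * X ⟨p.2, hp.2⟩))
        else 0 := by
  classical
  obtain ⟨l, hl1, hl, hrel⟩ := straighten K hd h i.1 j.1
  refine ⟨l, hl1, fun p hp => ⟨(hl p hp).1, (hl p hp).2.1, (hl p hp).2.2.2, hg _ _ _ _ h1 h2 (hl p hp).2.2.2 (hl p hp).2.1⟩, ?_⟩
  have hker : rho K w (X i.1 * X j.1 - l.sum fun p a => a • pairMon K p) = 0 := plTop_le_ker K _ hrel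
  rw [map_sub, sub_eq_zero, map_mul, map_finsuppSum] at hker
  rw [map_mul, fam, aeval_X, aeval_X, genL_pair, hker, Finsupp.sum, map_sum, sum_mul]
  refine sum_congr rfl fun p hp => ?_
  split_ifs with hpw
  · obtain ⟨-, hs, -, hc⟩ := hl p hp
    have hle := hg _ _ _ _ h1 h2 hc hs
    rw [map_mul (aeval (genL (K := K) w g)), map_mul (aeval (genL (K := K) w g)) (X _), aeval_C, aeval_X, aeval_X, genL_pair]
    rw [map_mul, map_pow, par_X]
    show _ = Polynomial.toLaurent (Polynomial.map C (Polynomial.C (l p))) * _ * _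
    rw [Polynomial.map_C, Polynomial.toLaurent_C, LaurentPolynomial.T_pow, map_smul, pairMon, map_mul, Algebra.smul_def, map_mul]
    rw [show (-((g i.1 + g j.1 : ℕ) : ℤ)) = (((g p.1 + g p.2 - (g i.1 + g j.1) : ℕ) : ℤ) * 1) + (-((g p.1 + g p.2 : ℕ) : ℤ)) by omega,
      LaurentPolynomial.T_add]
    rw [show algebraMap K (MatRing K d n) = C from rfl]
    ring
  · rw [map_smul, pairMon, map_mul]
    rw [not_and_or] at hpw
    rcases hpw with hh | hh <;> rw [rho_vanish K w _ hh] <;> simp

variable (K w g) in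
/-- Monomials over the lattice. -/
def bmon (R : Type*) [CommSemiring R] (s : Multiset (Below w)) : MvPolynomial (Below w) R := (s.map fun θ => X θ).prod

lemma bmon_cons {R : Type*} [CommSemiring R] (a : Below w) (s : Multiset (Below w)) :
    bmon w R (a ::ₘ s) = X a * bmon w R s := by simp [bmon]

lemma exists_bchain {R : Type*} [CommSemiring R] (s : Multiset (Below w)) (hs : ∀ a ∈ s, ∀ b ∈ s, a.1 ≤ b.1 ∨ b.1 ≤ a.1) :
    ∃ c : BChain w, bmon w R s = ∏ k, X (c.2.1 k) := by
  induction hm : s.card using Nat.strong_induction_on generalizing s with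
  | _ M ih =>
    suffices ∃ c : BChain w, (bmon w R s = ∏ k, X (c.2.1 k)) ∧ ∀ k, c.2.1 k ∈ s from this.imp fun _ h => h.1
    clear ih hm M
    induction hm : s.card using Nat.strong_induction_on generalizing s with
    | _ M ih =>
      classical
      by_cases h0 : s = 0
      · exact ⟨⟨0, Fin.elim0, fun a => a.elim0⟩, by simp [h0, bmon], fun k => k.elim0⟩
      obtain ⟨a, ha, hmax⟩ := s.toFinset.exists_max_image (fun θ => wt θ.1) (by
        obtain ⟨a, ha⟩ := Multiset.exists_mem_of_ne_zero h0
        exact ⟨a, Multiset.mem_toFinset.2 ha⟩)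
      rw [Multiset.mem_toFinset] at ha
      obtain ⟨t, rfl⟩ := Multiset.exists_cons_of_mem ha
      obtain ⟨⟨m, c, hc⟩, hmc, hmem⟩ := ih t.card (by rw [← hm]; simp) t
        (fun x hx y hy => hs x (Multiset.mem_cons_of_mem hx) y (Multiset.mem_cons_of_mem hy)) rfl
      have htop : ∀ x ∈ t, x ≤ a := fun x hx => by
        rcases hs x (Multiset.mem_cons_of_mem hx) a (Multiset.mem_cons_self _ _) with h | h
        · exact h
        · rcases eq_or_lt_of_le h with h' | h'
          · exact h'.ge
          · exact absurd (wt_lt h') (hmax x (Multiset.mem_toFinset.2 (Multiset.mem_cons_of_mem hx))).not_gt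
      refine ⟨⟨m + 1, Fin.cons a c, ?_⟩, ?_, ?_⟩
      · intro x y hxy
        induction y using Fin.cases with
        | zero => rw [Fin.le_zero_iff.1 hxy]
        | succ y =>
          induction x using Fin.cases with
          | zero => simpa using htop _ (hmem y)
          | succ x => simpa using hc (Fin.succ_le_succ_iff.1 hxy)
      · rw [bmon_cons, hmc, Fin.prod_univ_succ]; simp
      · intro k
        induction k using Fin.cases with
        | zero => simp
        | succ k => simp [hmem k]

/-- Generic spanning by chains. -/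
lemma span_chains {R A : Type*} [CommRing R] [AddCommGroup A] [Module R A] (f : MvPolynomial (Below w) R →ₗ[R] A)
    (hstep : ∀ i j : Below w, ¬ i.1 ≤ j.1 → ¬ j.1 ≤ i.1 → ∀ u : Multiset (Below w),
      f (bmon w R (i ::ₘ j ::ₘ u)) ∈ Submodule.span R {x | ∃ a b : Below w, wt a.1 + wt b.1 = wt i.1 + wt j.1 ∧
        wt i.1 < wt a.1 ∧ wt j.1 < wt a.1 ∧ x = f (bmon w R (a ::ₘ b ::ₘ u))})
    (p : MvPolynomial (Below w) R) : f p ∈ Submodule.span R (Set.range fun c : BChain w => f (∏ k, X (c.2.1 k))) := by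
  classical
  set V := Submodule.span R (Set.range fun c : BChain w => f (∏ k, X (c.2.1 k)))
  have hmon : ∀ G (s : Multiset (Below w)), s.card * (d * n) ^ 2 - (s.map fun θ => wt θ.1 ^ 2).sum = G → f (bmon w R s) ∈ V := by
    intro G
    induction G using Nat.strong_induction_on with
    | _ G ih =>
      intro s hG
      by_cases hs : ∀ a ∈ s, ∀ b ∈ s, a.1 ≤ b.1 ∨ b.1 ≤ a.1
      · obtain ⟨c, hc⟩ := exists_bchain (R := R) s hs
        exact Submodule.subset_span ⟨c, congrArg f hc.symm⟩
      simp only [not_forall, not_or] at hs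
      obtain ⟨i, hi, j, hj, hij, hji⟩ := hs
      obtain ⟨t, rfl⟩ := Multiset.exists_cons_of_mem hi
      have hjt : j ∈ t := (Multiset.mem_cons.1 hj).resolve_left (fun e => hji (e ▸ le_rfl))
      obtain ⟨u, rfl⟩ := Multiset.exists_cons_of_mem hjt
      refine (Submodule.span_le.2 ?_) (hstep i j hij hji u)
      rintro _ ⟨a, b, hsum, h1, h2, rfl⟩
      refine ih _ ?_ _ rfl
      have hb : ∀ θ : Idx d n, wt θ ≤ d * n := fun θ => by have := cnt_total θ; omega
      have hbd := Multiset.sum_le_card_nsmul ((a ::ₘ b ::ₘ u).map fun θ => wt θ.1 ^ 2) ((d * n) ^ 2) (fun z hz => by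
        obtain ⟨θ, -, rfl⟩ := Multiset.mem_map.1 hz
        exact Nat.pow_le_pow_left (hb θ.1) 2)
      have hq : wt i.1 ^ 2 + wt j.1 ^ 2 < wt a.1 ^ 2 + wt b.1 ^ 2 := by
        obtain ⟨δ, hδ⟩ := Nat.exists_eq_add_of_lt h1
        obtain ⟨δ', hδ'⟩ := Nat.exists_eq_add_of_lt h2
        have e1 : wt j.1 = wt b.1 + (δ + 1) := by omega
        have e2 : wt i.1 = wt b.1 + (δ' + 1) := by omega
        have e3 : wt a.1 = wt b.1 + (δ + 1) + (δ' + 1) := by omega
        rw [e1, e2, e3]
        nlinarith [Nat.mul_pos (Nat.succ_pos δ) (Nat.succ_pos δ')]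
      simp only [Multiset.map_cons, Multiset.sum_cons, Multiset.card_cons, Multiset.card_map, smul_eq_mul] at hG hbd ⊢
      omega
  suffices h : ∀ s : Multiset (Below w), f (p * bmon w R s) ∈ V by simpa [bmon] using h 0
  induction p using MvPolynomial.induction_on with
  | C c => intro s; rw [C_mul', map_smul]; exact Submodule.smul_mem _ _ (hmon _ s rfl)
  | add p q hp hq => intro s; rw [add_mul, map_add]; exact Submodule.add_mem _ (hp s) (hq s)
  | mul_X p a hp => intro s; rw [mul_assoc, ← bmon_cons]; exact hp _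

open Classical in
lemma fam_span (hd : 0 < d) (h : d ≤ n) (hg : WeightOK g) :
    Submodule.span (Polynomial K) (Set.range (chainR K w g)) = ⊤ := by
  classical
  rw [eq_top_iff]
  rintro ⟨_, p, rfl⟩ -
  refine span_chains (fam K w g).rangeRestrict.toLinearMap (fun i j hij hji u => ?_) p
  obtain ⟨l, -, hl, hrel⟩ := straighten_fam (K := K) hd h hg i j hij hji
  have hrel' : (fam K w g).rangeRestrict.toLinearMap (bmon w (Polynomial K) (i ::ₘ j ::ₘ u)) = ∑ p ∈ l.support,
        if hp : p.1 ≤ w ∧ p.2 ≤ w then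
          (Polynomial.C (l p) * Polynomial.X ^ (g p.1 + g p.2 - (g i.1 + g j.1))) •
            (fam K w g).rangeRestrict.toLinearMap (bmon w (Polynomial K) (⟨p.1, hp.1⟩ ::ₘ ⟨p.2, hp.2⟩ ::ₘ u))
        else 0 := by
    apply Subtype.ext
    rw [AddSubmonoidClass.coe_finsetSum]
    show fam K w g _ = _
    rw [bmon_cons, bmon_cons, ← mul_assoc, map_mul, hrel, sum_mul]
    refine sum_congr rfl fun p _ => ?_
    split_ifs with hp
    · show _ = _ • fam K w g _
      rw [bmon_cons, bmon_cons, Algebra.smul_def]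
      simp only [map_mul (fam K w g)]
      rw [show fam K w g (C _) = algebraMap (Polynomial K) (LR K d n) _ from (fam K w g).commutes _]
      ring
    · simp
  rw [hrel']
  refine Submodule.sum_mem _ fun p hp => ?_
  split_ifs with hpw
  · obtain ⟨-, hs, hc, -⟩ := hl p hp
    refine Submodule.smul_mem _ _ (Submodule.subset_span ⟨_, _, hc.wt, ?_, ?_, rfl⟩)
    · exact lt_of_lt_of_le (wt_lt (lt_of_le_of_ne (le_sup_left' i.1 j.1) fun e => hji (by rw [e]; exact le_sup_right' _ _))) (wt_le hs)
    · exact lt_of_lt_of_le (wt_lt (lt_of_le_of_ne (le_sup_right' i.1 j.1) fun e => hij (by rw [e]; exact le_sup_left' _ _))) (wt_le hs)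
  · exact zero_mem _

variable (K w g) in
/-- The basis of the family. -/
def famBasis (hd : 0 < d) (h : d ≤ n) (hg : WeightOK g) : Module.Basis (BChain w) (Polynomial K) (fam K w g).range :=
  Module.Basis.mk (chainR_indep w g hd) (fam_span hd h hg).ge

variable (K w g) in
/-- A fibre. -/
abbrev Fib (c : K) : Type u :=
  (fam K w g).range ⧸ Ideal.span {algebraMap (Polynomial K) (fam K w g).range (Polynomial.X - Polynomial.C c)}

lemma fib_smul (c : K) (P : Polynomial K) (x : (fam K w g).range) :
    Ideal.Quotient.mk _ (P • x) = P.eval c • (Ideal.Quotient.mk _ x : Fib K w g c) := by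
  have : algebraMap (Polynomial K) (Fib K w g c) P = algebraMap K (Fib K w g c) (P.eval c) := by
    rw [IsScalarTower.algebraMap_apply K (Polynomial K) (Fib K w g c), ← sub_eq_zero, ← map_sub]
    show Ideal.Quotient.mk _ (algebraMap (Polynomial K) (fam K w g).range _) = 0
    rw [Ideal.Quotient.eq_zero_iff_mem, Ideal.mem_span_singleton]
    exact map_dvd _ (Polynomial.dvd_iff_isRoot.2 (by simp))
  rw [Algebra.smul_def, Algebra.smul_def, map_mul, ← this]
  rfl

lemma fib_indep (hd : 0 < d) (h : d ≤ n) (hg : WeightOK g) (c : K) :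
    LinearIndependent K fun e : BChain w => (Ideal.Quotient.mk _ (chainR K w g e) : Fib K w g c) := by
  classical
  rw [linearIndependent_iff]
  intro l hl
  have hmem : (l.sum fun e a => Polynomial.C a • chainR K w g e) ∈
      Ideal.span {algebraMap (Polynomial K) (fam K w g).range (Polynomial.X - Polynomial.C c)} := by
    rw [← Ideal.Quotient.eq_zero_iff_mem, ← hl, Finsupp.linearCombination_apply, map_finsuppSum]
    exact Finsupp.sum_congr fun e _ => by rw [fib_smul, Polynomial.eval_C]
  obtain ⟨y, hy⟩ := Ideal.mem_span_singleton.1 hmem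
  let b := famBasis K w g hd h hg
  have hb : ∀ e, b e = chainR K w g e := fun e => by simp [b, famBasis]
  ext e
  have h1 := congrArg (fun x => (b.repr x e).eval c) hy
  simp only [← Algebra.smul_def, map_smul, Finsupp.smul_apply, smul_eq_mul, map_finsuppSum, ← hb, b.repr_self,
    Finsupp.smul_single, mul_one] at h1
  rw [Polynomial.eval_mul, Polynomial.eval_sub, Polynomial.eval_X, Polynomial.eval_C, sub_self, zero_mul, Finsupp.sum_apply,
    Finsupp.sum, sum_eq_single e] at h1
  · simpa using h1
  · intro e' _ hne; simp [hne]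
  · intro he; simp [Finsupp.notMem_support_iff.1 he]

lemma fib_span (hd : 0 < d) (h : d ≤ n) (hg : WeightOK g) (c : K) :
    Submodule.span K (Set.range fun e : BChain w => (Ideal.Quotient.mk _ (chainR K w g e) : Fib K w g c)) = ⊤ := by
  rw [eq_top_iff]
  rintro x -
  obtain ⟨y, rfl⟩ := Ideal.Quotient.mk_surjective x
  have hy : y ∈ Submodule.span (Polynomial K) (Set.range (chainR K w g)) := by rw [fam_span hd h hg]; trivial
  induction hy using Submodule.span_induction with
  | mem y hy => obtain ⟨e, rfl⟩ := hy; exact Submodule.subset_span ⟨e, rfl⟩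
  | zero => simp
  | add a b _ _ ha hb => rw [map_add]; exact Submodule.add_mem _ ha hb
  | smul P y _ hy => rw [fib_smul]; exact Submodule.smul_mem _ _ hy

variable (K w g) in
/-- The special fibre map. -/
def special : MvPolynomial (Below w) K →ₐ[K] Fib K w g 0 :=
  aeval fun θ => Ideal.Quotient.mk _ ⟨fam K w g (X θ), _, rfl⟩

lemma special_prod (m : ℕ) (c : Fin m → Below w) (hc : Antitone c) :
    special K w g (∏ k, X (c k)) = Ideal.Quotient.mk _ (chainR K w g ⟨m, c, hc⟩) := by
  simp only [special, map_prod, aeval_X]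
  rw [← map_prod (Ideal.Quotient.mk (Ideal.span {algebraMap (Polynomial K) (fam K w g).range (Polynomial.X - Polynomial.C (0 : K))}))]
  refine congrArg (Ideal.Quotient.mk (Ideal.span {algebraMap (Polynomial K) (fam K w g).range (Polynomial.X - Polynomial.C (0 : K))})) ?_
  apply Subtype.ext
  rw [SubmonoidClass.coe_finsetProd]
  show _ = fam K w g _
  rw [map_prod]

open Classical in
lemma special_pair (hd : 0 < d) (h : d ≤ n) (hg : WeightOK g) (i j : Below w) (h1 : ¬ i.1 ≤ j.1) (h2 : ¬ j.1 ≤ i.1) :
    special K w g (X i * X j) =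
      if g (W4bk4grassmannian.sup i.1 j.1) + g (W4bk4grassmannian.inf i.1 j.1) = g i.1 + g j.1 ∧
          ∀ a b, SameContent a b i.1 j.1 → W4bk4grassmannian.sup i.1 j.1 ≤ a → g i.1 + g j.1 = g a + g b →
            a = W4bk4grassmannian.sup i.1 j.1 ∧ b = W4bk4grassmannian.inf i.1 j.1
      then special K w g (X (Below.sup i j) * X (Below.inf i j))
      else if ∀ a b, SameContent a b i.1 j.1 → W4bk4grassmannian.sup i.1 j.1 ≤ a → g i.1 + g j.1 < g a + g b then 0
      else special K w g (X i * X j) := by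
  classical
  obtain ⟨l, hl1, hl, hrel⟩ := straighten_fam (K := K) hd h hg i j h1 h2
  have heq : special K w g (X i * X j) = ∑ p ∈ l.support,
      if hp : p.1 ≤ w ∧ p.2 ≤ w then
        ((Polynomial.C (l p) * Polynomial.X ^ (g p.1 + g p.2 - (g i.1 + g j.1))).eval 0) • special K w g (X ⟨p.1, hp.1⟩ * X ⟨p.2, hp.2⟩)
      else 0 := by
    have e : (⟨fam K w g (X i * X j), _, rfl⟩ : (fam K w g).range) = ∑ p ∈ l.support,
        if hp : p.1 ≤ w ∧ p.2 ≤ w then
          (Polynomial.C (l p) * Polynomial.X ^ (g p.1 + g p.2 - (g i.1 + g j.1))) •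
            (⟨fam K w g (X ⟨p.1, hp.1⟩ * X ⟨p.2, hp.2⟩), _, rfl⟩ : (fam K w g).range)
        else 0 := by
      apply Subtype.ext
      rw [AddSubmonoidClass.coe_finsetSum]
      show fam K w g _ = _
      rw [hrel]
      refine sum_congr rfl fun p _ => ?_
      split_ifs with hp
      · rw [Subalgebra.coe_smul, Algebra.smul_def, map_mul]
        exact congrArg (· * _) ((fam K w g).commutes _)
      · rfl
    have sp : ∀ a b : Below w, special K w g (X a * X b) = Ideal.Quotient.mk _ ⟨fam K w g (X a * X b), _, rfl⟩ := by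
      intro a b
      rw [special, map_mul, aeval_X, aeval_X, ← map_mul]
      congr 1
      exact Subtype.ext (by simp [map_mul])
    rw [sp, e, map_sum]
    refine sum_congr rfl fun p _ => ?_
    split_ifs with hp
    · rw [fib_smul, sp]
    · exact map_zero _
  split_ifs with hA hB
  · conv_lhs => rw [heq]
    rw [sum_eq_single (W4bk4grassmannian.sup i.1 j.1, W4bk4grassmannian.inf i.1 j.1)]
    · rw [dif_pos ⟨sup_le' i.2 j.2, (inf_le_left' _ _).trans i.2⟩, hl1, hA.1]
      simp [Below.sup, Below.inf]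
    · intro p hp hne
      obtain ⟨-, hs, hc, hle⟩ := hl p hp
      split_ifs with hpw
      · rcases eq_or_lt_of_le hle with e | e
        · obtain ⟨e1, e2⟩ := hA.2 _ _ hc hs e
          exact absurd (Prod.ext e1 e2) hne
        · have : g p.1 + g p.2 - (g i.1 + g j.1) ≠ 0 := by omega
          simp [zero_pow this]
      · rfl
    · intro hnot
      rw [Finsupp.notMem_support_iff.1 hnot] at hl1
      exact absurd hl1 zero_ne_one
  · rw [heq]
    refine sum_eq_zero fun p hp => ?_
    obtain ⟨-, hs, hc, -⟩ := hl p hp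
    split_ifs with hpw
    · have := hB _ _ hc hs
      have : g p.1 + g p.2 - (g i.1 + g j.1) ≠ 0 := by omega
      simp [zero_pow this]
    · rfl
  · rfl

lemma special_bij (hd : 0 < d) (h : d ≤ n) (hg : WeightOK g) (J : Ideal (MvPolynomial (Below w) K))
    (hJ : ∀ f ∈ J, special K w g f = 0)
    (hJspan : Submodule.span K (Set.range fun e : BChain w => Ideal.Quotient.mk J (∏ k, X (e.2.1 k))) = ⊤) :
    Function.Bijective (Ideal.Quotient.liftₐ J (special K w g) hJ) := by
  have hval : ∀ e : BChain w, Ideal.Quotient.liftₐ J (special K w g) hJ (Ideal.Quotient.mk J (∏ k, X (e.2.1 k))) =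
      Ideal.Quotient.mk _ (chainR K w g e) := fun ⟨m, c, hc⟩ => special_prod m c hc
  refine ⟨injective_of_span_indep (Ideal.Quotient.liftₐ J (special K w g) hJ).toLinearMap _ hJspan ?_, ?_⟩
  · convert fib_indep hd h hg (0 : K) using 1
    any_goals rfl
    exact funext hval
  · intro x
    have hx : x ∈ Submodule.span K (Set.range fun e : BChain w => (Ideal.Quotient.mk _ (chainR K w g e) : Fib K w g 0)) := by
      rw [fib_span hd h hg]; trivial
    induction hx using Submodule.span_induction with
    | mem y hy => obtain ⟨e, rfl⟩ := hy; exact ⟨_, hval e⟩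
    | zero => exact ⟨0, map_zero _⟩
    | add a b _ _ ha hb =>
      obtain ⟨a', rfl⟩ := ha; obtain ⟨b', rfl⟩ := hb
      exact ⟨a' + b', map_add _ _ _⟩
    | smul r y _ hy =>
      obtain ⟨y', rfl⟩ := hy
      exact ⟨r • y', map_smul _ _ _⟩

/-- Evaluation of the parameter. -/
def evT (c : Kˣ) : LR K d n →+* MatRing K d n :=
  LaurentPolynomial.eval₂ (RingHom.id _) (Units.map (C : K →+* MatRing K d n).toMonoidHom c)

lemma evT_par (c : Kˣ) (P : Polynomial K) : evT (d := d) (n := n) c (algebraMap (Polynomial K) (LR K d n) P) = C (P.eval (c : K)) := by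
  show evT c (Polynomial.toLaurent (Polynomial.map C P)) = _
  rw [evT, LaurentPolynomial.eval₂_toLaurent, Polynomial.eval₂_map, RingHom.id_comp]
  exact Polynomial.eval₂_hom _ _

lemma general_fib (hd : 0 < d) (h : d ≤ n) (hg : WeightOK g) [Infinite K] (c : K) (hc : c ≠ 0) :
    Nonempty (Fib K w g c ≃ₐ[K] (PlRing K d n ⧸ schubertVanishing K d n w)) := by
  classical
  rw [← plIdeal_eq_vanishing K hd]
  let cu : Kˣ := Units.mk0 c hc
  let h₀ : (fam K w g).range →ₐ[K] MatRing K d n :=
    { toRingHom := (evT cu).comp ((fam K w g).range.val : (fam K w g).range →+* LR K d n)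
      commutes' := fun r => by
        show evT cu (algebraMap K (LR K d n) r) = _
        rw [IsScalarTower.algebraMap_apply K (Polynomial K) (LR K d n), evT_par]
        simp }
  have hker : ∀ x ∈ Ideal.span {algebraMap (Polynomial K) (fam K w g).range (Polynomial.X - Polynomial.C c)}, h₀ x = 0 := by
    intro x hx
    obtain ⟨y, rfl⟩ := Ideal.mem_span_singleton.1 hx
    rw [map_mul]
    show evT cu (algebraMap (Polynomial K) (LR K d n) _) * _ = 0
    rw [evT_par]
    simp [cu]
  let φ := Ideal.Quotient.liftₐ _ h₀ hker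
  let ψ : (PlRing K d n ⧸ plIdeal K w) →ₐ[K] MatRing K d n :=
    Ideal.Quotient.liftₐ _ (rho K w) (fun x hx => plIdeal_le_ker K le_rfl hx)
  have hψ : Function.Injective ψ := by
    rw [injective_iff_map_eq_zero]
    intro x hx
    obtain ⟨y, rfl⟩ := Ideal.Quotient.mk_surjective x
    rw [Ideal.Quotient.eq_zero_iff_mem, plIdeal_eq_ker K hd]
    exact hx
  have hφe : ∀ e : BChain w, φ (Ideal.Quotient.mk _ (chainR K w g e)) =
      ((c ^ gtot w g e)⁻¹) • ψ (Ideal.Quotient.mk _ (chainMon K fun k => (e.2.1 k).1)) := by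
    intro e
    show evT cu (chainR K w g e : LR K d n) = _ • rho K w _
    rw [chainR_val, map_mul, evT, LaurentPolynomial.eval₂_C, LaurentPolynomial.eval₂_T, Algebra.smul_def, mul_comm]
    congr 1
    rw [← map_zpow, Units.coe_map]
    simp [cu, zpow_neg]
  have hspanψ : ∀ x, φ x ∈ ψ.range := by
    intro x
    have hx : x ∈ Submodule.span K (Set.range fun e : BChain w => (Ideal.Quotient.mk _ (chainR K w g e) : Fib K w g c)) := by
      rw [fib_span hd h hg]; trivial
    induction hx using Submodule.span_induction with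
    | mem y hy => obtain ⟨e, rfl⟩ := hy; rw [hφe]; exact ψ.range.smul_mem ⟨_, rfl⟩ _
    | zero => rw [map_zero]; exact zero_mem _
    | add a b _ _ ha hb => rw [map_add]; exact add_mem ha hb
    | smul r y _ hy => rw [map_smul]; exact ψ.range.smul_mem hy _
  let χ : Fib K w g c →ₐ[K] (PlRing K d n ⧸ plIdeal K w) :=
    (AlgEquiv.ofInjective ψ hψ).symm.toAlgHom.comp (φ.codRestrict ψ.range hspanψ)
  have hχ : ∀ x, ψ (χ x) = φ x := fun x =>
    congrArg Subtype.val ((AlgEquiv.ofInjective ψ hψ).apply_symm_apply ⟨φ x, hspanψ x⟩)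
  have hχe : ∀ e : BChain w, χ (Ideal.Quotient.mk _ (chainR K w g e)) =
      ((c ^ gtot w g e)⁻¹) • Ideal.Quotient.mk _ (chainMon K fun k => (e.2.1 k).1) :=
    fun e => hψ (by rw [hχ, hφe, map_smul])
  have hbasis := union_basis (K := K) hd (fun _ : Unit => w)
  have hI : (⨅ _ : Unit, plIdeal K w) = plIdeal K w := ciInf_const
  refine ⟨AlgEquiv.ofBijective χ ⟨injective_of_span_indep χ.toLinearMap _ (fib_span hd h hg c) ?_, ?_⟩⟩
  · let emb : BChain w → (Σ m : ℕ, {c : Fin m → Idx d n // Antitone c ∧ ∃ _i : Unit, ∀ k, c k ≤ w}) :=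
      fun e => ⟨e.1, fun k => (e.2.1 k).1, fun a b hab => e.2.2 hab, (), fun k => (e.2.1 k).2⟩
    have hemb : Function.Injective emb := by
      rintro ⟨m, a⟩ ⟨m', b⟩ h
      have hm := (Sigma.mk.inj h).1
      simp only [emb] at hm
      subst hm
      have h2 := congrArg Subtype.val (eq_of_heq (Sigma.mk.inj h).2)
      exact congrArg (Sigma.mk m) (Subtype.ext (funext fun k => Subtype.ext (congrFun h2 k)))
    have hi := hbasis.1
    rw [hI] at hi
    have hi' := (hi.comp emb hemb).units_smul fun e => (Units.mk0 ((c ^ gtot w g e)⁻¹) (inv_ne_zero (pow_ne_zero _ hc)))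
    convert hi' using 1
    any_goals rfl
    exact funext fun e => hχe e
  · intro x
    have hs := hbasis.2
    rw [hI] at hs
    have hx : x ∈ Submodule.span K _ := hs ▸ Submodule.mem_top
    induction hx using Submodule.span_induction with
    | mem y hy =>
      obtain ⟨⟨m, c', hc', -, hle⟩, rfl⟩ := hy
      let e : BChain w := ⟨m, fun k => ⟨c' k, hle k⟩, fun a b hab => hc' hab⟩
      refine ⟨(c ^ gtot w g e) • Ideal.Quotient.mk _ (chainR K w g e), ?_⟩
      rw [map_smul, hχe, smul_smul, mul_inv_cancel₀ (pow_ne_zero _ hc), one_smul]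
    | zero => exact ⟨0, map_zero _⟩
    | add a b _ _ ha hb =>
      obtain ⟨a', rfl⟩ := ha; obtain ⟨b', rfl⟩ := hb
      exact ⟨a' + b', map_add _ _ _⟩
    | smul r y _ hy =>
      obtain ⟨y', rfl⟩ := hy
      exact ⟨r • y', map_smul _ _ _⟩

lemma special_quot_span (J : Ideal (MvPolynomial (Below w) K))
    (hstep : ∀ i j : Below w, ¬ i.1 ≤ j.1 → ¬ j.1 ≤ i.1 → X i * X j ∈ J ∨ X i * X j - X (Below.sup i j) * X (Below.inf i j) ∈ J) :
    Submodule.span K (Set.range fun e : BChain w => Ideal.Quotient.mk J (∏ k, X (e.2.1 k))) = ⊤ := by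
  rw [eq_top_iff]
  rintro x -
  obtain ⟨p, rfl⟩ := Ideal.Quotient.mk_surjective x
  refine span_chains (Ideal.Quotient.mkₐ K J).toLinearMap (fun i j hij hji u => ?_) p
  rcases hstep i j hij hji with hJ | hJ
  · have : (Ideal.Quotient.mkₐ K J).toLinearMap (bmon w K (i ::ₘ j ::ₘ u)) = 0 := by
      show Ideal.Quotient.mk J _ = 0
      rw [Ideal.Quotient.eq_zero_iff_mem, bmon_cons, bmon_cons, ← mul_assoc]
      exact Ideal.mul_mem_right _ _ hJ
    rw [this]; exact zero_mem _
  · refine Submodule.subset_span ⟨Below.sup i j, Below.inf i j, ?_, ?_, ?_, ?_⟩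
    · show wt (W4bk4grassmannian.sup i.1 j.1) + wt (W4bk4grassmannian.inf i.1 j.1) = _
      exact SameContent.wt fun x => by rw [cnt_sup, cnt_inf]; omega
    · exact wt_lt (lt_of_le_of_ne (le_sup_left' i.1 j.1) fun e => hji (by rw [e]; exact le_sup_right' _ _))
    · exact wt_lt (lt_of_le_of_ne (le_sup_right' i.1 j.1) fun e => hij (by rw [e]; exact le_sup_left' _ _))
    · show Ideal.Quotient.mk J _ = Ideal.Quotient.mk J _
      rw [Ideal.Quotient.eq, bmon_cons, bmon_cons, bmon_cons, bmon_cons, ← mul_assoc, ← mul_assoc, ← sub_mul]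
      exact Ideal.mul_mem_right _ _ hJ

theorem degen [Infinite K] (hd : 0 < d) (h : d ≤ n) (hg : WeightOK g) (J : Ideal (MvPolynomial (Below w) K))
    (hJ : ∀ f ∈ J, special K w g f = 0)
    (hstep : ∀ i j : Below w, ¬ i.1 ≤ j.1 → ¬ j.1 ≤ i.1 → X i * X j ∈ J ∨ X i * X j - X (Below.sup i j) * X (Below.inf i j) ∈ J) :
    ∃ (R : Type u) (_ : CommRing R) (_ : Algebra K R) (_ : Algebra (Polynomial K) R)
      (_ : IsScalarTower K (Polynomial K) R),
      Module.Free (Polynomial K) R ∧
      Nonempty ((R ⧸ Ideal.span {algebraMap (Polynomial K) R Polynomial.X}) ≃ₐ[K] (MvPolynomial (Below w) K ⧸ J)) ∧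
      ∀ c : K, c ≠ 0 →
        Nonempty ((R ⧸ Ideal.span {algebraMap (Polynomial K) R (Polynomial.X - Polynomial.C c)}) ≃ₐ[K]
          (PlRing K d n ⧸ schubertVanishing K d n w)) := by
  refine ⟨(fam K w g).range, inferInstance, inferInstance, inferInstance, inferInstance,
    Module.Free.of_basis (famBasis K w g hd h hg), ?_, fun c hc => general_fib hd h hg c hc⟩
  have e := AlgEquiv.ofBijective _ (special_bij hd h hg J hJ (special_quot_span J hstep))
  have h0 : Ideal.span {algebraMap (Polynomial K) (fam K w g).range (Polynomial.X - Polynomial.C (0 : K))} =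
      Ideal.span {algebraMap (Polynomial K) (fam K w g).range Polynomial.X} := by rw [Polynomial.C_0, sub_zero]
  exact ⟨(Ideal.quotientEquivAlgOfEq K h0.symm).trans e.symm⟩

variable (w)

theorem hibi_degen [Infinite K] (hd : 0 < d) (h : d ≤ n) :
    ∀ f ∈ hibiIdeal K w, special K w qw f = 0 := by
  classical
  have hg : WeightOK (d := d) (n := n) qw := fun i j a b _ _ hc hs =>
    (qw_pair hc ((le_sup_left' i j).trans hs) ((le_sup_right' i j).trans hs)).1
  suffices hibiIdeal K w ≤ RingHom.ker (special K w qw).toRingHom from fun f hf => this hf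
  refine Ideal.span_le.2 ?_
  rintro _ ⟨a, b, rfl⟩
  show special K w qw _ = 0
  rw [map_sub, sub_eq_zero]
  by_cases hab : a.1 ≤ b.1
  · rw [show Below.sup a b = b from Subtype.ext (Subtype.ext (funext fun t => max_eq_right (hab t))),
      show Below.inf a b = a from Subtype.ext (Subtype.ext (funext fun t => min_eq_left (hab t))), mul_comm]
  by_cases hba : b.1 ≤ a.1
  · rw [show Below.sup a b = a from Subtype.ext (Subtype.ext (funext fun t => max_eq_left (hba t))),
      show Below.inf a b = b from Subtype.ext (Subtype.ext (funext fun t => min_eq_right (hba t)))]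
  refine (special_pair hd h hg a b hab hba).trans (if_pos ⟨?_, fun x y hc hs e => ?_⟩)
  · simp only [qw, ← sum_add_distrib]
    refine sum_congr rfl fun x _ => ?_
    rw [cnt_sup, cnt_inf]
    rcases le_total (cnt a.1 x) (cnt b.1 x) with hh | hh
    · rw [min_eq_left hh, max_eq_right hh]
    · rw [min_eq_right hh, max_eq_left hh, add_comm]
  · exact (qw_pair hc ((le_sup_left' _ _).trans hs) ((le_sup_right' _ _).trans hs)).2 e

theorem sr_weight {i j a b : Idx d n} (hij : ¬ i ≤ j) (hji : ¬ j ≤ i) (hc : SameContent a b i j)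
    (hs : W4bk4grassmannian.sup i j ≤ a) : wt i ^ 2 + wt j ^ 2 < wt a ^ 2 + wt b ^ 2 := by
  have h1 := lt_of_lt_of_le (wt_lt (lt_of_le_of_ne (le_sup_left' i j) fun e => hji (by rw [e]; exact le_sup_right' _ _))) (wt_le hs)
  have h2 := lt_of_lt_of_le (wt_lt (lt_of_le_of_ne (le_sup_right' i j) fun e => hij (by rw [e]; exact le_sup_left' _ _))) (wt_le hs)
  have hsum := hc.wt
  obtain ⟨δ, hδ⟩ := Nat.exists_eq_add_of_lt h1
  obtain ⟨δ', hδ'⟩ := Nat.exists_eq_add_of_lt h2
  have e1 : wt j = wt b + (δ + 1) := by omega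
  have e2 : wt i = wt b + (δ' + 1) := by omega
  have e3 : wt a = wt b + (δ + 1) + (δ' + 1) := by omega
  rw [e1, e2, e3]
  nlinarith [Nat.mul_pos (Nat.succ_pos δ) (Nat.succ_pos δ')]

theorem sr_degen [Infinite K] (hd : 0 < d) (h : d ≤ n) :
    ∀ f ∈ srIdeal K w, special K w (fun θ => wt θ ^ 2) f = 0 := by
  classical
  have hg : WeightOK (d := d) (n := n) (fun θ => wt θ ^ 2) := fun i j a b h1 h2 hc hs => (sr_weight h1 h2 hc hs).le
  suffices srIdeal K w ≤ RingHom.ker (special K w (fun θ => wt θ ^ 2)).toRingHom from fun f hf => this hf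
  refine Ideal.span_le.2 ?_
  rintro _ ⟨a, b, hab, hba, rfl⟩
  show special K w _ _ = 0
  refine (special_pair hd h hg a b hab hba).trans ?_
  rw [if_neg, if_pos (fun x y hc hs => sr_weight hab hba hc hs)]
  rintro ⟨e, -⟩
  have := sr_weight hab hba (a := W4bk4grassmannian.sup a.1 b.1) (b := W4bk4grassmannian.inf a.1 b.1)
    (fun x => by rw [cnt_sup, cnt_inf]; omega) le_rfl
  omega

end LeadGrass
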