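import Groth.Agent.Lead.Grass.Varieties

/-! Plücker embedding: injectivity and the quadrics. -/

noncomputable section

open MvPolynomial W4bk4grassmannian Finset

universe u

namespace LeadGrass

variable {K : Type u} [Field K] {d n : ℕ}

lemma det_update_row {R : Type*} [CommRing R] {a : Fin d → Fin n} (B : Matrix (Fin n) (Fin d) R)
    (hB : B.submatrix a id = 1) (t : Fin d) (s : Fin n) :
    (B.submatrix (Function.update a t s) id).det = B s t := by
  have : B.submatrix (Function.update a t s) id =
      (1 : Matrix (Fin d) (Fin d) R).updateRow t (∑ k, B s k • (1 : Matrix (Fin d) (Fin d) R) k) := by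
    ext x y
    by_cases hx : x = t
    · subst hx
      simp [Matrix.updateRow_self, Matrix.one_apply]
    · rw [Matrix.updateRow_ne hx, ← hB]
      simp [Function.update_of_ne hx]
  rw [this, Matrix.det_updateRow_sum, Matrix.det_one, smul_eq_mul, mul_one]

lemma exists_minor_ne {A : Matrix (Fin n) (Fin d) K} (hA : LinearIndependent K A.transpose) :
    ∃ θ : Idx d n, (A.submatrix θ.1 id).det ≠ 0 := by
  classical
  have hspan : Submodule.span K (Set.range fun i => A i) = ⊤ := by
    apply Submodule.eq_top_of_finrank_eq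
    rw [Module.finrank_fin_fun]
    have h1 := A.rank_eq_finrank_span_row
    have h2 : A.rank = d := by rw [← Matrix.rank_transpose]; exact hA.rank_matrix.trans (Fintype.card_fin d)
    rw [h2] at h1
    exact h1.symm
  obtain ⟨f, hf, hinj, hfspan, hli⟩ := exists_linearIndependent' K (fun i => A i)
  haveI : Fintype f := Fintype.ofInjective hf hinj
  have hcard : Fintype.card f = d := by
    have := finrank_span_eq_card hli
    rw [hfspan, hspan, finrank_top, Module.finrank_fin_fun] at this
    exact this.symm
  let e := (Fintype.equivFinOfCardEq hcard).symm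
  have hne : (A.submatrix (fun t => hf (e t)) id).det ≠ 0 := by
    have h3 : LinearIndependent K (A.submatrix (fun t => hf (e t)) id).row := hli.comp e e.injective
    exact (Matrix.isUnit_iff_isUnit_det _).1 (Matrix.linearIndependent_rows_iff_isUnit.1 h3) |>.ne_zero
  rw [← pl_coord (K := K)] at hne
  unfold coord at hne
  split_ifs at hne with h
  · refine ⟨sortIdx d n _ h, fun h0 => hne ?_⟩
    rw [map_mul, pl_X, h0, mul_zero]
  · simp at hne

lemma mul_inv_pivot {A : Matrix (Fin n) (Fin d) K} {θ : Fin d → Fin n} (h : (A.submatrix θ id).det ≠ 0) :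
    (A * (A.submatrix θ id)⁻¹).submatrix θ id = 1 := by
  rw [Matrix.submatrix_mul A (A.submatrix θ id)⁻¹ θ id id Function.bijective_id, Matrix.submatrix_id_id,
    Matrix.mul_nonsing_inv _ (IsUnit.mk0 _ h)]

lemma span_le_of_mul (A' : Matrix (Fin n) (Fin d) K) (h : Matrix (Fin d) (Fin d) K) :
    Submodule.span K (Set.range (A' * h).transpose) ≤ Submodule.span K (Set.range A'.transpose) := by
  rw [Submodule.span_le]
  rintro _ ⟨t, rfl⟩
  have : (A' * h).transpose t = ∑ k, h k t • A'.transpose k := by
    ext i; simp [Matrix.mul_apply, mul_comm]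
  rw [this]
  exact Submodule.sum_mem _ fun k _ => Submodule.smul_mem _ _ (Submodule.subset_span ⟨k, rfl⟩)

theorem plucker_injective {A A' : Matrix (Fin n) (Fin d) K} (hA : LinearIndependent K A.transpose) {c : K}
    (hc : c ≠ 0) (h : ∀ θ : Idx d n, (A.submatrix θ.1 id).det = c * (A'.submatrix θ.1 id).det) :
    Submodule.span K (Set.range A.transpose) = Submodule.span K (Set.range A'.transpose) := by
  classical
  obtain ⟨θ, hθ⟩ := exists_minor_ne hA
  have hθ' : (A'.submatrix θ.1 id).det ≠ 0 := fun e => hθ (by rw [h, e, mul_zero])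
  set g := A.submatrix θ.1 id with hg
  set g' := A'.submatrix θ.1 id with hg'
  have hall : ∀ a : Fin d → Fin n, (A.submatrix a id).det = c * (A'.submatrix a id).det := by
    intro a
    rw [← pl_coord (K := K), ← pl_coord (K := K)]
    unfold coord
    split_ifs with ha
    · rw [map_mul, map_mul, pl_X, pl_X, h]
      simp only [map_pow, map_neg, map_one]; ring
    · simp
  have hBB : A * g⁻¹ = A' * g'⁻¹ := by
    ext s t
    rw [← det_update_row (A * g⁻¹) (mul_inv_pivot hθ) t s, ← det_update_row (A' * g'⁻¹) (mul_inv_pivot hθ') t s,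
      Matrix.submatrix_mul A g⁻¹ (Function.update θ.1 t s) id id Function.bijective_id,
      Matrix.submatrix_mul A' g'⁻¹ (Function.update θ.1 t s) id id Function.bijective_id,
      Matrix.submatrix_id_id, Matrix.submatrix_id_id, Matrix.det_mul, Matrix.det_mul, Matrix.det_nonsing_inv,
      Matrix.det_nonsing_inv, Ring.inverse_eq_inv', hall, hall θ.1, hg']
    field_simp
  apply le_antisymm
  · have : A = A' * (g'⁻¹ * g) := by
      rw [← Matrix.mul_assoc, ← hBB, Matrix.mul_assoc, Matrix.nonsing_inv_mul g (IsUnit.mk0 _ hθ), Matrix.mul_one]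
    conv_lhs => rw [this]
    exact span_le_of_mul _ _
  · have : A' = A * (g⁻¹ * g') := by
      rw [← Matrix.mul_assoc, hBB, Matrix.mul_assoc, Matrix.nonsing_inv_mul g' (IsUnit.mk0 _ hθ'), Matrix.mul_one]
    conv_lhs => rw [this]
    exact span_le_of_mul _ _

variable {e : ℕ}

/-- Decomposable vectors satisfy the quadrics. -/
theorem pl_quadric {R : Type*} [CommRing R] [Algebra K R] (M : Matrix (Fin n) (Fin (e + 1)) R) (i' : Idx e n) (j' : Idx (e + 2) n) :
    pl (K := K) M (quadric K i' j') = 0 := by
  set L : Fin (e + 1) → R := fun c => (Matrix.of (Fin.snoc (fun t => M (i'.1 t)) (Pi.single c 1) : Fin (e + 1) → Fin (e + 1) → R)).det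
  have hlin : ∀ x : Fin n, (M.submatrix (Fin.snoc i'.1 x) id).det = ∑ c, M x c * L c := by
    intro x
    have e1 : M.submatrix (Fin.snoc i'.1 x) id =
        Matrix.updateRow (M.submatrix (Fin.snoc i'.1 x) id) (Fin.last e) (∑ c, M x c • Pi.single c 1) := by
      ext a b
      by_cases ha : a = Fin.last e
      · subst ha; simp [Matrix.updateRow_self, Pi.single_apply]
      · rw [Matrix.updateRow_ne ha]
    have e2 : ∀ c, (Matrix.updateRow (M.submatrix (Fin.snoc i'.1 x) id) (Fin.last e) (Pi.single c 1)).det = L c := by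
      intro c
      congr 1
      ext a b
      induction a using Fin.lastCases with
      | last => simp [Matrix.updateRow_self]
      | cast a => simp [Matrix.updateRow_ne (Fin.castSucc_lt_last a).ne]
    rw [e1]
    let f := (Matrix.detRowAlternating : (Fin (e + 1) → R) [⋀^Fin (e + 1)]→ₗ[R] R).toMultilinearMap.toLinearMap
      (M.submatrix (Fin.snoc i'.1 x) id) (Fin.last e)
    show f (∑ c, M x c • Pi.single c 1) = _
    rw [map_sum]
    refine sum_congr rfl fun c _ => ?_
    rw [map_smul, smul_eq_mul, ← e2 c]
    rfl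
  rw [quadric, map_sum]
  have hterm : ∀ h : Fin (e + 2), pl (K := K) M ((-1 : PlRing K (e + 1) n) ^ (h.val + 1) * coord K (e + 1) n (Fin.snoc i'.1 (j'.1 h)) *
      coord K (e + 1) n (j'.1 ∘ h.succAbove)) =
      ∑ c, -(L c * ((-1) ^ h.val * M (j'.1 h) c * (M.submatrix (j'.1 ∘ h.succAbove) id).det)) := by
    intro h
    rw [map_mul, map_mul, map_pow, map_neg, map_one, pl_coord, pl_coord, hlin, mul_sum, sum_mul]
    refine sum_congr rfl fun c _ => ?_
    rw [pow_succ]; ring
  rw [sum_congr rfl fun h _ => hterm h, sum_comm]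
  refine sum_eq_zero fun c _ => ?_
  rw [sum_neg_distrib, ← mul_sum, neg_eq_zero]
  have hz : ∑ h : Fin (e + 2), (-1 : R) ^ h.val * M (j'.1 h) c * (M.submatrix (j'.1 ∘ h.succAbove) id).det = 0 := by
    set N : Matrix (Fin (e + 2)) (Fin (e + 2)) R := Matrix.of fun h => Fin.cons (M (j'.1 h) c) (M (j'.1 h))
    have hN : N.det = 0 := Matrix.det_zero_of_column_eq (i := 0) (j := c.succ) (Fin.succ_ne_zero c).symm (fun h => by simp [N])
    rw [← hN, Matrix.det_succ_column_zero]
    exact sum_congr rfl fun h _ => rfl
  rw [hz, mul_zero]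

lemma eval_coord_eq (q : Idx d n → K) (f : Idx d n → K) (a : Fin d → Fin n)
    (h : ∀ hc : (univ.image a).card = d, q (sortIdx d n a hc) = f (sortIdx d n a hc)) :
    eval q (coord K d n a) = eval f (coord K d n a) := by
  unfold coord
  split_ifs with hc
  · simp [h hc]
  · simp

theorem quadrics_iff (e n : ℕ) (q : Idx (e + 1) n → K) (hq : q ≠ 0) :
    (∀ (i' : Idx e n) (j' : Idx (e + 2) n), MvPolynomial.eval q (quadric K i' j') = 0) ↔
      ∃ A : Matrix (Fin n) (Fin (e + 1)) K, ∀ θ : Idx (e + 1) n, q θ = (A.submatrix θ.1 id).det := by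
  classical
  have hev : ∀ (A : Matrix (Fin n) (Fin (e + 1)) K) (f : PlRing K (e + 1) n),
      eval (fun θ : Idx (e + 1) n => (A.submatrix θ.1 id).det) f = pl (K := K) A f := fun A f => by
    rw [pl, aeval_eq_eval]
  constructor
  swap
  · rintro ⟨A, hA⟩ i' j'
    rw [show q = fun θ : Idx (e + 1) n => (A.submatrix θ.1 id).det from funext hA, hev]
    exact pl_quadric A i' j'
  intro hquad
  obtain ⟨θ₀, hθ₀⟩ := Function.ne_iff.1 hq
  simp only [Pi.zero_apply] at hθ₀
  set c := q θ₀
  set B : Matrix (Fin n) (Fin (e + 1)) K := Matrix.of fun s t => eval q (coord K (e + 1) n (Function.update θ₀.1 t s)) / c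
  have hB1 : B.submatrix θ₀.1 id = 1 := by
    ext a t
    simp only [Matrix.submatrix_apply, id, B, Matrix.of_apply, Matrix.one_apply]
    split_ifs with hat
    · subst hat
      rw [Function.update_eq_self, coord_of_idx, eval_X, div_self hθ₀]
    · rw [coord, dif_neg, map_zero, zero_div]
      intro hc
      have := injective_of_card hc (show Function.update θ₀.1 t (θ₀.1 a) a = Function.update θ₀.1 t (θ₀.1 a) t by
        simp [Function.update_of_ne hat])
      exact hat this
  let z : Fin (e + 1) → K := fun t => if t = 0 then c else 1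
  refine ⟨Matrix.of fun s t => B s t * z t, ?_⟩
  set A : Matrix (Fin n) (Fin (e + 1)) K := Matrix.of fun s t => B s t * z t
  have hAdet : ∀ a : Fin (e + 1) → Fin n, (A.submatrix a id).det = c * (B.submatrix a id).det := by
    intro a
    have : A.submatrix a id = B.submatrix a id * Matrix.diagonal z := by ext x y; simp [A, Matrix.mul_diagonal]
    rw [this, Matrix.det_mul, Matrix.det_diagonal, mul_comm]
    simp [z, Finset.prod_ite_eq']
  set P : Idx (e + 1) n → K := fun θ => (A.submatrix θ.1 id).det with hP
  have hone : ∀ (t : Fin (e + 1)) (s : Fin n), eval q (coord K (e + 1) n (Function.update θ₀.1 t s)) =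
      eval P (coord K (e + 1) n (Function.update θ₀.1 t s)) := by
    intro t s
    rw [hev, pl_coord, hAdet, det_update_row B hB1 t s]
    simp only [B, Matrix.of_apply]
    rw [mul_div_cancel₀ _ hθ₀]
  suffices ∀ (k : ℕ) (θ : Idx (e + 1) n), ((univ.image θ.1) \ (univ.image θ₀.1)).card = k → q θ = P θ from
    fun θ => this _ θ rfl
  intro k
  induction k using Nat.strong_induction_on with
  | _ k ih =>
    intro θ hk
    by_cases h0 : k = 0
    · subst h0
      have hsub : univ.image θ.1 ⊆ univ.image θ₀.1 := Finset.sdiff_eq_empty_iff_subset.1 (card_eq_zero.1 hk)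
      have heq : univ.image θ.1 = univ.image θ₀.1 := eq_of_subset_of_card_le hsub (by
        rw [card_image_of_injective _ θ₀.2.injective, card_image_of_injective _ θ.2.injective])
      have : θ = θ₀ := by
        refine Subtype.ext ((θ.2.range_inj θ₀.2).1 ?_)
        simpa using congrArg (fun s : Finset (Fin n) => (s : Set (Fin n))) heq
      subst this
      have := hone 0 (θ.1 0)
      rwa [Function.update_eq_self, coord_of_idx, eval_X, eval_X] at this
    obtain ⟨b, hb⟩ := card_pos.1 (hk ▸ Nat.pos_of_ne_zero h0)
    obtain ⟨hbθ, hb0⟩ := mem_sdiff.1 hb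
    set I := (univ.image θ.1).erase b
    set J := insert b (univ.image θ₀.1)
    have hI : I.card = e := by
      rw [card_erase_of_mem hbθ, card_image_of_injective _ θ.2.injective, card_univ, Fintype.card_fin]; omega
    have hJ : J.card = e + 2 := by
      rw [card_insert_of_notMem hb0, card_image_of_injective _ θ₀.2.injective, card_univ, Fintype.card_fin]
    let i' : Idx e n := ⟨fun t => I.orderEmbOfFin hI t, (I.orderEmbOfFin hI).strictMono⟩
    let j' : Idx (e + 2) n := ⟨fun t => J.orderEmbOfFin hJ t, (J.orderEmbOfFin hJ).strictMono⟩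
    obtain ⟨h₀, hh₀⟩ : b ∈ Set.range (J.orderEmbOfFin hJ) := by
      rw [range_orderEmbOfFin]; simp [J]
    have himgI : univ.image i'.1 = I := Finset.image_orderEmbOfFin_univ I hI
    have himgJ : univ.image j'.1 = J := Finset.image_orderEmbOfFin_univ J hJ
    have hsnoc : ∀ x, univ.image (Fin.snoc i'.1 x : Fin (e + 1) → Fin n) = insert x I := by
      intro x; ext y
      simp only [mem_image, mem_univ, true_and, mem_insert, ← himgI]
      constructor
      · rintro ⟨a, rfl⟩
        induction a using Fin.lastCases with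
        | last => simp
        | cast a => right; exact ⟨a, by simp⟩
      · rintro (rfl | ⟨a, rfl⟩)
        exacts [⟨Fin.last e, by simp⟩, ⟨a.castSucc, by simp⟩]
    have hsucc : ∀ h : Fin (e + 2), univ.image (j'.1 ∘ h.succAbove) = J.erase (j'.1 h) := by
      intro h; ext y
      simp only [mem_image, mem_univ, true_and, mem_erase, ← himgJ, Function.comp_apply]
      constructor
      · rintro ⟨a, rfl⟩
        exact ⟨fun e => h.succAbove_ne a (j'.2.injective e), _, rfl⟩
      · rintro ⟨hne, a, rfl⟩
        obtain ⟨a', rfl⟩ := Fin.exists_succAbove_eq (fun e : a = h => hne (by rw [e]))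
        exact ⟨a', rfl⟩
    have hsort : ∀ (a : Fin (e + 1) → Fin n) (hc : (univ.image a).card = e + 1),
        univ.image (sortIdx (e + 1) n a hc).1 = univ.image a := fun a hc =>
      Finset.image_orderEmbOfFin_univ _ hc
    have hsec : ∀ h : Fin (e + 2),
        eval q (coord K (e + 1) n (j'.1 ∘ h.succAbove)) = eval P (coord K (e + 1) n (j'.1 ∘ h.succAbove)) := by
      intro h
      refine eval_coord_eq q P _ fun hc => ?_
      by_cases hh : h = h₀
      · subst hh
        have : sortIdx (e + 1) n _ hc = θ₀ := by
          refine Subtype.ext (((sortIdx (e + 1) n _ hc).2.range_inj θ₀.2).1 ?_)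
          have := congrArg (fun s : Finset (Fin n) => (s : Set (Fin n))) (hsort _ hc)
          simp only [coe_image, coe_univ, Set.image_univ] at this
          rw [this]
          have h2 := congrArg (fun s : Finset (Fin n) => (s : Set (Fin n))) (hsucc h)
          simp only [coe_image, coe_univ, Set.image_univ] at h2
          rw [h2, show j'.1 h = b from hh₀, erase_insert hb0]
          simp
        rw [this]
        have := hone 0 (θ₀.1 0)
        rwa [Function.update_eq_self, coord_of_idx, eval_X, eval_X] at this
      · have hmem : j'.1 h ∈ univ.image θ₀.1 := by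
          have : j'.1 h ∈ J := himgJ ▸ mem_image_of_mem _ (mem_univ h)
          exact (mem_insert.1 this).resolve_left fun e => hh (j'.2.injective (e.trans hh₀.symm))
        obtain ⟨t, -, ht⟩ := mem_image.1 hmem
        have himg : univ.image (Function.update θ₀.1 t b) = J.erase (j'.1 h) := by
          ext y
          simp only [mem_image, mem_univ, true_and, mem_erase, J, mem_insert]
          constructor
          · rintro ⟨a, rfl⟩
            by_cases ha : a = t
            · subst ha; simp only [Function.update_self]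
              exact ⟨fun e => hb0 (e ▸ mem_image.2 ⟨a, mem_univ a, ht⟩), Or.inl trivial⟩
            · rw [Function.update_of_ne ha, ← ht]
              exact ⟨fun e => ha (θ₀.2.injective e), Or.inr ⟨a, rfl⟩⟩
          · rintro ⟨hne, rfl | ⟨a, rfl⟩⟩
            · exact ⟨t, by simp⟩
            · exact ⟨a, Function.update_of_ne (fun e : a = t => hne (by rw [e, ht])) _ _⟩
        have hc' : (univ.image (Function.update θ₀.1 t b)).card = e + 1 := by rw [himg, ← hsucc, hc]
        have hs : sortIdx (e + 1) n _ hc = sortIdx (e + 1) n _ hc' := by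
          refine Subtype.ext (((sortIdx (e + 1) n _ hc).2.range_inj (sortIdx (e + 1) n _ hc').2).1 ?_)
          have e1 := congrArg (fun s : Finset (Fin n) => (s : Set (Fin n)))
            ((hsort _ hc).trans ((hsucc h).trans (himg.symm.trans (hsort _ hc').symm)))
          simpa using e1
        rw [hs]
        have := hone t b
        simp only [coord, dif_pos hc', map_mul, map_pow, map_neg, map_one, eval_X] at this
        exact mul_left_cancel₀ (pow_ne_zero _ (by simp)) this
    have hfst : ∀ h : Fin (e + 2), h ≠ h₀ →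
        eval q (coord K (e + 1) n (Fin.snoc i'.1 (j'.1 h))) = eval P (coord K (e + 1) n (Fin.snoc i'.1 (j'.1 h))) := by
      intro h hh
      refine eval_coord_eq q P _ fun hc => ih _ ?_ _ rfl
      have hmem : j'.1 h ∈ univ.image θ₀.1 := by
        have : j'.1 h ∈ J := himgJ ▸ mem_image_of_mem _ (mem_univ h)
        exact (mem_insert.1 this).resolve_left fun e => hh (j'.2.injective (e.trans hh₀.symm))
      rw [← hk, hsort, hsnoc, insert_sdiff_of_mem _ hmem]
      refine card_lt_card ⟨sdiff_subset_sdiff (erase_subset _ _) subset_rfl, fun hsub => ?_⟩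
      exact (mem_erase.1 (mem_sdiff.1 (hsub hb)).1).1 rfl
    have key : eval q (quadric K i' j') = eval P (quadric K i' j') := by
      rw [hquad, hev, pl_quadric]
    rw [quadric, map_sum, map_sum, ← add_sum_erase _ _ (mem_univ h₀), ← add_sum_erase _ _ (mem_univ h₀)] at key
    rw [sum_congr rfl (fun h hh => show eval q ((-1 : PlRing K (e + 1) n) ^ (h.val + 1) * coord K (e + 1) n (Fin.snoc i'.1 (j'.1 h)) * coord K (e + 1) n (j'.1 ∘ h.succAbove)) =
      eval P ((-1 : PlRing K (e + 1) n) ^ (h.val + 1) * coord K (e + 1) n (Fin.snoc i'.1 (j'.1 h)) * coord K (e + 1) n (j'.1 ∘ h.succAbove)) by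
        simp only [map_mul, map_pow, map_neg, map_one, hfst h (ne_of_mem_erase hh), hsec h])] at key
    replace key := add_right_cancel key
    simp only [map_mul, map_pow, map_neg, map_one, hsec h₀] at key
    have hne2 : eval P (coord K (e + 1) n (j'.1 ∘ h₀.succAbove)) ≠ 0 := by
      rw [hev, pl_coord, hAdet, mul_ne_zero_iff]
      refine ⟨hθ₀, ?_⟩
      have hc : (univ.image (j'.1 ∘ h₀.succAbove)).card = e + 1 := by
        rw [hsucc, show j'.1 h₀ = b from hh₀, erase_insert hb0, card_image_of_injective _ θ₀.2.injective, card_univ, Fintype.card_fin]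
      rw [← pl_coord (K := K), coord, dif_pos hc]
      have : sortIdx (e + 1) n _ hc = θ₀ := by
        refine Subtype.ext (((sortIdx (e + 1) n _ hc).2.range_inj θ₀.2).1 ?_)
        have e1 := congrArg (fun s : Finset (Fin n) => (s : Set (Fin n)))
          ((hsort _ hc).trans ((hsucc h₀).trans (show J.erase (j'.1 h₀) = univ.image θ₀.1 by
            rw [show j'.1 h₀ = b from hh₀]; exact erase_insert hb0)))
        simpa using e1
      rw [this]; simp [hB1]
    have key2 := mul_left_cancel₀ (pow_ne_zero _ (by simp)) (mul_right_cancel₀ hne2 key)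
    rw [show j'.1 h₀ = b from hh₀] at key2
    have hc : (univ.image (Fin.snoc i'.1 b : Fin (e + 1) → Fin n)).card = e + 1 := by
      rw [hsnoc, insert_erase hbθ, card_image_of_injective _ θ.2.injective, card_univ, Fintype.card_fin]
    have hsθ : sortIdx (e + 1) n _ hc = θ := by
      refine Subtype.ext (((sortIdx (e + 1) n _ hc).2.range_inj θ.2).1 ?_)
      have e1 := congrArg (fun s : Finset (Fin n) => (s : Set (Fin n)))
        ((hsort _ hc).trans ((hsnoc b).trans (insert_erase hbθ)))
      simpa using e1
    simp only [coord, dif_pos hc, hsθ, map_mul, map_pow, map_neg, map_one, eval_X] at key2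
    exact mul_left_cancel₀ (pow_ne_zero _ (by simp)) key2

theorem separated_iff [Infinite K] (hd : 0 < d) (A : Matrix (Fin n) (Fin d) K) :
    LinearIndependent K A.transpose ↔
      ∃ f : MatRing K d n, (∀ g : Matrix.SpecialLinearGroup (Fin d) K,
        MvPolynomial.eval (fun p : Fin n × Fin d => (A * (g : Matrix (Fin d) (Fin d) K)) p.1 p.2) f = 0) ∧
        MvPolynomial.eval (fun _ : Fin n × Fin d => (0 : K)) f ≠ 0 := by
  classical
  have hmin : ∀ (v : Fin n × Fin d → K) (θ : Fin d → Fin n),
      eval v (minor K d n θ) = ((Matrix.of fun i j => v (i, j)).submatrix θ id).det := by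
    intro v θ
    rw [minor, RingHom.map_det]
    congr 1
    ext a b
    simp
  constructor
  · intro hA
    obtain ⟨θ, hθ⟩ := exists_minor_ne hA
    refine ⟨minor K d n θ.1 - C ((A.submatrix θ.1 id).det), fun g => ?_, ?_⟩
    · rw [map_sub, eval_C, hmin]
      rw [show ((Matrix.of fun i j => (A * (g : Matrix (Fin d) (Fin d) K)) i j).submatrix θ.1 id) =
        A.submatrix θ.1 id * (g : Matrix (Fin d) (Fin d) K) from by ext a b; simp [Matrix.mul_apply],
        Matrix.det_mul, g.2, mul_one, sub_self]
    · rw [map_sub, eval_C, hmin]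
      haveI : Nonempty (Fin d) := ⟨⟨0, hd⟩⟩
      rw [show ((Matrix.of fun (_ : Fin n) (_ : Fin d) => (0 : K)).submatrix θ.1 id) = 0 from rfl, Matrix.det_zero]
      simpa using hθ
  · rintro ⟨f, hf, hf0⟩
    by_contra hdep
    obtain ⟨x, hx, hx0⟩ : ∃ x : Fin d → K, A.mulVec x = 0 ∧ x ≠ 0 := by
      rw [Fintype.linearIndependent_iff] at hdep
      push_neg at hdep
      obtain ⟨x, hx, i, hi⟩ := hdep
      refine ⟨x, ?_, fun e => hi (by simp [e])⟩
      rw [← hx]; ext r; simp [Matrix.mulVec, dotProduct, mul_comm]
    obtain ⟨k₀, hk₀⟩ := Function.ne_iff.1 hx0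
    simp only [Pi.zero_apply] at hk₀
    set h : Matrix (Fin d) (Fin d) K := (1 : Matrix (Fin d) (Fin d) K).updateCol k₀ x
    have hdet : h.det = x k₀ := by
      have : x = ∑ k, x k • (fun i => (1 : Matrix (Fin d) (Fin d) K) i k) := by
        ext i; simp [Matrix.one_apply]
      show ((1 : Matrix (Fin d) (Fin d) K).updateCol k₀ x).det = _
      rw [← Matrix.det_transpose, Matrix.transpose_one.symm, Matrix.updateCol_transpose, Matrix.transpose_transpose]
      conv_lhs => rw [this]
      rw [show (∑ k, x k • fun i => (1 : Matrix (Fin d) (Fin d) K) i k) = ∑ k, x k • (1 : Matrix (Fin d) (Fin d) K) k by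
        refine sum_congr rfl fun k _ => ?_; ext i; simp [Matrix.one_apply, eq_comm],
        Matrix.det_updateRow_sum, Matrix.det_one, smul_eq_mul, mul_one]
    have hcol : ∀ i, (A * h) i k₀ = 0 := fun i => by
      have := congrFun hx i
      simpa [Matrix.mul_apply, h, Matrix.updateCol_self, Matrix.mulVec, dotProduct] using this
    let p : Polynomial K := aeval (fun q : Fin n × Fin d => Polynomial.C ((A * h) q.1 q.2) * Polynomial.X) f
    have hp : ∀ c : K, c ≠ 0 → p.eval c = 0 := by
      intro c hc
      let D : Matrix (Fin d) (Fin d) K := Matrix.diagonal fun k => if k = k₀ then (x k₀ * c ^ (d - 1))⁻¹ else c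
      have hdD : (h * D).det = 1 := by
        rw [Matrix.det_mul, hdet, Matrix.det_diagonal, ← mul_prod_erase _ _ (mem_univ k₀), if_pos rfl,
          prod_congr rfl (fun k hk => if_neg (ne_of_mem_erase hk)), prod_const, card_erase_of_mem (mem_univ k₀), card_univ, Fintype.card_fin]
        field_simp
      have := hf ⟨h * D, hdD⟩
      rw [← this]
      show (Polynomial.evalRingHom c) (aeval (fun q : Fin n × Fin d => Polynomial.C ((A * h) q.1 q.2) * Polynomial.X) f) = _
      rw [aeval_def, ← coe_eval₂Hom, ← RingHom.comp_apply]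
      have : (Polynomial.evalRingHom c).comp (eval₂Hom (algebraMap K (Polynomial K))
          (fun q : Fin n × Fin d => Polynomial.C ((A * h) q.1 q.2) * Polynomial.X)) =
          eval (fun q : Fin n × Fin d => (A * (h * D)) q.1 q.2) := by
        refine MvPolynomial.ringHom_ext (fun r => by simp) fun q => ?_
        simp only [RingHom.comp_apply, eval₂Hom_X', eval_X, Polynomial.coe_evalRingHom, Polynomial.eval_mul, Polynomial.eval_C, Polynomial.eval_X]
        rw [← Matrix.mul_assoc, Matrix.mul_diagonal]
        by_cases hq : q.2 = k₀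
        · rw [hq, hcol, zero_mul, zero_mul]
        · rw [if_neg hq]
      exact RingHom.congr_fun this f
    have hp0 : p = 0 := Polynomial.eq_zero_of_infinite_isRoot p
      (Set.Infinite.mono (fun c hc => hp c (by simpa using hc)) (Set.finite_singleton (0 : K)).infinite_compl)
    apply hf0
    have h1 : p.eval 0 = 0 := by simp [hp0]
    refine Eq.trans ?_ h1
    show _ = (Polynomial.evalRingHom 0) (aeval (fun q : Fin n × Fin d => Polynomial.C ((A * h) q.1 q.2) * Polynomial.X) f)
    rw [aeval_def, ← coe_eval₂Hom, ← RingHom.comp_apply]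
    symm
    refine RingHom.congr_fun (MvPolynomial.ringHom_ext (fun r => by simp) fun q => by simp : (Polynomial.evalRingHom (0 : K)).comp (eval₂Hom (algebraMap K (Polynomial K))
        (fun q : Fin n × Fin d => Polynomial.C ((A * h) q.1 q.2) * Polynomial.X)) = eval (fun _ => 0)) f

end LeadGrass
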