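import Groth.Agent.Lead.Grass.Expansion

/-! Unions and sections of Schubert varieties. -/

noncomputable section

open MvPolynomial W4bk4grassmannian Finset

universe u

namespace LeadGrass

variable {K : Type u} [Field K] {d n : ℕ} (hd : 0 < d)

include hd in
/-- Basis of a union of Schubert varieties. -/
theorem union_basis {ι : Type*} (τs : ι → Idx d n) :
    LinearIndependent K (fun c : (Σ m : ℕ, {c : Fin m → Idx d n // Antitone c ∧ ∃ i, ∀ k, c k ≤ τs i}) =>
        Ideal.Quotient.mk (⨅ i, plIdeal K (τs i)) (chainMon K c.2.1)) ∧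
      Submodule.span K (Set.range fun c : (Σ m : ℕ, {c : Fin m → Idx d n // Antitone c ∧ ∃ i, ∀ k, c k ≤ τs i}) =>
        Ideal.Quotient.mk (⨅ i, plIdeal K (τs i)) (chainMon K c.2.1)) = ⊤ := by
  classical
  constructor
  · rw [linearIndependent_iff]
    intro l hl
    rw [Finsupp.linearCombination_apply] at hl
    have hmem : (l.sum fun c a => a • chainMon K c.2.1) ∈ ⨅ i, plIdeal K (τs i) := by
      rw [← Ideal.Quotient.eq_zero_iff_mem, map_finsuppSum]
      exact hl
    ext c
    obtain ⟨i, hi⟩ := c.2.2.2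
    let α := Σ m : ℕ, {c : Fin m → Idx d n // Antitone c ∧ (∀ _k : Fin m, True) ∧ ∃ φ, (∃ i, φ = τs i) ∧ ∀ k, c k ≤ φ}
    let g : (Σ m : ℕ, {c : Fin m → Idx d n // Antitone c ∧ ∃ i, ∀ k, c k ≤ τs i}) → α := fun c =>
      ⟨c.1, c.2.1, c.2.2.1, fun _ => trivial, τs c.2.2.2.choose, ⟨_, rfl⟩, c.2.2.2.choose_spec⟩
    have hg : Function.Injective g := by
      rintro ⟨m, a⟩ ⟨m', b⟩ h
      have hm := (Sigma.mk.inj h).1
      simp only [g] at hm
      subst hm
      have h2 := congrArg Subtype.val (eq_of_heq (Sigma.mk.inj h).2)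
      exact congrArg (Sigma.mk m) (Subtype.ext h2)
    have h0 := (stdFam K hd).indep_union (fun φ => ∃ i, φ = τs i) (fun _ _ => trivial) ⟨_, i, rfl⟩
      (fun _ => True) (fun _ _ => trivial) (l.mapDomain g) (by
        rintro φ ⟨j, rfl⟩
        rw [Finsupp.sum_mapDomain_index]
        rotate_left
        · intro b; exact zero_smul _ _
        · intro b _ _; exact add_smul _ _ _
        exact plIdeal_le_ker K le_rfl ((Submodule.mem_iInf _).1 hmem j))
    have := congrArg (fun f => f (g c)) h0
    simpa [Finsupp.mapDomain_apply hg] using this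
  · rw [eq_top_iff]
    rintro x -
    obtain ⟨f, rfl⟩ := Ideal.Quotient.mk_surjective x
    obtain ⟨a, ha, b, hb, rfl⟩ := Submodule.mem_sup.1 (mem_chainSpan_sup f)
    have hb' : b ∈ ⨅ i, plIdeal K (τs i) := (Submodule.mem_iInf _).2 fun i => plIdealTop_le K _ hb
    rw [map_add, Ideal.Quotient.eq_zero_iff_mem.2 hb', add_zero]
    clear hb hb'
    induction ha using Submodule.span_induction with
    | mem y hy =>
      obtain ⟨m, c, hc, rfl⟩ := hy
      by_cases hgood : ∃ i, ∀ k, c k ≤ τs i
      · exact Submodule.subset_span ⟨⟨m, c, hc, hgood⟩, rfl⟩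
      · rw [Ideal.Quotient.eq_zero_iff_mem.2 ((Submodule.mem_iInf _).2 fun i => ?_)]
        · exact zero_mem _
        · push_neg at hgood
          obtain ⟨k, hk⟩ := hgood i
          exact chain_mem_plIdeal K c k hk
    | zero => simp
    | add y z _ _ hy hz => rw [map_add]; exact Submodule.add_mem _ hy hz
    | smul a y _ hy => rw [Algebra.smul_def, map_mul]; exact (Algebra.smul_def a (Ideal.Quotient.mk (⨅ i, plIdeal K (τs i)) y)) ▸ Submodule.smul_mem _ a hy

lemma sup_inf_plIdeal (w₁ w₂ : Idx d n) :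
    plIdeal K w₁ ⊔ plIdeal K w₂ = plIdeal K (W4bk4grassmannian.inf w₁ w₂) := by
  refine le_antisymm (sup_le ?_ ?_) (Ideal.span_le.2 ?_)
  · refine Ideal.span_mono (Set.union_subset_union_right _ ?_)
    rintro _ ⟨φ, hφ, rfl⟩; exact ⟨φ, fun h => hφ (h.trans (inf_le_left' _ _)), rfl⟩
  · refine Ideal.span_mono (Set.union_subset_union_right _ ?_)
    rintro _ ⟨φ, hφ, rfl⟩; exact ⟨φ, fun h => hφ (h.trans (inf_le_right' _ _)), rfl⟩
  · rintro _ (h | ⟨φ, hφ, rfl⟩)
    · exact Ideal.mem_sup_left (Ideal.subset_span (Or.inl h))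
    · by_cases h1 : φ ≤ w₁
      · exact Ideal.mem_sup_right (X_mem_plIdeal K fun h2 => hφ (le_inf' h1 h2))
      · exact Ideal.mem_sup_left (X_mem_plIdeal K h1)

include hd in
lemma mem_divisor_inter (τ : Idx d n) (hτ : ∃ φ, φ < τ) {f : PlRing K d n}
    (hf : ∀ φ ∈ divisors τ, rho K φ f = 0) : f ∈ plIdeal K τ ⊔ Ideal.span {X τ} := by
  obtain ⟨φ₀, hφ₀⟩ := hτ
  obtain ⟨δ, hδ, -⟩ := exists_divisor_ge hφ₀
  refine (stdFam K hd).ker_le (· ∈ divisors τ) (fun _ _ => trivial) ⟨δ, hδ⟩ (fun _ => True) (fun _ _ => trivial)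
    _ ((plIdealTop_le K τ).trans le_sup_left) (fun m c hc hbad => ?_) ?_ hf
  · simp only [implies_true, true_and, not_exists, not_and, not_forall] at hbad
    obtain ⟨k, hk⟩ := hbad δ hδ
    have hm : 0 < m := lt_of_le_of_lt (Nat.zero_le _) k.isLt
    by_cases h0 : c ⟨0, hm⟩ ≤ τ
    · rcases eq_or_lt_of_le h0 with h | h
      · refine Ideal.mem_sup_right (Ideal.mem_span_singleton.2 ?_)
        rw [← h]
        exact Finset.dvd_prod_of_mem (fun k => (X (c k) : PlRing K d n)) (mem_univ _)
      · obtain ⟨δ', hδ', hle⟩ := exists_divisor_ge h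
        obtain ⟨k', hk'⟩ := hbad δ' hδ'
        exact absurd ((hc (Fin.le_def.2 (Nat.zero_le _))).trans hle) hk'
    · exact Ideal.mem_sup_left (chain_mem_plIdeal K c _ h0)
  · intro g hg φ hφ
    have : plIdeal K τ ⊔ Ideal.span {X τ} ≤ RingHom.ker (rho K φ).toRingHom := by
      refine sup_le (plIdeal_le_ker K hφ.1.le) ?_
      rw [Ideal.span_le, Set.singleton_subset_iff]
      exact rho_vanish K φ τ hφ.1.not_ge
    exact this hg

include hd in
theorem sup_span_eq_inter (τ : Idx d n) (hτ : ∃ φ, φ < τ) :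
    plIdeal K τ ⊔ Ideal.span {X τ} = ⨅ φ ∈ divisors τ, plIdeal K φ := by
  refine le_antisymm (le_iInf₂ fun φ hφ => sup_le ?_ ?_) fun f hf => mem_divisor_inter hd τ hτ fun φ hφ => ?_
  · refine Ideal.span_mono (Set.union_subset_union_right _ ?_)
    rintro _ ⟨θ, hθ, rfl⟩; exact ⟨θ, fun h => hθ (h.trans hφ.1.le), rfl⟩
  · rw [Ideal.span_le, Set.singleton_subset_iff]
    exact X_mem_plIdeal K hφ.1.not_ge
  · simp only [Submodule.mem_iInf] at hf
    exact plIdeal_le_ker K le_rfl (hf φ hφ)

/-- Matrices meeting the span of the rows `≥ d`. -/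
def mat' (φ : Idx d n) : Matrix (Fin n) (Fin d) (MatRing K d n) :=
  Matrix.of fun i j => if i ≤ φ.1 j ∧ (j.val + 1 = d → d ≤ i.val) then X (i, j) else 0

/-- Restriction to the section by the smallest coordinate. -/
def rho' (φ : Idx d n) : PlRing K d n →ₐ[K] MatRing K d n := pl (mat' φ)

include hd in
lemma rho'_bot (h : d ≤ n) (φ : Idx d n) : rho' (K := K) φ (X (bot h)) = 0 := by
  rw [rho', pl_X]
  refine Matrix.det_eq_zero_of_column_eq_zero ⟨d - 1, by omega⟩ fun i => ?_
  simp only [Matrix.submatrix_apply, id, mat', Matrix.of_apply]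
  rw [if_neg]
  rintro ⟨-, h2⟩
  have := h2 (by omega)
  have := i.isLt
  simp [bot] at *
  omega

/-- The family away from the smallest index. -/
def botFam (h : d ≤ n) : Fam (K := K) (fun φ : Idx d n => φ ≠ bot h) (MatRing K d n) where
  ρ := rho'
  vanish φ _ θ hθ := by
    rw [rho', pl_X]
    exact det_schubert _ φ (fun i j hij => by simp [mat', hij]) hθ
  ne φ hφ := by
    intro h0
    have hlast : ∀ j : Fin d, j.val + 1 = d → d ≤ (φ.1 j).val := by
      intro j hj
      by_contra hc
      apply hφ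
      refine Subtype.ext (funext fun t => Fin.ext ?_)
      have h1 := val_gap φ (t := t) (t' := j) (by have := t.isLt; omega)
      have := le_val φ t
      have := t.isLt
      simp only [bot]
      omega
    have := congrArg (aeval (fun p : Fin n × Fin d => if p.1 = φ.1 p.2 then (1 : K) else 0)) h0
    rw [rho', pl_X, map_zero, AlgHom.map_det] at this
    apply one_ne_zero (α := K)
    rw [← this]
    convert (Matrix.det_one (n := Fin d) (R := K)).symm using 2
    ext i j
    simp only [AlgHom.mapMatrix_apply, Matrix.map_apply, Matrix.submatrix_apply, id, mat', Matrix.of_apply, Matrix.one_apply]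
    split_ifs with h1 h2 h2
    · subst h2; simp
    · rw [aeval_X, if_neg]; exact fun e => h2 (φ.2.injective e)
    · subst h2; exact absurd ⟨le_rfl, hlast i⟩ h1
    · simp
  mono φ ψ _ _ hle f hf := by
    let z : MatRing K d n →ₐ[K] MatRing K d n := aeval fun p => if p.1 ≤ ψ.1 p.2 then X p else 0
    have : z (rho' φ f) = rho' ψ f := by
      rw [rho', rho', pl_comp]
      congr 1
      refine congrArg _ ?_
      ext i j : 1
      simp only [Matrix.map_apply, mat', Matrix.of_apply]
      by_cases hi : i ≤ ψ.1 j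
      · simp only [hi.trans (hle j), hi, true_and]
        split_ifs <;> simp [z, hi]
      · simp only [hi, false_and, if_false]
        split_ifs <;> simp [z, hi]
    rw [← this, hf, map_zero]
  ε := aeval fun _ => 0
  εX φ hφ θ := by
    rcases Nat.eq_zero_or_pos d with h0 | hd0
    · subst h0
      exact absurd (Subtype.ext (funext fun t => t.elim0)) hφ
    rw [rho', pl_X, AlgHom.map_det]
    haveI : Nonempty (Fin d) := ⟨⟨0, hd0⟩⟩
    refine Eq.trans ?_ (Matrix.det_zero (n := Fin d) (R := K))
    congr 1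
    ext i j
    simp only [AlgHom.mapMatrix_apply, Matrix.map_apply, Matrix.submatrix_apply, mat', Matrix.of_apply]
    split_ifs <;> simp

include hd in
lemma mem_bot_section (h : d ≤ n) (w : Idx d n) (hw : w ≠ bot h) {f : PlRing K d n}
    (hf : rho' w f = 0) : f ∈ plIdeal K w ⊔ Ideal.span {X (bot h)} := by
  refine (botFam hd h).ker_le (· = w) (fun φ hφ => hφ ▸ hw) ⟨w, rfl⟩ (fun θ => θ ≠ bot h) (fun _ h => h)
    _ ((plIdealTop_le K w).trans le_sup_left) (fun m c hc hbad => ?_) ?_ (fun φ hφ => hφ ▸ hf)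
  · simp only [exists_eq_left, not_and, not_forall] at hbad
    by_cases hk : ∀ k, c k ≠ bot h
    · obtain ⟨k, hk'⟩ := hbad hk
      exact Ideal.mem_sup_left (chain_mem_plIdeal K c k hk')
    · push_neg at hk
      obtain ⟨k, hk⟩ := hk
      refine Ideal.mem_sup_right (Ideal.mem_span_singleton.2 ?_)
      rw [← hk]
      exact Finset.dvd_prod_of_mem (fun k => (X (c k) : PlRing K d n)) (mem_univ _)
  · rintro g hg φ rfl
    have : plIdeal K φ ⊔ Ideal.span {X (bot h)} ≤ RingHom.ker (rho' (K := K) φ).toRingHom := by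
      refine sup_le (Ideal.span_le.2 ?_) ?_
      · rintro _ (⟨i, j, r, -, rfl⟩ | ⟨θ, hθ, rfl⟩)
        · exact pl_shuffleRel _ i j r
        · exact (botFam (K := K) hd h).vanish φ hw θ hθ
      · rw [Ideal.span_le, Set.singleton_subset_iff]; exact rho'_bot hd h φ
    exact this hg

include hd in
lemma bot_section_prime (h : d ≤ n) (w : Idx d n) : (plIdeal K w ⊔ Ideal.span {X (bot h)}).IsPrime := by
  by_cases hw : w = bot h
  · subst hw
    have : plIdeal K (bot h) ⊔ Ideal.span {X (bot h)} =
        RingHom.ker (aeval fun _ => (0 : K) : PlRing K d n →ₐ[K] K).toRingHom := by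
      refine le_antisymm ?_ fun f hf => ?_
      · refine sup_le ((plIdeal_le_ker K le_rfl).trans fun f hf => ?_) (by
          rw [Ideal.span_le, Set.singleton_subset_iff]; simp)
        have h1 := congrArg (stdFam K hd).ε (hf : rho K (bot h) f = 0)
        rw [map_zero] at h1
        show aeval (fun _ => (0 : K)) f = 0
        have e : (stdFam K hd).ε.comp (rho K (bot h)) = aeval (fun _ => (0 : K)) :=
          MvPolynomial.algHom_ext fun θ => by
            rw [aeval_X, AlgHom.comp_apply]
            exact (stdFam K hd).εX (bot h) trivial θ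
        rw [← e]
        exact h1
      · have hs : ∀ f : PlRing K d n, f - C (aeval (fun _ => (0 : K)) f) ∈ plIdeal K (bot h) ⊔ Ideal.span {X (bot h)} := by
          intro f
          induction f using MvPolynomial.induction_on with
          | C a => simp
          | add p q hp hq =>
            rw [map_add, map_add]
            convert Ideal.add_mem _ hp hq using 1; ring
          | mul_X p a hp =>
            rw [map_mul, aeval_X, mul_zero, map_zero, sub_zero]
            refine Ideal.mul_mem_left _ _ ?_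
            by_cases ha : a = bot h
            · subst ha; exact Ideal.mem_sup_right (Ideal.subset_span rfl)
            · exact Ideal.mem_sup_left (X_mem_plIdeal K fun hle => ha (le_antisymm hle (bot_le h a)))
        have := hs f
        rw [RingHom.mem_ker] at hf
        change aeval (fun _ => (0 : K)) f = 0 at hf
        rwa [hf, map_zero, sub_zero] at this
    rw [this]; exact RingHom.ker_isPrime _
  · have : plIdeal K w ⊔ Ideal.span {X (bot h)} = RingHom.ker (rho' (K := K) w).toRingHom := by
      refine le_antisymm (sup_le (Ideal.span_le.2 ?_) ?_) fun f hf => mem_bot_section hd h w hw hf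
      · rintro _ (⟨i, j, r, -, rfl⟩ | ⟨θ, hθ, rfl⟩)
        · exact pl_shuffleRel _ i j r
        · exact (botFam (K := K) hd h).vanish w hw θ hθ
      · rw [Ideal.span_le, Set.singleton_subset_iff]; exact rho'_bot hd h w
    rw [this]; exact RingHom.ker_isPrime _

end LeadGrass
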