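import Groth.Agent.Lead.Grass.BigCell
import Groth.Agent.Lead.Grass.Varieties
import Groth.Agent.Lead.Grass.Plucker

/-! Standard products of minors and the determinantal ideals. -/

noncomputable section

open MvPolynomial W4bk4grassmannian Finset

universe u

namespace LeadGrass

variable {K : Type u} [Field K] {d r : ℕ}

/-- The bottom index, seen on the big cell. -/
abbrev cbot (d r : ℕ) : Idx d (d + r) := bot (Nat.le_add_right d r)

lemma large_bot : large (cbot d r) = 0 := by
  rw [large, card_eq_zero, filter_eq_empty_iff]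
  intro t _
  show ¬ d ≤ t.val
  omega

lemma large_pos_iff (θ : Idx d (d + r)) : 0 < large θ ↔ θ ≠ cbot d r := by
  refine ⟨fun h e => by rw [e, large_bot] at h; exact lt_irrefl 0 h, fun h => ?_⟩
  by_contra hc
  apply h
  obtain ⟨A, B, e⟩ := exists_cidx θ
  obtain ⟨A', B', e'⟩ := exists_cidx (cbot d r)
  refine le_antisymm ?_ (bot_le _ θ)
  rw [← e, ← e', cidx_le_iff]
  exact ⟨by omega, fun i => absurd i.isLt (by omega)⟩

lemma pl_bot {S : Type*} [CommRing S] [Algebra K S] (Z : Matrix (Fin r) (Fin d) S) :
    pl (K := K) (bigMat Z) (X (cbot d r)) = 1 := by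
  rw [pl_X, ← Matrix.det_one (n := Fin d)]
  congr 1
  ext i j
  simp [bigMat, bot, Matrix.one_apply, Fin.ext_iff]

lemma large_le (θ : Idx d (d + r)) : large θ ≤ d ∧ large θ ≤ r := by
  obtain ⟨A, B, -⟩ := exists_cidx θ
  constructor
  · simpa using Fintype.card_le_of_injective _ B.2.injective
  · simpa using Fintype.card_le_of_injective _ A.2.injective

/-- The largest index with `e` rows in the lower block. -/
def cmax (e : ℕ) (hed : e ≤ d) (her : e ≤ r) : Idx d (d + r) :=
  cidx ⟨Fin.castLE her, Fin.strictMono_castLE her⟩ ⟨Fin.castLE hed, Fin.strictMono_castLE hed⟩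

lemma le_cmax_iff {e : ℕ} {hed : e ≤ d} {her : e ≤ r} (θ : Idx d (d + r)) : θ ≤ cmax e hed her ↔ large θ ≤ e := by
  obtain ⟨A, B, h⟩ := exists_cidx θ
  conv_lhs => rw [← h]
  rw [cmax, cidx_le_iff]
  refine ⟨fun h => h.1, fun h => ⟨h, fun i i' e => ⟨?_, ?_⟩⟩⟩
  · rw [Fin.le_def]; simp only [Fin.coe_castLE]; rw [← e]; exact le_val A i
  · rw [Fin.le_def]; simp only [Fin.coe_castLE]; rw [← e]; exact le_val B i

variable (K d r) in
/-- The generic matrix with the rows reversed. -/
def zrev : Matrix (Fin r) (Fin d) (MvPolynomial (Fin r × Fin d) K) := (genMatrix K r d).submatrix Fin.rev id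

variable (K d r) in
/-- Plücker coordinates as minors of the generic matrix. -/
def phi : PlRing K d (d + r) →ₐ[K] MvPolynomial (Fin r × Fin d) K := pl (bigMat (zrev K d r))

lemma span_phi (t : ℕ) :
    Ideal.span {f | ∃ θ : Idx d (d + r), t ≤ large θ ∧ f = phi K d r (X θ)} = CAlgX.minorIdeal (genMatrix K r d) t := by
  show Ideal.span {f | ∃ θ : Idx d (d + r), t ≤ large θ ∧ f = pl (K := K) (bigMat (zrev K d r)) (X θ)} = _
  rw [span_large, CAlgX.minorIdeal, CAlgX.minorIdeal]
  congr 1
  ext x
  simp only [Set.mem_range, Prod.exists, zrev, Matrix.submatrix_submatrix]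
  constructor
  · rintro ⟨f, g, rfl⟩; exact ⟨_, _, rfl⟩
  · rintro ⟨f, g, rfl⟩
    exact ⟨Fin.rev ∘ f, g, by congr 2; ext i; simp⟩

lemma phi_cidx {k : ℕ} (A : Idx k r) (B : Idx k d) :
    phi K d r (X (cidx A B)) = csign A B * ((genMatrix K r d).submatrix A.1 B.1).det := by
  rw [phi, pl_cidx]
  congr 2
  ext i j
  simp [zrev]

lemma phi_surjective : Function.Surjective (phi K d r) := by
  rw [← AlgHom.range_eq_top, eq_top_iff, ← MvPolynomial.adjoin_range_X, Algebra.adjoin_le_iff]
  rintro _ ⟨⟨a, b⟩, rfl⟩
  let A : Idx 1 r := ⟨fun _ => a, Subsingleton.strictMono _⟩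
  let B : Idx 1 d := ⟨fun _ => b, Subsingleton.strictMono _⟩
  refine ⟨(-1 : PlRing K d (d + r)) ^ invCount d (d + r) (rowsAB A B) * X (cidx A B), ?_⟩
  show phi K d r _ = X (a, b)
  rw [map_mul, map_pow, map_neg, map_one, phi_cidx, csign, ← mul_assoc, ← mul_pow, neg_one_mul, neg_neg, one_pow,
    one_mul, Matrix.det_fin_one]
  rfl

/-- Standard monomials with at most `e` rows in the lower block, the bottom index omitted. -/
abbrev Core (d r e : ℕ) : Type :=
  Σ k : ℕ, {c : Fin k → Idx d (d + r) // Antitone c ∧ ∀ i, 0 < large (c i) ∧ large (c i) ≤ e}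

lemma pl_scale {S : Type*} [CommRing S] [Algebra K S] (M : Matrix (Fin (d + r)) (Fin d) S)
    (Z : Matrix (Fin r) (Fin d) S) (g : Matrix (Fin d) (Fin d) S) (h : M = bigMat Z * g) (θ : Idx d (d + r)) :
    pl (K := K) M (X θ) = g.det * pl (K := K) (bigMat Z) (X θ) := by
  rw [pl_X, pl_X, h, mul_comm, ← Matrix.det_mul]
  congr 1

lemma prod_pad {T : Type*} [CommMonoid T] (f : Idx d (d + r) → T) {k : ℕ} (c : Fin k → Idx d (d + r)) (j : ℕ) :
    ∏ i, f (Fin.append c (fun _ : Fin j => cbot d r) i) = (∏ i, f (c i)) * f (cbot d r) ^ j := by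
  rw [Fin.prod_univ_add]
  simp [Fin.append_left, Fin.append_right]

lemma pad_antitone {k : ℕ} {c : Fin k → Idx d (d + r)} (hc : Antitone c) (j : ℕ) :
    Antitone (Fin.append c fun _ : Fin j => cbot d r) := by
  intro a b hab
  induction b using Fin.addCases with
  | left b =>
    induction a using Fin.addCases with
    | left a => rw [Fin.append_left, Fin.append_left]; exact hc hab
    | right a => rw [Fin.le_def] at hab; simp at hab; omega
  | right b => rw [Fin.append_right]; exact bot_le _ _

/-- The sequence behind a padded chain. -/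
def seqOf {m : ℕ} (c : Fin m → Idx d (d + r)) (i : ℕ) : Idx d (d + r) := if h : i < m then c ⟨i, h⟩ else cbot d r

lemma seqOf_append {k : ℕ} (c : Fin k → Idx d (d + r)) (j i : ℕ) :
    seqOf (Fin.append c fun _ : Fin j => cbot d r) i = seqOf c i := by
  unfold seqOf
  by_cases h1 : i < k
  · rw [dif_pos (by omega), dif_pos h1]
    exact Fin.append_left c _ ⟨i, h1⟩
  · rw [dif_neg h1]
    split_ifs with h2
    · rw [show (⟨i, h2⟩ : Fin (k + j)) = Fin.natAdd k ⟨i - k, by omega⟩ from Fin.ext (by simp; omega), Fin.append_right]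
    · rfl

lemma core_ext {e : ℕ} {c c' : Core d r e} (h : ∀ i, seqOf c.2.1 i = seqOf c'.2.1 i) : c = c' := by
  obtain ⟨k, a, ha, hap⟩ := c
  obtain ⟨k', a', ha', hap'⟩ := c'
  have hk : k = k' := by
    rcases lt_trichotomy k k' with hlt | he | hlt
    · have := h k
      simp only [seqOf, lt_irrefl, dite_false, hlt, dite_true] at this
      exact absurd this.symm ((large_pos_iff _).1 (hap' _).1)
    · exact he
    · have := h k'
      simp only [seqOf, lt_irrefl, dite_false, hlt, dite_true] at this
      exact absurd this ((large_pos_iff _).1 (hap _).1)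
  subst hk
  have : a = a' := funext fun i => by simpa [seqOf, i.isLt] using h i
  subst this
  rfl

/-- Linear independence of the standard monomials on the big cell. -/
theorem core_indep [Infinite K] (hd : 0 < d) {e : ℕ} (hed : e ≤ d) (her : e ≤ r) (l : Core d r e →₀ K)
    (h : ∀ Z : Matrix (Fin r) (Fin d) K, (∀ θ, e < large θ → pl (K := K) (bigMat Z) (X θ) = 0) →
      pl (K := K) (bigMat Z) (∑ c ∈ l.support, l c • chainMon K c.2.1) = 0) : l = 0 := by
  classical
  set τ := cmax (r := r) e hed her
  let D := l.support.sup fun c => c.1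
  let j : Core d r e → ℕ := fun c => max D c.1 + 1 - c.1
  let idx : Core d r e → (Σ m : ℕ, {c : Fin m → Idx d (d + r) // Antitone c ∧ ∃ _i : Unit, ∀ k, c k ≤ τ}) :=
    fun c => ⟨c.1 + j c, Fin.append c.2.1 fun _ => cbot d r, pad_antitone c.2.2.1 _, (), fun i => by
      induction i using Fin.addCases with
      | left i => rw [Fin.append_left]; exact (le_cmax_iff _).2 (c.2.2.2 i).2
      | right i => rw [Fin.append_right]; exact bot_le _ _⟩
  have hidx : Function.Injective idx := by
    intro c c' hcc
    refine core_ext fun i => ?_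
    have := congrArg (fun x : Σ m : ℕ, {c : Fin m → Idx d (d + r) // Antitone c ∧ ∃ _i : Unit, ∀ k, c k ≤ τ} => seqOf x.2.1 i) hcc
    simpa only [idx, seqOf_append] using this
  have hb := (union_basis (K := K) hd (fun _ : Unit => τ)).1.comp idx hidx
  rw [linearIndependent_iff] at hb
  apply hb
  rw [Finsupp.linearCombination_apply, Finsupp.sum]
  simp only [Function.comp_apply]
  have : ∀ c, l c • Ideal.Quotient.mk (⨅ _i : Unit, plIdeal K τ) (chainMon K (idx c).2.1) =
      Ideal.Quotient.mk (⨅ _i : Unit, plIdeal K τ) (l c • chainMon K (idx c).2.1) := fun c => rfl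
  simp only [this]
  rw [← map_sum, Ideal.Quotient.eq_zero_iff_mem, ciInf_const, plIdeal_eq_vanishing K hd]
  simp only [schubertVanishing, Submodule.mem_iInf, RingHom.mem_ker]
  intro A hA
  show evalMinors K d (d + r) A _ = 0
  rw [evalMinors_eq]
  by_cases hdet : (A.submatrix (cbot d r).1 id).det = 0
  · rw [map_sum]
    refine sum_eq_zero fun c _ => ?_
    rw [map_smul, chainMon]
    simp only [idx]
    rw [map_prod, prod_pad (fun θ => pl (K := K) A (X θ)), pl_X A (cbot d r), hdet,
      zero_pow (by simp only [j]; omega), mul_zero, smul_zero]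
  · set g := A.submatrix (cbot d r).1 id with hg
    let Z : Matrix (Fin r) (Fin d) K := fun i k => (A * g⁻¹) ⟨d + i.val, by omega⟩ k
    have hAZ : A = bigMat Z * g := by
      have h1 : A * g⁻¹ = bigMat Z := by
        ext i k
        simp only [bigMat, Matrix.of_apply]
        split_ifs with h1 h2
        · have : (A * g⁻¹) i k = (g * g⁻¹) ⟨i.val, h1⟩ k := by
            simp only [Matrix.mul_apply, hg, Matrix.submatrix_apply, id]
            rfl
          rw [this, Matrix.mul_nonsing_inv g (IsUnit.mk0 _ hdet), Matrix.one_apply, if_pos (Fin.ext h2)]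
        · have : (A * g⁻¹) i k = (g * g⁻¹) ⟨i.val, h1⟩ k := by
            simp only [Matrix.mul_apply, hg, Matrix.submatrix_apply, id]
            rfl
          rw [this, Matrix.mul_nonsing_inv g (IsUnit.mk0 _ hdet), Matrix.one_apply, if_neg (fun e => h2 (congrArg Fin.val e))]
        · show _ = (A * g⁻¹) _ k
          exact congrArg (fun x => (A * g⁻¹) x k) (Fin.ext (Nat.add_sub_of_le (not_lt.1 h1)).symm)
      rw [← h1, Matrix.mul_assoc, Matrix.nonsing_inv_mul g (IsUnit.mk0 _ hdet), Matrix.mul_one]
    have hZ : ∀ θ, e < large θ → pl (K := K) (bigMat Z) (X θ) = 0 := by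
      intro θ hθ
      have h0 := hA θ fun hc => absurd ((le_cmax_iff θ).1 hc) (by omega)
      rw [← pl_X (K := K) A θ, pl_scale A Z g hAZ] at h0
      exact (mul_eq_zero.1 h0).resolve_left hdet
    have key : ∀ c ∈ l.support, pl (K := K) A (l c • chainMon K (idx c).2.1) =
        g.det ^ (D + 1) * pl (K := K) (bigMat Z) (l c • chainMon K c.2.1) := by
      intro c hc
      rw [map_smul, map_smul, mul_smul_comm]
      congr 1
      simp only [idx, chainMon, map_prod]
      rw [prod_pad (fun θ => pl (K := K) A (X θ))]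
      simp only [pl_scale A Z g hAZ, prod_mul_distrib, prod_const, card_univ, Fintype.card_fin, pl_bot, mul_one]
      have hjc : c.1 + j c = D + 1 := by
        have hcD : c.1 ≤ D := Finset.le_sup (f := fun c : Core d r e => c.1) hc
        simp only [j]; omega
      rw [← hjc, pow_add]
      ring
    rw [map_sum, sum_congr rfl key, ← mul_sum, ← map_sum, h Z hZ, mul_zero]

/-- Standard monomials span modulo an ideal containing the larger minors. -/
theorem core_span (e : ℕ) (I : Ideal (MvPolynomial (Fin r × Fin d) K))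
    (hI : ∀ θ, e < large θ → phi K d r (X θ) ∈ I) :
    Submodule.span K (Set.range fun c : Core d r e => Ideal.Quotient.mk I (phi K d r (chainMon K c.2.1))) = ⊤ := by
  rw [eq_top_iff]
  rintro x -
  obtain ⟨f, rfl⟩ := Ideal.Quotient.mk_surjective x
  obtain ⟨F, rfl⟩ := phi_surjective f
  obtain ⟨a, ha, b, hb, rfl⟩ := Submodule.mem_sup.1 (mem_chainSpan_sup F)
  have hb0 : phi K d r b = 0 := plTop_le_ker K _ hb
  rw [map_add, hb0, add_zero]
  clear hb hb0
  induction ha using Submodule.span_induction with
  | zero => simp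
  | add y z _ _ hy hz => rw [map_add, map_add]; exact Submodule.add_mem _ hy hz
  | smul a y _ hy =>
    rw [map_smul]
    exact Submodule.smul_mem _ a hy
  | mem y hy =>
    obtain ⟨m, c, hc, rfl⟩ := hy
    induction m with
    | zero =>
      exact Submodule.subset_span ⟨⟨0, c, hc, fun i => i.elim0⟩, rfl⟩
    | succ m ih =>
      by_cases hlast : c (Fin.last m) = cbot d r
      · have : phi K d r (chainMon K c) = phi K d r (chainMon K (c ∘ Fin.castSucc)) := by
          simp only [chainMon, map_prod, Fin.prod_univ_castSucc, hlast, map_mul, phi, pl_bot, mul_one]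
          rfl
        rw [this]
        exact ih _ (fun a b hab => hc (Fin.castSucc_le_castSucc_iff.2 hab))
      · by_cases hgood : ∀ i, large (c i) ≤ e
        · exact Submodule.subset_span ⟨⟨m + 1, c, hc, fun i => ⟨(large_pos_iff _).2 fun hi =>
            hlast (le_antisymm (hi ▸ hc (Fin.le_last i)) (bot_le _ _)), hgood i⟩⟩, rfl⟩
        · rw [not_forall] at hgood
          obtain ⟨i, hi⟩ := hgood
          rw [Ideal.Quotient.eq_zero_iff_mem.2]
          · exact zero_mem _
          · rw [chainMon, map_prod, ← mul_prod_erase _ _ (mem_univ i)]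
            exact Ideal.mul_mem_right _ _ (hI _ (not_le.1 hi))

/-- Evaluation at a matrix. -/
lemma eval_phi (Z : Matrix (Fin r) (Fin d) K) (f : PlRing K d (d + r)) :
    aeval (fun p : Fin r × Fin d => Z (Fin.rev p.1) p.2) (phi K d r f) = pl (K := K) (bigMat Z) f := by
  rw [phi, pl_comp]
  congr 1
  refine congrArg _ ?_
  ext i j
  simp only [Matrix.map_apply, bigMat, Matrix.of_apply]
  split_ifs <;> simp [zrev, genMatrix]

/-- The standard monomials are a basis modulo a determinantal ideal. -/
theorem core_basis [Infinite K] (hd : 0 < d) {e : ℕ} (hed : e ≤ d) (her : e ≤ r) :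
    LinearIndependent K (fun c : Core d r e => Ideal.Quotient.mk (CAlgX.minorIdeal (genMatrix K r d) (e + 1))
        (phi K d r (chainMon K c.2.1))) ∧
      Submodule.span K (Set.range fun c : Core d r e => Ideal.Quotient.mk (CAlgX.minorIdeal (genMatrix K r d) (e + 1))
        (phi K d r (chainMon K c.2.1))) = ⊤ := by
  classical
  refine ⟨?_, core_span e _ fun θ hθ => ?_⟩
  · rw [linearIndependent_iff]
    intro l hl
    refine core_indep hd hed her l fun Z hZ => ?_
    rw [← eval_phi]
    have hmem : phi K d r (∑ c ∈ l.support, l c • chainMon K c.2.1) ∈ CAlgX.minorIdeal (genMatrix K r d) (e + 1) := by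
      rw [← Ideal.Quotient.eq_zero_iff_mem, map_sum, map_sum]
      refine Eq.trans (sum_congr rfl fun c _ => ?_) hl
      rw [map_smul]
      rfl
    have hle : CAlgX.minorIdeal (genMatrix K r d) (e + 1) ≤
        RingHom.ker (aeval (R := K) fun p : Fin r × Fin d => Z (Fin.rev p.1) p.2).toRingHom := by
      rw [← span_phi, Ideal.span_le]
      rintro _ ⟨θ, hθ, rfl⟩
      show aeval _ (phi K d r (X θ)) = 0
      rw [eval_phi]
      exact hZ θ hθ
    exact hle hmem
  · rw [← span_phi]
    exact Ideal.subset_span ⟨θ, hθ, rfl⟩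

/-- A matrix whose minors of size `n + 1` vanish factors through `Kⁿ`. -/
lemma exists_factor {m q n : ℕ} (Y : Matrix (Fin m) (Fin q) K)
    (h : ∀ (f : Fin (n + 1) → Fin m) (g : Fin (n + 1) → Fin q), (Y.submatrix f g).det = 0) :
    ∃ (U : Matrix (Fin m) (Fin n) K) (W : Matrix (Fin n) (Fin q) K), Y = U * W := by
  classical
  let v : Fin q → (Fin m → K) := fun j i => Y i j
  set V := Submodule.span K (Set.range v)
  have hV : Module.finrank K V ≤ n := by
    obtain ⟨κ, a, ha, hsp, hli⟩ := exists_linearIndependent' K v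
    haveI : Fintype κ := Fintype.ofInjective a ha
    have hcard : Module.finrank K V = Fintype.card κ := by
      have := finrank_span_eq_card hli
      rw [hsp] at this
      exact this
    by_contra hc
    obtain ⟨ι⟩ : Nonempty (Fin (n + 1) ↪ κ) := Function.Embedding.nonempty_of_card_le (by simp; omega)
    obtain ⟨θ, hθ⟩ := exists_minor_ne (A := Y.submatrix id fun i => a (ι i))
      (hli.comp ι ι.injective)
    exact hθ (h θ.1 fun i => a (ι i))
  let b := Module.finBasis K V
  let s : Fin n → (Fin m → K) := fun k => if hk : k.val < Module.finrank K V then (b ⟨k.val, hk⟩ : Fin m → K) else 0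
  have hs : ∀ j, v j ∈ Submodule.span K (Set.range s) := by
    have hsub : V ≤ Submodule.span K (Set.range s) := by
      intro x hx
      have := b.sum_repr ⟨x, hx⟩
      have h2 := congrArg Subtype.val this
      simp only [AddSubmonoidClass.coe_finsetSum, SetLike.val_smul] at h2
      rw [← h2]
      refine Submodule.sum_mem _ fun i _ => Submodule.smul_mem _ _ ?_
      refine Submodule.subset_span ⟨⟨i.val, lt_of_lt_of_le i.isLt hV⟩, ?_⟩
      simp [s, i.isLt]
    exact fun j => hsub (Submodule.subset_span ⟨j, rfl⟩)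
  choose c hc using fun j => (Submodule.mem_span_range_iff_exists_fun K).1 (hs j)
  refine ⟨Matrix.of fun i k => s k i, Matrix.of fun k j => c j k, ?_⟩
  ext i j
  have := congrFun (hc j) i
  simp only [Finset.sum_apply, Pi.smul_apply, smul_eq_mul, v] at this
  rw [Matrix.mul_apply, ← this]
  exact sum_congr rfl fun k _ => by simp [mul_comm]

/-- The second fundamental theorem for `GL_n`. -/
theorem sft [Infinite K] (m n q : ℕ) :
    RingHom.ker (pairingMap K n m q).toRingHom = CAlgX.minorIdeal (genMatrix K m q) (n + 1) := by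
  classical
  refine le_antisymm (fun f hf => ?_) (Ideal.span_le.2 ?_)
  · rcases Nat.eq_zero_or_pos q with rfl | hq
    · -- constants
      rw [MvPolynomial.eq_C_of_isEmpty f] at hf ⊢
      rw [RingHom.mem_ker] at hf
      have : pairingMap K n m 0 (C (coeff 0 f)) = 0 := hf
      rw [pairingMap, aeval_C] at this
      rw [(algebraMap K (PairRing K n m 0)).injective (this.trans (map_zero _).symm), map_zero]
      exact zero_mem _
    set I := CAlgX.minorIdeal (genMatrix K m q) (n + 1)
    let e := min n (min q m)
    have hI : ∀ θ : Idx q (q + m), e < large θ → phi K q m (X θ) ∈ I := by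
      intro θ hθ
      have := large_le θ
      show _ ∈ CAlgX.minorIdeal (genMatrix K m q) (n + 1)
      rw [← span_phi]
      exact Ideal.subset_span ⟨θ, by omega, rfl⟩
    have hmem : Ideal.Quotient.mk I f ∈ Submodule.span K
        (Set.range fun c : Core q m e => Ideal.Quotient.mk I (phi K q m (chainMon K c.2.1))) := by
      rw [core_span e I hI]; trivial
    obtain ⟨l, hl⟩ := Finsupp.mem_span_range_iff_exists_finsupp.1 hmem
    set F := ∑ c ∈ l.support, l c • chainMon K c.2.1 with hF
    have hdiff : f - phi K q m F ∈ I := by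
      rw [← Ideal.Quotient.eq, ← hl, hF, map_sum, map_sum, Finsupp.sum]
      exact sum_congr rfl fun c _ => by rw [map_smul]; rfl
    have hl0 : l = 0 := by
      refine core_indep hq (by omega) (by omega) l fun Z hZ => ?_
      rw [← eval_phi]
      set v : Fin m × Fin q → K := fun p => Z (Fin.rev p.1) p.2
      have hIv : I ≤ RingHom.ker (aeval (R := K) v).toRingHom := by
        show CAlgX.minorIdeal (genMatrix K m q) (n + 1) ≤ _
        rw [← span_phi, Ideal.span_le]
        rintro _ ⟨θ, hθ, rfl⟩
        show aeval _ (phi K q m (X θ)) = 0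
        rw [eval_phi]
        exact hZ θ (by omega)
      obtain ⟨U, W, hUW⟩ := exists_factor (n := n) (Matrix.of fun i j => v (i, j)) fun a b => by
        have h1 : aeval v ((genMatrix K m q).submatrix a b).det = 0 := hIv (Ideal.subset_span ⟨(a, b), rfl⟩)
        rw [← h1, AlgHom.map_det]
        congr 1
        ext i j
        simp [genMatrix]
      have hev : aeval v f = 0 := by
        have h2 : (aeval (R := K) (Sum.elim (fun p : Fin m × Fin n => U p.1 p.2) fun p : Fin n × Fin q => W p.1 p.2)).comp
            (pairingMap K n m q) = aeval v := by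
          refine MvPolynomial.algHom_ext fun p => ?_
          rw [AlgHom.comp_apply, pairingMap, aeval_X, aeval_X, map_sum]
          have := congrFun (congrFun hUW p.1) p.2
          rw [Matrix.mul_apply] at this
          simp only [Matrix.of_apply] at this
          rw [show v p = v (p.1, p.2) from rfl, this]
          simp
        rw [← h2, AlgHom.comp_apply, show pairingMap K n m q f = 0 from hf, map_zero]
      have := hIv hdiff
      rw [RingHom.mem_ker] at this
      change aeval v (f - phi K q m F) = 0 at this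
      rw [map_sub, hev, zero_sub, neg_eq_zero] at this
      exact this
    have : F = 0 := by rw [hF, hl0]; simp
    rw [this, map_zero, sub_zero] at hdiff
    exact hdiff
  · rintro _ ⟨⟨a, b⟩, rfl⟩
    show pairingMap K n m q ((genMatrix K m q).submatrix a b).det = 0
    rw [AlgHom.map_det]
    let U : Matrix (Fin (n + 1)) (Fin (n + 1)) (PairRing K n m q) :=
      Matrix.of fun i k => if h : k.val < n then X (Sum.inl (a i, ⟨k.val, h⟩)) else 0
    let W : Matrix (Fin (n + 1)) (Fin (n + 1)) (PairRing K n m q) :=
      Matrix.of fun k j => if h : k.val < n then X (Sum.inr (⟨k.val, h⟩, b j)) else 0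
    have : (pairingMap K n m q).mapMatrix ((genMatrix K m q).submatrix a b) = U * W := by
      ext i j : 1
      simp only [AlgHom.mapMatrix_apply, Matrix.map_apply, Matrix.submatrix_apply, genMatrix, Matrix.of_apply,
        pairingMap, aeval_X, Matrix.mul_apply, U, W]
      rw [Fin.sum_univ_castSucc]
      simp
    rw [this, Matrix.det_mul, Matrix.det_eq_zero_of_column_eq_zero (A := U) (Fin.last n) (fun i => by simp [U]), zero_mul]

end LeadGrass
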