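import Groth.Agent.Lead.Grass.CMSchubert
import Groth.Agent.Lead.Grass.Minors
import Groth.Agent.Lead.Grass.Cell
import Groth.Agent.Segre.CM

/-! Determinantal rings: domain, normal, Cohen–Macaulay, dimension. -/

noncomputable section

open MvPolynomial W4bk4grassmannian Finset
open scoped TensorProduct Polynomial

universe u

namespace LeadGrass

variable {K : Type u} [Field K] {d r e : ℕ}

/-- The ideal presenting the affine cone section. -/
def affIdeal (K : Type u) [Field K] (τ : Idx d (d + r)) : Ideal (PlRing K d (d + r)) :=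
  plIdeal K τ ⊔ Ideal.span {X (cbot d r) - 1}

lemma span_core (hed : e ≤ d) (her : e ≤ r) :
    Submodule.span K (Set.range fun c : Core d r e =>
      Ideal.Quotient.mk (affIdeal K (cmax e hed her)) (chainMon K c.2.1)) = ⊤ := by
  set J := affIdeal K (cmax (r := r) e hed her)
  have hbot : Ideal.Quotient.mk J (X (cbot d r)) = 1 := by
    rw [← map_one (Ideal.Quotient.mk J), Ideal.Quotient.eq]
    exact Ideal.mem_sup_right (Ideal.subset_span rfl)
  rw [eq_top_iff]
  rintro x -
  obtain ⟨F, rfl⟩ := Ideal.Quotient.mk_surjective x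
  obtain ⟨a, ha, b, hb, rfl⟩ := Submodule.mem_sup.1 (mem_chainSpan_sup F)
  rw [map_add, Ideal.Quotient.eq_zero_iff_mem.2 (show b ∈ J from Ideal.mem_sup_left (plIdealTop_le K _ hb)), add_zero]
  clear hb
  induction ha using Submodule.span_induction with
  | zero => simp
  | add y z _ _ hy hz => rw [map_add]; exact Submodule.add_mem _ hy hz
  | smul a y _ hy => exact Submodule.smul_mem _ a hy
  | mem y hy =>
    obtain ⟨m, c, hc, rfl⟩ := hy
    induction m with
    | zero => exact Submodule.subset_span ⟨⟨0, c, hc, fun i => i.elim0⟩, rfl⟩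
    | succ m ih =>
      by_cases hlast : c (Fin.last m) = cbot d r
      · have : Ideal.Quotient.mk J (chainMon K c) = Ideal.Quotient.mk J (chainMon K (c ∘ Fin.castSucc)) := by
          simp only [chainMon, map_prod, Fin.prod_univ_castSucc, hlast, map_mul, hbot, mul_one]
          rfl
        rw [this]
        exact ih _ (fun a b hab => hc (Fin.castSucc_le_castSucc_iff.2 hab))
      · by_cases hgood : ∀ i, large (c i) ≤ e
        · exact Submodule.subset_span ⟨⟨m + 1, c, hc, fun i => ⟨(large_pos_iff _).2 fun hi =>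
            hlast (le_antisymm (hi ▸ hc (Fin.le_last i)) (bot_le _ _)), hgood i⟩⟩, rfl⟩
        · rw [not_forall] at hgood
          obtain ⟨i, hi⟩ := hgood
          rw [Ideal.Quotient.eq_zero_iff_mem.2 (show chainMon K c ∈ J from Ideal.mem_sup_left (chain_mem_plIdeal K c i fun h => hi ((le_cmax_iff _).1 h)))]
          exact zero_mem _

/-- The determinantal ring as a section of the Schubert cone. -/
def detEquiv [Infinite K] (hd : 0 < d) (hed : e ≤ d) (her : e ≤ r) :
    (PlRing K d (d + r) ⧸ affIdeal K (cmax e hed her)) ≃ₐ[K]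
      (MvPolynomial (Fin r × Fin d) K ⧸ CAlgX.minorIdeal (genMatrix K r d) (e + 1)) := by
  have hJ : ∀ x ∈ affIdeal K (cmax (r := r) e hed her),
      ((Ideal.Quotient.mkₐ K (CAlgX.minorIdeal (genMatrix K r d) (e + 1))).comp (phi K d r)) x = 0 := by
    intro x hx
    obtain ⟨a, ha, b, hb, rfl⟩ := Submodule.mem_sup.1 hx
    obtain ⟨c, rfl⟩ := Ideal.mem_span_singleton.1 hb
    show Ideal.Quotient.mk _ (phi K d r _) = 0
    rw [Ideal.Quotient.eq_zero_iff_mem, map_add, map_mul, map_sub, map_one, phi, pl_bot, sub_self, zero_mul, add_zero]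
    refine (show plIdeal K (cmax e hed her) ≤ (CAlgX.minorIdeal (genMatrix K r d) (e + 1)).comap (phi K d r).toRingHom from
      Ideal.span_le.2 ?_) ha
    rintro _ (⟨i, j, s, hs, rfl⟩ | ⟨θ, hθ, rfl⟩) <;> rw [SetLike.mem_coe, Ideal.mem_comap]
    · show phi K d r (shuffleRel K i j s) ∈ CAlgX.minorIdeal (genMatrix K r d) (e + 1)
      rw [phi, pl_shuffleRel]
      exact zero_mem _
    · show phi K d r (X θ) ∈ CAlgX.minorIdeal (genMatrix K r d) (e + 1)
      rw [← span_phi]
      exact Ideal.subset_span ⟨θ, by rw [le_cmax_iff] at hθ; omega, rfl⟩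
  refine AlgEquiv.ofBijective (Ideal.Quotient.liftₐ _ _ hJ) ⟨?_, ?_⟩
  · rw [injective_iff_map_eq_zero]
    intro x hx
    have hmem : x ∈ Submodule.span K (Set.range fun c : Core d r e =>
        Ideal.Quotient.mk (affIdeal K (cmax e hed her)) (chainMon K c.2.1)) := by
      rw [span_core]; trivial
    obtain ⟨l, rfl⟩ := Finsupp.mem_span_range_iff_exists_finsupp.1 hmem
    have hb := linearIndependent_iff.1 (core_basis (K := K) hd hed her).1 l (by
      rw [Finsupp.linearCombination_apply]
      rw [map_finsuppSum] at hx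
      refine Eq.trans (Finsupp.sum_congr fun c _ => ?_) hx
      rw [map_smul]
      rfl)
    rw [hb]
    simp
  · intro y
    obtain ⟨f, rfl⟩ := Ideal.Quotient.mk_surjective y
    obtain ⟨F, rfl⟩ := phi_surjective f
    exact ⟨Ideal.Quotient.mk _ F, rfl⟩

lemma aeval_scale {S : Type*} [CommRing S] [Algebra K S] {σ : Type*} (c : S) (b : σ → S)
    {G : MvPolynomial σ K} {k : ℕ} (hG : G.IsHomogeneous k) :
    aeval (fun i => c * b i) G = c ^ k * aeval b G := by
  classical
  rw [aeval_def, aeval_def, eval₂_eq, eval₂_eq, mul_sum]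
  refine sum_congr rfl fun x hx => ?_
  have hk := hG (mem_support_iff.1 hx)
  have hsum : ∑ i ∈ x.support, x i = k := by
    rw [← hk, Finsupp.weight_apply, Finsupp.sum]
    simp
  simp only [mul_pow, prod_mul_distrib]
  rw [prod_pow_eq_pow_sum, hsum]
  ring

variable (τ : Idx d (d + r))

/-- Coordinates of the cell. -/
def cellA (K : Type u) [Field K] (θ : Idx d (d + r)) : MvPolynomial (CellIdx τ) K :=
  aeval (fun o : Option (CellIdx τ) => o.elim 1 X) ((cellMat K τ).submatrix θ.1 id).det

/-- The function field of the cell. -/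
abbrev CellField (K : Type u) [Field K] : Type u := FractionRing (MvPolynomial (CellIdx τ) K)

/-- The coordinates in the function field. -/
def coA (K : Type u) [Field K] (θ : Idx d (d + r)) : CellField τ K :=
  algebraMap (MvPolynomial (CellIdx τ) K) (CellField τ K) (cellA τ K θ)

/-- The homogeneous coordinates. -/
def hom' (K : Type u) [Field K] : PlRing K d (d + r) →ₐ[K] (CellField τ K)[X] :=
  aeval fun θ => Polynomial.C (coA τ K θ) * Polynomial.X

/-- The affine coordinates. -/
def chi (K : Type u) [Field K] : PlRing K d (d + r) →ₐ[K] CellField τ K :=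
  aeval fun θ => coA τ K θ / coA τ K (cbot d r)

lemma ker_hom' (hd : 0 < d) : RingHom.ker (hom' τ K).toRingHom = plIdeal K τ := by
  classical
  rw [← ker_cell τ hd]
  let ι : Cell K τ →ₐ[K] (CellField τ K)[X] :=
    ((Polynomial.mapAlgHom (IsScalarTower.toAlgHom K (MvPolynomial (CellIdx τ) K) (CellField τ K))).comp
      (MvPolynomial.optionEquivLeft K (CellIdx τ)).toAlgHom)
  have hinj : Function.Injective ι :=
    (Polynomial.map_injective _ (IsFractionRing.injective (MvPolynomial (CellIdx τ) K) (CellField τ K))).comp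
      (MvPolynomial.optionEquivLeft K (CellIdx τ)).injective
  have hz : ∀ q : CellIdx τ, ι (X (some q)) = Polynomial.C (algebraMap (MvPolynomial (CellIdx τ) K) (CellField τ K) (X q)) := by
    intro q
    simp [ι, MvPolynomial.optionEquivLeft_X_some]
  have hy : ι (X none) = Polynomial.X := by
    simp [ι, MvPolynomial.optionEquivLeft_X_none]
  let lift : MvPolynomial (CellIdx τ) K →ₐ[K] Cell K τ := rename some
  have hlift : ∀ p, ι (lift p) = Polynomial.C (algebraMap (MvPolynomial (CellIdx τ) K) (CellField τ K) p) := by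
    intro p
    have : ι.comp lift = (Polynomial.CAlgHom (R := K)).comp (IsScalarTower.toAlgHom K (MvPolynomial (CellIdx τ) K) (CellField τ K)) :=
      MvPolynomial.algHom_ext fun q => by simp [lift, hz]
    exact AlgHom.congr_fun this p
  have hdet : ∀ θ : Idx d (d + r), ((cellMat K τ).submatrix θ.1 id).det = lift (cellA τ K θ) := by
    intro θ
    rw [cellA, ← AlgHom.comp_apply, AlgHom.map_det]
    congr 1
    ext i j : 1
    simp only [AlgHom.mapMatrix_apply, Matrix.map_apply, Matrix.submatrix_apply, id, cellMat, Matrix.of_apply]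
    split_ifs <;> simp [lift]
  have hcomp : ι.comp (cell K τ) = hom' τ K := by
    refine MvPolynomial.algHom_ext fun θ => ?_
    rw [AlgHom.comp_apply, cell, aeval_X, hom', aeval_X, map_mul, hy, hdet, hlift, mul_comm]
    rfl
  ext f
  rw [RingHom.mem_ker, RingHom.mem_ker]
  show hom' τ K f = 0 ↔ cell K τ f = 0
  rw [← hcomp, AlgHom.comp_apply]
  exact ⟨fun h => hinj (h.trans (map_zero ι).symm), fun h => by rw [h, map_zero]⟩

lemma coA_bot_ne (hd : 0 < d) : coA τ K (cbot d r) ≠ 0 := by
  intro h
  have hm : X (cbot d r) ∈ RingHom.ker (hom' τ K).toRingHom := by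
    rw [RingHom.mem_ker]
    show hom' τ K (X _) = 0
    rw [hom', aeval_X, h, map_zero, zero_mul]
  rw [ker_hom' τ hd, plIdeal_eq_ker K hd] at hm
  exact rho_ne K (cbot d r) (rho_mono K (bot_le _ τ) _ hm)

lemma coeff_hom' (G : PlRing K d (d + r)) (k : ℕ) :
    (hom' τ K G).coeff k = aeval (coA τ K) (homogeneousComponent k G) := by
  classical
  have h : ∀ j, hom' τ K (homogeneousComponent j G) = Polynomial.C (aeval (coA τ K) (homogeneousComponent j G)) * Polynomial.X ^ j := by
    intro j
    rw [hom', show (fun θ => Polynomial.C (coA τ K θ) * (Polynomial.X : (CellField τ K)[X])) =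
      fun θ => Polynomial.X * Polynomial.C (coA τ K θ) from funext fun θ => mul_comm _ _,
      aeval_scale _ _ (homogeneousComponent_isHomogeneous j G), mul_comm]
    congr 1
    have : (aeval fun θ => Polynomial.C (coA τ K θ) : PlRing K d (d + r) →ₐ[K] (CellField τ K)[X]) =
        (Polynomial.CAlgHom (R := K)).comp (aeval (coA τ K)) :=
      MvPolynomial.algHom_ext fun θ => by simp
    exact AlgHom.congr_fun this _
  conv_lhs => rw [← sum_homogeneousComponent G]
  rw [map_sum, Polynomial.finsetSum_coeff, sum_congr rfl fun j _ => by rw [h j, Polynomial.coeff_C_mul_X_pow]]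
  rw [sum_ite_eq]
  split_ifs with hk
  · rfl
  · rw [homogeneousComponent_eq_zero k G (by simp at hk; omega), map_zero]

lemma exists_homog (hd : 0 < d) (f : PlRing K d (d + r)) : ∃ N₀, ∀ N ≥ N₀, ∃ F,
    hom' τ K F = Polynomial.C (coA τ K (cbot d r) ^ N * chi τ K f) * Polynomial.X ^ N := by
  have hb := coA_bot_ne (K := K) τ hd
  induction f using MvPolynomial.induction_on with
  | C a =>
    refine ⟨0, fun N _ => ⟨C a * X (cbot d r) ^ N, ?_⟩⟩
    simp only [hom', chi, map_mul, map_pow, aeval_C, aeval_X]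
    rw [IsScalarTower.algebraMap_apply K (CellField τ K) (CellField τ K)[X] a, Polynomial.algebraMap_eq]
    ring
  | add p q hp hq =>
    obtain ⟨Np, hp⟩ := hp
    obtain ⟨Nq, hq⟩ := hq
    refine ⟨max Np Nq, fun N hN => ?_⟩
    obtain ⟨F, hF⟩ := hp N (le_of_max_le_left hN)
    obtain ⟨G, hG⟩ := hq N (le_of_max_le_right hN)
    exact ⟨F + G, by rw [map_add, hF, hG, map_add, mul_add, map_add, add_mul]⟩
  | mul_X p θ hp =>
    obtain ⟨Np, hp⟩ := hp
    refine ⟨Np + 1, fun N hN => ?_⟩
    obtain ⟨M, rfl⟩ : ∃ M, N = M + 1 := ⟨N - 1, by omega⟩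
    obtain ⟨F, hF⟩ := hp M (by omega)
    refine ⟨F * X θ, ?_⟩
    rw [map_mul, hF, hom', aeval_X, map_mul (chi τ K), chi, aeval_X]
    have : coA τ K (cbot d r) ^ (M + 1) * ((aeval fun θ => coA τ K θ / coA τ K (cbot d r)) p * (coA τ K θ / coA τ K (cbot d r))) =
        (coA τ K (cbot d r) ^ M * (aeval fun θ => coA τ K θ / coA τ K (cbot d r)) p) * coA τ K θ := by
      field_simp
      ring
    rw [this, pow_succ]
    simp only [map_mul]
    ring

lemma ker_chi [Infinite K] (hd : 0 < d) (hed : e ≤ d) (her : e ≤ r) :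
    RingHom.ker (chi (cmax e hed her) K).toRingHom = affIdeal K (cmax e hed her) := by
  classical
  set τ := cmax (r := r) e hed her
  have hb := coA_bot_ne (K := K) τ hd
  have hkill : affIdeal K τ ≤ RingHom.ker (chi τ K).toRingHom := by
    refine sup_le (fun f hf => ?_) ?_
    · have hscale : chi τ K = ((Polynomial.aeval (coA τ K (cbot d r))⁻¹).restrictScalars K).comp (hom' τ K) := by
        refine MvPolynomial.algHom_ext fun θ => ?_
        simp [chi, hom', div_eq_mul_inv]
      rw [← ker_hom' τ hd, RingHom.mem_ker] at hf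
      rw [RingHom.mem_ker]
      show chi τ K f = 0
      rw [hscale, AlgHom.comp_apply, show hom' τ K f = 0 from hf, map_zero]
    · rw [Ideal.span_le, Set.singleton_subset_iff]
      show chi τ K _ = 0
      simp [chi, hb]
  refine le_antisymm (fun f hf => ?_) hkill
  have hmem : Ideal.Quotient.mk (affIdeal K τ) f ∈ Submodule.span K (Set.range fun c : Core d r e =>
      Ideal.Quotient.mk (affIdeal K τ) (chainMon K c.2.1)) := by
    rw [span_core]; trivial
  obtain ⟨l, hl⟩ := Finsupp.mem_span_range_iff_exists_finsupp.1 hmem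
  set F := ∑ c ∈ l.support, l c • chainMon K c.2.1 with hF
  have hdiff : f - F ∈ affIdeal K τ := by
    rw [← Ideal.Quotient.eq, ← hl, hF, map_sum, Finsupp.sum]
    rfl
  have h0 : chi τ K F = 0 := by
    have := hkill hdiff
    rw [RingHom.mem_ker] at this
    change chi τ K (f - F) = 0 at this
    rw [map_sub, show chi τ K f = 0 from hf, zero_sub, neg_eq_zero] at this
    exact this
  obtain ⟨N₀, hN⟩ := exists_homog τ hd F
  set D := max N₀ (l.support.sup fun c => c.1) with hD
  have hG : ∑ c ∈ l.support, l c • (chainMon K c.2.1 * X (cbot d r) ^ (D + 1 - c.1)) ∈ plIdeal K τ := by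
    rw [← ker_hom' τ hd, RingHom.mem_ker]
    show hom' τ K _ = 0
    have hc : ∀ c ∈ l.support, hom' τ K (l c • (chainMon K c.2.1 * X (cbot d r) ^ (D + 1 - c.1))) =
        l c • (Polynomial.C (coA τ K (cbot d r) ^ (D + 1) * chi τ K (chainMon K c.2.1)) * Polynomial.X ^ (D + 1)) := by
      intro c hc
      have hcD : c.1 ≤ D := le_trans (Finset.le_sup (f := fun c : Core d r e => c.1) hc) (le_max_right _ _)
      rw [map_smul]
      congr 1
      simp only [hom', chi, chainMon, map_mul, map_pow, map_prod, aeval_X, prod_mul_distrib, prod_const, card_univ,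
        Fintype.card_fin, prod_div_distrib]
      rw [mul_pow, ← map_pow Polynomial.C, ← map_prod Polynomial.C]
      obtain ⟨j, hj⟩ : ∃ j, D + 1 = c.1 + j := ⟨D + 1 - c.1, by omega⟩
      rw [hj, Nat.add_sub_cancel_left]
      have : Polynomial.C (coA τ K (cbot d r)) ^ (c.1 + j) * Polynomial.C ((∏ i, coA τ K (c.2.1 i)) / coA τ K (cbot d r) ^ c.1) =
          Polynomial.C (∏ i, coA τ K (c.2.1 i)) * Polynomial.C (coA τ K (cbot d r) ^ j) := by
        rw [← map_pow, ← map_mul, ← map_mul]
        congr 1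
        rw [pow_add]
        field_simp
      rw [this, pow_add]
      ring
    rw [map_sum, sum_congr rfl hc]
    have : ∑ c ∈ l.support, l c • chi τ K (chainMon K c.2.1) = 0 := by
      rw [← h0, hF, map_sum]
      exact sum_congr rfl fun c _ => (map_smul _ _ _).symm
    rw [← sum_congr rfl fun c _ => show Polynomial.C (coA τ K (cbot d r) ^ (D + 1) * (l c • chi τ K (chainMon K c.2.1))) * Polynomial.X ^ (D + 1) =
      l c • (Polynomial.C (coA τ K (cbot d r) ^ (D + 1) * chi τ K (chainMon K c.2.1)) * Polynomial.X ^ (D + 1)) by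
        rw [mul_smul_comm, ← Polynomial.smul_C, smul_mul_assoc]]
    rw [← sum_mul, ← map_sum, ← mul_sum, this, mul_zero, map_zero, zero_mul]
  have hl0 : l = 0 := core_indep hd hed her l fun Z hZ => by
    have hG' := hG
    rw [plIdeal_eq_vanishing K hd] at hG'
    simp only [schubertVanishing, Submodule.mem_iInf, RingHom.mem_ker] at hG'
    have h1 := hG' (bigMat Z) (fun φ hφ => by
      rw [← pl_X (K := K)]
      exact hZ φ (not_le.1 fun h => hφ ((le_cmax_iff φ).2 h)))
    change evalMinors K d (d + r) (bigMat Z) _ = 0 at h1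
    rw [evalMinors_eq, map_sum] at h1
    rw [map_sum]
    refine Eq.trans (sum_congr rfl fun c _ => ?_) h1
    rw [map_smul, map_smul, map_mul, map_pow, pl_bot, one_pow, mul_one]
  have : F = 0 := by rw [hF, hl0]; simp
  rw [this, sub_zero] at hdiff
  exact hdiff

theorem normal_chi (hd : 0 < d) : IsIntegrallyClosed (chi τ K).range := by
  classical
  set S := (chi τ K).range
  set L := CellField τ K
  have hb := coA_bot_ne (K := K) τ hd
  let FS := FractionRing S
  let j : FS →+* L := IsFractionRing.lift (A := S) (g := S.val.toRingHom) Subtype.val_injective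
  have hj : ∀ s : S, j (algebraMap S FS s) = (s : L) := fun s => IsLocalization.lift_eq _ s
  rw [isIntegrallyClosed_iff FS]
  intro x hx
  obtain ⟨⟨u, v⟩, hxuv⟩ := IsLocalization.surj (nonZeroDivisors S) x
  obtain ⟨p, hp, hp0⟩ := hx
  set m := p.natDegree
  have hroot : ∑ i ∈ range (m + 1), (p.coeff i : L) * j x ^ i = 0 := by
    have h := congrArg j hp0
    rw [map_zero, Polynomial.eval₂_eq_sum_range, map_sum] at h
    simpa only [map_mul, map_pow, hj] using h
  choose Nf hNf using fun f : PlRing K d (d + r) => exists_homog τ hd f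
  choose pre hpre using fun s : S => (show ∃ f, chi τ K f = (s : L) from s.2)
  set N := (range (m + 1)).sup (fun i => Nf (pre (p.coeff i))) ⊔ (Nf (pre u) ⊔ Nf (pre v.1)) ⊔ 1 with hN
  have hN1 : 1 ≤ N := le_sup_right
  have hhom : ∀ s : S, Nf (pre s) ≤ N → ∀ k ≥ 1, ∃ F, hom' τ K F =
      Polynomial.C (coA τ K (cbot d r) ^ (N * k) * (s : L)) * Polynomial.X ^ (N * k) := by
    intro s hs k hk
    obtain ⟨F, hF⟩ := hNf (pre s) (N * k) (le_trans hs (Nat.le_mul_of_pos_right _ hk))
    exact ⟨F, by rw [hF, hpre]⟩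
  set R := (hom' τ K).range
  haveI hRnorm : IsIntegrallyClosed R := by
    haveI := normal (K := K) τ hd
    exact IsIntegrallyClosed.of_equiv ((Ideal.quotEquivOfEq (show plIdeal K τ = RingHom.ker (hom' τ K).rangeRestrict.toRingHom by
      rw [← ker_hom' τ hd]; ext f; simp only [RingHom.mem_ker]
      exact ⟨fun h => Subtype.ext h, fun h => congrArg Subtype.val h⟩)).trans
      (RingHom.quotientKerEquivOfSurjective (f := (hom' τ K).rangeRestrict.toRingHom) (hom' τ K).rangeRestrict_surjective))
  let FR := FractionRing R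
  let FL := FractionRing L[X]
  let jR : FR →+* FL := IsFractionRing.lift (A := R) (g := (algebraMap L[X] FL).comp R.val.toRingHom)
    ((IsFractionRing.injective L[X] FL).comp Subtype.val_injective)
  have hjR : ∀ t : R, jR (algebraMap R FR t) = algebraMap L[X] FL (t : L[X]) := fun t => IsLocalization.lift_eq _ t
  let w : L[X] := Polynomial.C (coA τ K (cbot d r) ^ N * j x) * Polynomial.X ^ N
  -- `w` is a fraction
  have hNu : Nf (pre u) ≤ N := le_trans le_sup_left (le_trans le_sup_right le_sup_left)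
  have hNv : Nf (pre v.1) ≤ N := le_trans le_sup_right (le_trans le_sup_right le_sup_left)
  obtain ⟨Fu, hFu⟩ := hhom u hNu 2 (by norm_num)
  obtain ⟨Fv, hFv⟩ := hhom v.1 hNv 1 le_rfl
  have hxv : j x * (v.1 : L) = (u : L) := by
    rw [← hj, ← map_mul, hxuv, hj]
  have hwv : w * hom' τ K Fv = hom' τ K Fu := by
    rw [hFu, hFv]
    simp only [w, mul_one]
    rw [← hxv, Nat.mul_two]
    simp only [pow_add, map_mul, map_pow]
    ring
  have hFvne : (⟨hom' τ K Fv, Fv, rfl⟩ : R) ≠ 0 := by
    intro h0
    have h1 := congrArg Subtype.val h0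
    change hom' τ K Fv = 0 at h1
    rw [hFv, mul_eq_zero, Polynomial.C_eq_zero] at h1
    rcases h1 with h1 | h1
    · rw [mul_eq_zero] at h1
      rcases h1 with h1 | h1
      · exact hb (eq_zero_of_pow_eq_zero h1)
      · exact nonZeroDivisors.coe_ne_zero v (Subtype.ext h1)
    · exact pow_ne_zero _ Polynomial.X_ne_zero h1
  let ξ : FR := algebraMap R FR ⟨hom' τ K Fu, Fu, rfl⟩ / algebraMap R FR ⟨hom' τ K Fv, Fv, rfl⟩
  have hξ : jR ξ = algebraMap L[X] FL w := by
    rw [map_div₀, hjR, hjR, div_eq_iff (fun h => hFvne (Subtype.ext (IsFractionRing.injective L[X] FL (by rw [h, ← map_zero (algebraMap L[X] FL)]; rfl)))),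
      ← map_mul, hwv]
  -- `w` is integral
  have hint : IsIntegral R ξ := by
    have hcoef : ∀ i ∈ range m, ∃ t : R, (t : L[X]) =
        Polynomial.C (coA τ K (cbot d r) ^ (N * (m - i)) * (p.coeff i : L)) * Polynomial.X ^ (N * (m - i)) := by
      intro i hi
      rw [mem_range] at hi
      have hle : Nf (pre (p.coeff i)) ≤ N :=
        le_trans (Finset.le_sup (f := fun i => Nf (pre (p.coeff i))) (mem_range.2 (by omega))) (le_trans le_sup_left le_sup_left)
      obtain ⟨F, hF⟩ := hhom (p.coeff i) hle (m - i) (by omega)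
      exact ⟨⟨_, F, rfl⟩, hF⟩
    choose! t ht using hcoef
    refine ⟨Polynomial.X ^ m + ∑ i ∈ range m, Polynomial.C (t i) * Polynomial.X ^ i,
      Polynomial.monic_X_pow_add (lt_of_le_of_lt (Polynomial.degree_sum_le _ _) ((Finset.sup_lt_iff (WithBot.bot_lt_coe m)).2
        fun i hi => lt_of_le_of_lt (Polynomial.degree_C_mul_X_pow_le _ _) (WithBot.coe_lt_coe.2 (mem_range.1 hi)))), ?_⟩
    apply jR.injective
    rw [map_zero, Polynomial.eval₂_add, Polynomial.eval₂_X_pow, Polynomial.eval₂_finsetSum, map_add, map_pow, map_sum]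
    simp only [Polynomial.eval₂_mul, Polynomial.eval₂_C, Polynomial.eval₂_X_pow, map_mul, map_pow, hjR, hξ]
    rw [← map_pow, sum_congr rfl fun i _ => by rw [← map_pow, ← map_mul], ← map_sum, ← map_add]
    rw [show w ^ m + ∑ i ∈ range m, (t i : L[X]) * w ^ i = 0 from ?_, map_zero]
    have e1 : ∀ i ∈ range m, (t i : L[X]) * w ^ i =
        Polynomial.C (coA τ K (cbot d r) ^ (N * m) * ((p.coeff i : L) * j x ^ i)) * Polynomial.X ^ (N * m) := by
      intro i hi
      rw [ht i hi]
      simp only [w]
      rw [mul_pow, ← map_pow, ← pow_mul]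
      have hNm : N * m = N * (m - i) + N * i := by rw [← Nat.mul_add, Nat.sub_add_cancel (mem_range.1 hi).le]
      rw [hNm]
      simp only [mul_pow, ← pow_mul, pow_add, map_mul]
      ring
    rw [sum_congr rfl e1, ← sum_mul, ← map_sum, ← mul_sum]
    simp only [w]
    rw [mul_pow, ← map_pow, ← pow_mul, mul_pow, ← pow_mul, ← add_mul, ← map_add, ← mul_add]
    rw [sum_range_succ, show p.coeff m = 1 from hp.coeff_natDegree] at hroot
    rw [show j x ^ m + ∑ i ∈ range m, (p.coeff i : L) * j x ^ i = 0 by rw [add_comm]; simpa using hroot]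
    simp
  obtain ⟨g, hg⟩ := IsIntegrallyClosed.isIntegral_iff.1 hint
  have hgw : (g : L[X]) = w := IsFractionRing.injective L[X] FL (by rw [← hjR, hg, hξ])
  obtain ⟨G, hG⟩ := g.2
  have hk := congrArg (fun q : L[X] => q.coeff N) ((show hom' τ K G = (g : L[X]) from hG).trans hgw)
  simp only [w, Polynomial.coeff_C_mul_X_pow, if_true, coeff_hom'] at hk
  refine ⟨⟨chi τ K (homogeneousComponent N G), _, rfl⟩, j.injective ?_⟩
  rw [hj]
  show chi τ K (homogeneousComponent N G) = j x
  rw [chi, show (fun θ => coA τ K θ / coA τ K (cbot d r)) = fun θ => (coA τ K (cbot d r))⁻¹ * coA τ K θ from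
    funext fun θ => by rw [div_eq_inv_mul], aeval_scale _ _ (homogeneousComponent_isHomogeneous N G),
    (coeff_hom' (K := K) τ G N).symm.trans hk,
    ← mul_assoc, inv_pow, inv_mul_cancel₀ (pow_ne_zero _ hb), one_mul]

lemma layer_last (τ : Idx d (d + r)) :
    layer (Tops.single τ) (Fin.last (Tops.single τ).D) = {cbot d r} := by
  classical
  ext z
  simp only [layer, mem_filter, mem_univ, true_and, mem_singleton, Fin.val_last, Tops.single]
  constructor
  · rintro ⟨hz, -⟩
    by_contra hne
    obtain ⟨φ, hφ, -⟩ := exists_divisor_ge (lt_of_le_of_ne (bot_le _ z) (Ne.symm hne))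
    have := hφ.2
    omega
  · rintro rfl
    exact ⟨by simp [codeg, bot], τ, rfl, bot_le _ τ⟩

lemma dim_baseChange (P A : Type u) [CommRing P] [CommRing A] [Algebra P A] [Module.Free P A] [Module.Finite P A]
    {R' : Type u} [CommRing R'] [Algebra P R'] [Nontrivial (R' ⊗[P] A)] :
    ringKrullDim (R' ⊗[P] A) = ringKrullDim R' := by
  haveI : Nontrivial R' := (algebraMap R' (R' ⊗[P] A)).domain_nontrivial
  have hinj : Function.Injective (algebraMap R' (R' ⊗[P] A)) := by
    let b := Module.Free.chooseBasis R' (R' ⊗[P] A)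
    intro x y h
    obtain ⟨i⟩ := b.index_nonempty
    have h' := congrArg (fun z => b.repr (z * b i) i) h
    simp only [← Algebra.smul_def, map_smul, b.repr_self, Finsupp.smul_apply, Finsupp.single_eq_same, smul_eq_mul, mul_one] at h'
    exact h'
  haveI : Algebra.IsIntegral R' (R' ⊗[P] A) := Algebra.IsIntegral.of_finite R' _
  exact (Groth.Agent.Segre.Param.ringKrullDim_eq_of_isIntegral (algebraMap R' (R' ⊗[P] A))
    (algebraMap_isIntegral_iff.2 inferInstance) hinj).symm

theorem section_free (hd : 0 < d) (τ : Idx d (d + r))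
    [Nontrivial (PlRing K d (d + r) ⧸ affIdeal K τ)] :
    LocCoh.IsCohenMacaulayRing (PlRing K d (d + r) ⧸ affIdeal K τ) ∧
      ringKrullDim (PlRing K d (d + r) ⧸ affIdeal K τ) = ((codeg τ : ℕ) : WithBot ℕ∞) := by
  classical
  set T := Tops.single τ
  letI := (params K T).toRingHom.toAlgebra
  haveI : IsScalarTower K (MvPolynomial (Fin (T.D + 1)) K) (TRing K T) :=
    IsScalarTower.of_algebraMap_eq fun x => ((params K T).commutes x).symm
  obtain ⟨h1, h2⟩ := free_over_params (K := K) T hd ⟨τ, mem_singleton.2 rfl⟩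
  let I : Ideal (MvPolynomial (Fin (T.D + 1)) K) := Ideal.span {X (Fin.last T.D) - 1}
  let q : (MvPolynomial (Fin (T.D + 1)) K) →ₐ[K] MvPolynomial (Fin T.D) K := aeval (Fin.lastCases 1 X)
  have hqs : Function.Surjective q := fun f => ⟨rename Fin.castSucc f, by
    rw [show q (rename Fin.castSucc f) = (q.comp (rename Fin.castSucc)) f from rfl,
      show q.comp (rename Fin.castSucc) = AlgHom.id K _ from MvPolynomial.algHom_ext fun i => by
        simp only [q, AlgHom.comp_apply, rename_X, aeval_X, Fin.lastCases_castSucc, AlgHom.id_apply]]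
    rfl⟩
  have hker : RingHom.ker q.toRingHom = I := by
    refine le_antisymm (fun f hf => ?_) ?_
    · have hsec : (Ideal.Quotient.mkₐ K I).comp ((rename Fin.castSucc).comp q) = Ideal.Quotient.mkₐ K I := by
        refine MvPolynomial.algHom_ext fun i => ?_
        induction i using Fin.lastCases with
        | last =>
          simp only [AlgHom.comp_apply, q, aeval_X, Fin.lastCases_last, map_one, Ideal.Quotient.mkₐ_eq_mk]
          rw [← map_one (Ideal.Quotient.mk I), Ideal.Quotient.eq, ← neg_sub]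
          exact I.neg_mem (Ideal.subset_span rfl)
        | cast i => simp only [q, AlgHom.comp_apply, rename_X, aeval_X, Fin.lastCases_castSucc]
      rw [← Ideal.Quotient.eq_zero_iff_mem, ← Ideal.Quotient.mkₐ_eq_mk K, ← hsec, AlgHom.comp_apply, AlgHom.comp_apply,
        show q f = 0 from hf, map_zero, map_zero]
    · rw [Ideal.span_le, Set.singleton_subset_iff]
      show q _ = 0
      rw [map_sub, map_one, show q (X (Fin.last T.D)) = 1 by simp only [q, aeval_X, Fin.lastCases_last], sub_self]
  let eP : ((MvPolynomial (Fin (T.D + 1)) K) ⧸ I) ≃+* MvPolynomial (Fin T.D) K :=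
    (Ideal.quotEquivOfEq hker.symm).trans (RingHom.quotientKerEquivOfSurjective (f := q.toRingHom) hqs)
  haveI : IsRegularRing ((MvPolynomial (Fin (T.D + 1)) K) ⧸ I) := IsRegularRing.of_ringEquiv eP.symm
  let B := ((MvPolynomial (Fin (T.D + 1)) K) ⧸ I) ⊗[(MvPolynomial (Fin (T.D + 1)) K)] TRing K T
  haveI : Module.Free ((MvPolynomial (Fin (T.D + 1)) K) ⧸ I) B := inferInstance
  haveI : Module.Finite ((MvPolynomial (Fin (T.D + 1)) K) ⧸ I) B := inferInstance
  haveI hB := LeadCM.cm_of_finite_flat (P := (MvPolynomial (Fin (T.D + 1)) K) ⧸ I) (A := B)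
  have hmap : I.map (algebraMap (MvPolynomial (Fin (T.D + 1)) K) (TRing K T)) =
      (Ideal.span {X (cbot d r) - 1} : Ideal (PlRing K d (d + r))).map (Ideal.Quotient.mk (tIdeal K T)) := by
    rw [Ideal.map_span, Ideal.map_span, Set.image_singleton, Set.image_singleton]
    congr 2
    show params K T (X (Fin.last T.D) - 1) = _
    rw [map_sub, map_one, map_sub, map_one, params, AlgHom.comp_apply, aeval_X, rsum, layer_last, sum_singleton]
    rfl
  let E : B ≃+* (PlRing K d (d + r) ⧸ affIdeal K τ) :=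
    (((Algebra.TensorProduct.comm (MvPolynomial (Fin (T.D + 1)) K) ((MvPolynomial (Fin (T.D + 1)) K) ⧸ I) (TRing K T)).toRingEquiv.trans
      (Algebra.TensorProduct.quotIdealMapEquivTensorQuot (TRing K T) I).symm.toRingEquiv).trans
      (Ideal.quotEquivOfEq hmap)).trans
      ((DoubleQuot.quotQuotEquivQuotSup (tIdeal K T) (Ideal.span {X (cbot d r) - 1})).trans
        (Ideal.quotEquivOfEq (by rw [affIdeal, tIdeal_single])))
  refine ⟨Groth.Agent.Segre.CM.cm_congr (A := B) E, ?_⟩
  haveI : Nontrivial B := E.symm.injective.nontrivial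
  rw [← ringKrullDim_eq_of_ringEquiv (R := B) E, dim_baseChange (MvPolynomial (Fin (T.D + 1)) K) (TRing K T),
    ringKrullDim_eq_of_ringEquiv eP,
    MvPolynomial.ringKrullDim_of_isNoetherianRing, ringKrullDim_eq_zero_of_field, zero_add]
  simp [T, Tops.single]

lemma codeg_cmax (hed : e ≤ d) (her : e ≤ r) : codeg (cmax (r := r) e hed her) + e * e = e * (d + r) := by
  classical
  obtain ⟨hA, hB⟩ : 0 ≤ d ∧ 0 ≤ r := ⟨Nat.zero_le _, Nat.zero_le _⟩
  set τ := cmax (r := r) e hed her
  have hwt : ∀ (A : Idx e r) (B : Idx e d), wt (cidx A B) + ∑ i, (B.1 i).val =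
      (∑ j : Fin d, j.val) + ∑ i, (d + (Fin.rev (A.1 i)).val) := by
    intro A B
    have hρ := rowsAB_inj A B
    have h1 : wt (cidx A B) = ∑ j, (rowsAB A B j).val := by
      rw [wt, ← sum_image (g := (cidx A B).1) (f := fun x => x.val) fun a _ b _ h => (cidx A B).2.injective h,
        ← sum_image (g := rowsAB A B) (f := fun x => x.val) fun a _ b _ h => hρ h]
      congr 1
      apply Finset.coe_injective
      rw [coe_image, coe_univ, Set.image_univ]
      exact Finset.range_orderEmbOfFin _ _
    rw [h1, ← sum_add_sum_compl (univ.image B.1) fun j => (rowsAB A B j).val,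
      ← sum_add_sum_compl (univ.image B.1) fun j : Fin d => j.val,
      sum_image fun a _ b _ h => B.2.injective h, sum_image fun a _ b _ h => B.2.injective h,
      sum_congr rfl fun i _ => rowsAB_mem A B i,
      sum_congr rfl fun j (hj : j ∈ (univ.image B.1)ᶜ) => rowsAB_notMem A B fun i hi => by
        rw [mem_compl, mem_image] at hj; exact hj ⟨i, mem_univ _, hi⟩]
    ring
  have h := hwt ⟨Fin.castLE her, Fin.strictMono_castLE her⟩ ⟨Fin.castLE hed, Fin.strictMono_castLE hed⟩
  have h2 := codeg_eq τ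
  have h3 : ∑ i : Fin e, (d + (Fin.rev (Fin.castLE her i)).val) + ∑ i : Fin e, i.val + e = e * (d + r) := by
    have hc : ∑ _i : Fin e, 1 = e := by simp
    conv_lhs => arg 2; rw [← hc]
    rw [← sum_add_distrib, ← sum_add_distrib, sum_congr rfl fun (i : Fin e) _ => show
      d + (Fin.rev (Fin.castLE her i)).val + i.val + 1 = d + r by
        rw [Fin.val_rev, Fin.coe_castLE]; omega]
    simp
  have h4 : (∑ i : Fin e, i.val) + (∑ i : Fin e, i.val) + e = e * e := by
    have := Finset.sum_range_id_mul_two e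
    rw [← Fin.sum_univ_eq_sum_range (fun i => i)] at this
    rcases Nat.eq_zero_or_pos e with he | he
    · subst he; simp
    · obtain ⟨k, rfl⟩ : ∃ k, e = k + 1 := ⟨e - 1, by omega⟩
      simp only [Nat.add_sub_cancel] at this
      nlinarith
  change wt τ + _ = _ at h
  simp only [Fin.coe_castLE] at h
  omega

theorem det_ring [Infinite K] (hd : 0 < d) (hed : e ≤ d) (her : e ≤ r) :
    IsDomain (MvPolynomial (Fin r × Fin d) K ⧸ CAlgX.minorIdeal (genMatrix K r d) (e + 1)) ∧
      IsIntegrallyClosed (MvPolynomial (Fin r × Fin d) K ⧸ CAlgX.minorIdeal (genMatrix K r d) (e + 1)) ∧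
      LocCoh.IsCohenMacaulayRing (MvPolynomial (Fin r × Fin d) K ⧸ CAlgX.minorIdeal (genMatrix K r d) (e + 1)) ∧
      ringKrullDim (MvPolynomial (Fin r × Fin d) K ⧸ CAlgX.minorIdeal (genMatrix K r d) (e + 1)) =
        ((codeg (cmax (r := r) e hed her) : ℕ) : WithBot ℕ∞) := by
  classical
  set τ := cmax (r := r) e hed her
  let E := (detEquiv (K := K) hd hed her).toRingEquiv
  let Eχ : (PlRing K d (d + r) ⧸ affIdeal K τ) ≃+* (chi τ K).range :=
    (Ideal.quotEquivOfEq (by
      rw [← ker_chi hd hed her]; ext f; simp only [RingHom.mem_ker]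
      exact ⟨fun h => Subtype.ext h, fun h => congrArg Subtype.val h⟩)).trans
      (RingHom.quotientKerEquivOfSurjective (f := (chi τ K).rangeRestrict.toRingHom) (chi τ K).rangeRestrict_surjective)
  haveI : IsDomain (PlRing K d (d + r) ⧸ affIdeal K τ) := Eχ.injective.isDomain Eχ.toRingHom
  haveI := normal_chi (K := K) τ hd
  haveI : IsIntegrallyClosed (PlRing K d (d + r) ⧸ affIdeal K τ) := IsIntegrallyClosed.of_equiv Eχ.symm
  obtain ⟨hcm, hdim⟩ := section_free (K := K) hd τ
  haveI := hcm
  refine ⟨E.symm.injective.isDomain E.symm.toRingHom, IsIntegrallyClosed.of_equiv E,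
    Groth.Agent.Segre.CM.cm_congr E, ?_⟩
  rw [← ringKrullDim_eq_of_ringEquiv E, hdim]

end LeadGrass
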