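import Groth.Agent.Lead.Grass.Indep

/-! The shape of the straightening relations. -/

noncomputable section

open MvPolynomial W4bk4grassmannian Finset

universe u v

namespace LeadGrass

variable {K : Type u} [Field K] {d n : ℕ}

/-- Convex weight. -/
def qw (θ : Idx d n) : ℕ := ∑ x, cnt θ x ^ 2

/-- Position weight. -/
def pw (θ : Idx d n) : ℕ := ∑ t : Fin d, t.val * (θ.1 t).val

lemma qw_pw (θ : Idx d n) : qw θ + 2 * pw θ + wt θ = ∑ t : Fin d, (2 * t.val + 1) * n := by
  have h1 : ∀ x, cnt θ x ^ 2 = ∑ t ∈ univ.filter (fun t => θ.1 t ≤ x), (2 * t.val + 1) := by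
    intro x
    have hmap : (univ.filter fun t => θ.1 t ≤ x).map Fin.valEmbedding = range (cnt θ x) := by
      ext y
      simp only [mem_map, mem_filter, mem_univ, true_and, mem_range, Fin.valEmbedding_apply]
      constructor
      · rintro ⟨t, ht, rfl⟩; exact (lt_cnt_iff θ x t).2 ht
      · intro hy
        have hd : cnt θ x ≤ d := (card_filter_le _ _).trans (by simp)
        exact ⟨⟨y, by omega⟩, (lt_cnt_iff θ x _).1 hy, rfl⟩
    have h2 : ∑ t ∈ univ.filter (fun t => θ.1 t ≤ x), (2 * t.val + 1) = ∑ y ∈ range (cnt θ x), (2 * y + 1) := by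
      rw [← hmap, sum_map]; rfl
    rw [h2]
    generalize cnt θ x = c
    induction c with
    | zero => simp
    | succ c ih => rw [sum_range_succ, ← ih]; ring
  rw [qw, pw, wt, sum_congr rfl fun x _ => h1 x]
  simp only [sum_filter]
  rw [sum_comm, mul_sum, ← sum_add_distrib, ← sum_add_distrib]
  refine sum_congr rfl fun t _ => ?_
  rw [← sum_filter, sum_const, show (univ.filter fun x => θ.1 t ≤ x) = Ici (θ.1 t) by ext; simp, Fin.card_Ici,
    smul_eq_mul]
  have := (θ.1 t).isLt
  obtain ⟨e, he⟩ := Nat.exists_eq_add_of_le this.le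
  rw [show n - (θ.1 t).val = e by omega]
  calc e * (2 * t.val + 1) + 2 * (t.val * (θ.1 t).val) + (θ.1 t).val = (2 * t.val + 1) * ((θ.1 t).val + e) := by ring
    _ = _ := by rw [← he]

lemma qw_pair {i j a b : Idx d n} (h : SameContent a b i j) (hi : i ≤ a) (hj : j ≤ a) :
    qw i + qw j ≤ qw a + qw b ∧
      (qw i + qw j = qw a + qw b → a = W4bk4grassmannian.sup i j ∧ b = W4bk4grassmannian.inf i j) := by
  have hx : ∀ x, cnt i x ^ 2 + cnt j x ^ 2 ≤ cnt a x ^ 2 + cnt b x ^ 2 ∧
      (cnt i x ^ 2 + cnt j x ^ 2 = cnt a x ^ 2 + cnt b x ^ 2 →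
        cnt a x = min (cnt i x) (cnt j x) ∧ cnt b x = max (cnt i x) (cnt j x)) := by
    intro x
    have h0 := h x
    have h1 := cnt_anti hi x
    have h2 := cnt_anti hj x
    generalize cnt i x = P, cnt j x = Q, cnt a x = A, cnt b x = B at *
    obtain ⟨u, rfl⟩ := Nat.exists_eq_add_of_le h1
    obtain ⟨v, rfl⟩ := Nat.exists_eq_add_of_le h2
    have hB : B = A + u + v := by omega
    subst hB
    refine ⟨by nlinarith, fun e => ?_⟩
    have huv : u * v = 0 := by nlinarith
    rcases mul_eq_zero.1 huv with rfl | rfl <;> omega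
  have hsum : qw i + qw j ≤ qw a + qw b := by
    simp only [qw, ← sum_add_distrib]
    exact sum_le_sum fun x _ => (hx x).1
  refine ⟨hsum, fun e => ?_⟩
  simp only [qw, ← sum_add_distrib] at e
  have he := (sum_eq_sum_iff_of_le fun x _ => (hx x).1).1 e
  exact ⟨eq_of_cnt fun x => by rw [cnt_sup, ((hx x).2 (he x (mem_univ x))).1],
    eq_of_cnt fun x => by rw [cnt_inf, ((hx x).2 (he x (mem_univ x))).2]⟩

variable (K)

/-- `X α X β`. -/
def pairMon (p : Idx d n × Idx d n) : PlRing K d n := X p.1 * X p.2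

/-- Existence of expansions. -/
lemma exists_expansion (i j : Idx d n) :
    ∃ l : (Idx d n × Idx d n) →₀ K, (∀ p ∈ l.support, p.2 ≤ p.1 ∧ i ≤ p.1 ∧ SameContent p.1 p.2 i j) ∧
      X i * X j - (l.sum fun p a => a • pairMon K p) ∈ plIdealTop (d := d) (n := n) K := by
  classical
  suffices H : ∀ i : Idx d n, ∀ j, ∃ l : (Idx d n × Idx d n) →₀ K, (∀ p ∈ l.support, p.2 ≤ p.1 ∧ i ≤ p.1 ∧ SameContent p.1 p.2 i j) ∧
      X i * X j - (l.sum fun p a => a • pairMon K p) ∈ plIdealTop (d := d) (n := n) K from H i j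
  intro i
  induction i using (Finite.to_wellFoundedGT (α := Idx d n)).wf.induction with
  | _ i ih =>
    intro j
    by_cases hji : j ≤ i
    · refine ⟨Finsupp.single (i, j) 1, fun p hp => ?_, ?_⟩
      · obtain rfl := Finset.mem_singleton.1 (Finsupp.support_single_subset hp)
        exact ⟨hji, le_rfl, fun x => rfl⟩
      · rw [Finsupp.sum_single_index (h := fun p a => a • pairMon K p) (zero_smul _ _), one_smul, pairMon, sub_self]; exact zero_mem _
    by_cases hij : i ≤ j
    · refine ⟨Finsupp.single (j, i) 1, fun p hp => ?_, ?_⟩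
      · obtain rfl := Finset.mem_singleton.1 (Finsupp.support_single_subset hp)
        exact ⟨hij, hij, fun x => add_comm _ _⟩
      · rw [Finsupp.sum_single_index (h := fun p a => a • pairMon K p) (zero_smul _ _), one_smul, pairMon, mul_comm, sub_self]; exact zero_mem _
    obtain ⟨r, hr⟩ := exists_pivot hji
    obtain ⟨T, e, a, b, hrel, hT⟩ := step (K := K) hr
    choose! l hl hl' using fun A (hA : A ∈ T) => ih (a A) (hT A hA).1 (b A)
    refine ⟨-∑ A ∈ T, e A • l A, fun p hp => ?_, ?_⟩
    · rw [Finsupp.support_neg] at hp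
      obtain ⟨A, hA, hpA⟩ := Finset.mem_biUnion.1 (Finsupp.support_finset_sum hp)
      obtain ⟨h1, h2, h3⟩ := hl A hA p (Finsupp.support_smul hpA)
      exact ⟨h1, (hT A hA).1.le.trans h2, fun x => (h3 x).trans ((hT A hA).2 x)⟩
    · rw [Finsupp.sum_neg_index (h := fun p a => a • pairMon K p) (fun p => zero_smul _ _)]
      simp only [neg_smul]
      rw [Finsupp.sum_neg, sub_neg_eq_add, ← Finsupp.sum_finsetSum_index (h := fun p a => a • pairMon K p) (fun p => zero_smul _ _) (fun p x y => add_smul _ _ _)]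
      have h1 : (shuffleRel K i j r) - ∑ A ∈ T, C (e A) * (X (a A) * X (b A) - (l A).sum fun p c => c • pairMon K p) ∈
          plIdealTop (d := d) (n := n) K :=
        Ideal.sub_mem _ (Ideal.subset_span ⟨i, j, r, hr, rfl⟩) (Ideal.sum_mem _ fun A hA => Ideal.mul_mem_left _ _ (hl' A hA))
      convert h1 using 1
      rw [← hrel]
      simp only [mul_sub, sum_sub_distrib]
      rw [show ∑ A ∈ T, (e A • l A).sum (fun p c => c • pairMon K p) = ∑ A ∈ T, C (e A) * (l A).sum (fun p c => c • pairMon K p) from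
        sum_congr rfl fun A _ => by
          rw [Finsupp.sum_smul_index (h := fun p c => c • pairMon K p) (fun p => zero_smul _ _), C_mul', Finsupp.smul_sum]
          exact Finset.sum_congr rfl fun p _ => by simp only [mul_smul]]
      ring

lemma pair_unique (hd : 0 < d) (h : d ≤ n) {l : (Idx d n × Idx d n) →₀ K} (hl : ∀ p ∈ l.support, p.2 ≤ p.1)
    (hI : (l.sum fun p a => a • pairMon K p) ∈ plIdealTop (d := d) (n := n) K) : l = 0 := by
  classical
  let α := Σ m : ℕ, {c : Fin m → Idx d n // Antitone c ∧ (∀ _k : Fin m, True) ∧ ∃ φ, φ = top h ∧ ∀ k, c k ≤ φ}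
  let g : {p : Idx d n × Idx d n // p.2 ≤ p.1} → α := fun p =>
    ⟨2, ![p.1.1, p.1.2], (by
      intro a b hab
      fin_cases a <;> fin_cases b <;> simp_all [p.2]), fun _ => trivial, top h, rfl, fun k => le_top h _⟩
  have hg : Function.Injective g := by
    rintro ⟨⟨a, b⟩, hp⟩ ⟨⟨a', b'⟩, hp'⟩ e
    replace e := eq_of_heq (Sigma.mk.inj e).2
    have e0 := congrFun (congrArg Subtype.val e) 0
    have e1 := congrFun (congrArg Subtype.val e) 1
    simp only [Matrix.cons_val_zero, Matrix.cons_val_one] at e0 e1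
    subst e0 e1; rfl
  have h0 := (stdFam K hd).indep_union (· = top h) (fun _ _ => trivial) ⟨_, rfl⟩ (fun _ => True) (fun _ _ => trivial)
    ((l.subtypeDomain fun p => p.2 ≤ p.1).mapDomain g) (by
      rintro φ rfl
      rw [Finsupp.sum_mapDomain_index]
      rotate_left
      · intro b; exact zero_smul _ _
      · intro b _ _; exact add_smul _ _ _
      have h1 : (stdFam K hd).ρ (top h) (l.sum fun p a => a • pairMon K p) = 0 := plTop_le_ker K _ hI
      rw [← h1]
      congr 1
      refine Eq.trans ?_ (Finsupp.sum_subtypeDomain_index (p := fun p : Idx d n × Idx d n => p.2 ≤ p.1) (h := fun p a => a • pairMon K p) hl)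
      exact Finsupp.sum_congr fun p _ => by simp [g, chainMon, pairMon, Fin.prod_univ_two])
  ext p
  by_cases hp : p ∈ l.support
  · have := congrArg (fun f => f (g ⟨p, hl p hp⟩)) h0
    simpa [Finsupp.mapDomain_apply hg] using this
  · simpa using hp

/-- The degree-weighted point. -/
def wHom : MatRing K d n →ₐ[K] Polynomial K := aeval fun q : Fin n × Fin d => Polynomial.X ^ (q.2.val * q.1.val)

lemma wHom_top (θ : Idx d n) :
    (wHom K (minor K d n θ.1)).coeff (pw θ) = 1 ∧ (wHom K (minor K d n θ.1)).natDegree ≤ pw θ := by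
  classical
  have hdet : wHom K (minor K d n θ.1) =
      ∑ σ : Equiv.Perm (Fin d), Equiv.Perm.sign σ • (Polynomial.X : Polynomial K) ^ (∑ t : Fin d, t.val * (θ.1 (σ t)).val) := by
    rw [minor, AlgHom.map_det, Matrix.det_apply]
    refine sum_congr rfl fun σ _ => ?_
    rw [← prod_pow_eq_pow_sum]
    congr 1
    exact prod_congr rfl fun t _ => by simp [wHom]
  have hlt : ∀ σ : Equiv.Perm (Fin d), σ ≠ 1 → ∑ t : Fin d, t.val * (θ.1 (σ t)).val < pw θ := by
    intro σ hσ
    have hm : Monovary (fun t : Fin d => (t.val : ℤ)) (fun t => ((θ.1 t).val : ℤ)) := fun a b hab => by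
      have hab' : (θ.1 a).val < (θ.1 b).val := by simp only [Nat.cast_lt] at hab; exact hab
      have : a < b := θ.2.lt_iff_lt.1 (Fin.lt_def.2 hab')
      show (a.val : ℤ) ≤ b.val
      exact_mod_cast this.le
    have := (hm.sum_mul_comp_perm_lt_sum_mul_iff (σ := σ)).2 fun hmv => hσ ?_
    · rw [pw]; exact_mod_cast this
    · refine Equiv.ext fun t => ?_
      have hmono : StrictMono σ := by
        intro a b hab
        rcases lt_trichotomy (σ a) (σ b) with h | h | h
        · exact h
        · exact absurd (σ.injective h) hab.ne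
        · have := hmv (show ((θ.1 (σ b)).val : ℤ) < (θ.1 (σ a)).val by exact_mod_cast θ.2 h)
          simp only [Nat.cast_le] at this
          exact absurd (Fin.lt_def.1 hab) this.not_gt
      exact congrFun ((hmono.range_inj strictMono_id).1 (by simp [σ.surjective.range_eq])) t
  rw [hdet]
  refine ⟨?_, ?_⟩
  · rw [Polynomial.finsetSum_coeff, sum_eq_single (1 : Equiv.Perm (Fin d))]
    · simp [pw]
    · intro σ _ hσ
      simp [Units.smul_def, Polynomial.coeff_X_pow, (hlt σ hσ).ne']
    · simp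
  · refine Polynomial.natDegree_sum_le_of_forall_le _ _ fun σ _ => ?_
    refine le_trans (Polynomial.natDegree_smul_le _ _) ?_
    rw [Polynomial.natDegree_X_pow]
    by_cases hσ : σ = 1
    · subst hσ; simp [pw]
    · exact (hlt σ hσ).le

lemma wHom_pair (a b : Idx d n) :
    ((wHom K).comp (pluckerMap K d n) (pairMon K (a, b))).coeff (pw a + pw b) = 1 ∧
      ((wHom K).comp (pluckerMap K d n) (pairMon K (a, b))).natDegree ≤ pw a + pw b := by
  obtain ⟨ha, ha'⟩ := wHom_top K a
  obtain ⟨hb, hb'⟩ := wHom_top K b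
  have e : (wHom K).comp (pluckerMap K d n) (pairMon K (a, b)) = wHom K (minor K d n a.1) * wHom K (minor K d n b.1) := by
    simp [pairMon, pluckerMap]
  rw [e]
  refine ⟨?_, le_trans Polynomial.natDegree_mul_le (Nat.add_le_add ha' hb')⟩
  rw [Polynomial.coeff_mul_add_eq_of_natDegree_le ha' hb', ha, hb, mul_one]

/-- The straightening relation of a pair. -/
theorem straighten (hd : 0 < d) (h : d ≤ n) (i j : Idx d n) :
    ∃ l : (Idx d n × Idx d n) →₀ K,
      l (W4bk4grassmannian.sup i j, W4bk4grassmannian.inf i j) = 1 ∧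
      (∀ p ∈ l.support, p.2 ≤ p.1 ∧ W4bk4grassmannian.sup i j ≤ p.1 ∧ p.2 ≤ W4bk4grassmannian.inf i j ∧
        SameContent p.1 p.2 i j) ∧
      X i * X j - (l.sum fun p a => a • pairMon K p) ∈ plIdealTop (d := d) (n := n) K := by
  classical
  obtain ⟨l, hl, hlI⟩ := exists_expansion K i j
  obtain ⟨l', hl', hlI'⟩ := exists_expansion K j i
  have heq : l = l' := by
    rw [← sub_eq_zero]
    refine pair_unique K hd h (fun p hp => ?_) ?_
    · rcases Finset.mem_union.1 (Finsupp.support_sub hp) with hp | hp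
      · exact (hl p hp).1
      · exact (hl' p hp).1
    · rw [Finsupp.sum_sub_index (fun p x y => sub_smul _ _ _)]
      have := Ideal.sub_mem _ hlI' hlI
      rwa [mul_comm (X j), sub_sub_sub_cancel_left] at this
  have hsupp : ∀ p ∈ l.support, p.2 ≤ p.1 ∧ W4bk4grassmannian.sup i j ≤ p.1 ∧ p.2 ≤ W4bk4grassmannian.inf i j ∧
      SameContent p.1 p.2 i j := by
    intro p hp
    obtain ⟨h1, h2, h3⟩ := hl p hp
    have h4 := sup_le' h2 (hl' p (heq ▸ hp)).2.1
    refine ⟨h1, h4, le_iff_cnt.2 fun x => ?_, h3⟩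
    rw [cnt_inf]
    have := h3 x
    have := cnt_anti ((le_sup_left' i j).trans h4) x
    have := cnt_anti ((le_sup_right' i j).trans h4) x
    omega
  refine ⟨l, ?_, hsupp, hlI⟩
  set p₀ := (W4bk4grassmannian.sup i j, W4bk4grassmannian.inf i j)
  set N := pw i + pw j
  have hψ : ((wHom K).comp (pluckerMap K d n)) (X i * X j) = ((wHom K).comp (pluckerMap K d n)) (l.sum fun p a => a • pairMon K p) := by
    rw [← sub_eq_zero, ← map_sub]
    have h1 : pluckerMap K d n (X i * X j - l.sum fun p a => a • pairMon K p) = 0 := by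
      rw [pluckerMap_eq]; exact plTop_le_ker K _ hlI
    rw [AlgHom.comp_apply, h1, map_zero]
  have hsame : SameContent p₀.1 p₀.2 i j := fun x => by
    show cnt (W4bk4grassmannian.sup i j) x + cnt (W4bk4grassmannian.inf i j) x = _
    rw [cnt_sup, cnt_inf]; omega
  have hkey : ∀ p, SameContent p.1 p.2 i j → W4bk4grassmannian.sup i j ≤ p.1 → pw p.1 + pw p.2 ≤ N ∧ (pw p.1 + pw p.2 = N → p = p₀) := by
    intro p hc hs
    obtain ⟨h1, h2⟩ := qw_pair hc ((le_sup_left' i j).trans hs) ((le_sup_right' i j).trans hs)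
    have := qw_pw i; have := qw_pw j; have := qw_pw p.1; have := qw_pw p.2
    have := hc.wt
    refine ⟨by omega, fun e => ?_⟩
    obtain ⟨e1, e2⟩ := h2 (by omega)
    exact Prod.ext e1 e2
  have hp0 : pw p₀.1 + pw p₀.2 = N := by
    have : qw p₀.1 + qw p₀.2 = qw i + qw j := by
      simp only [qw, ← sum_add_distrib]
      refine sum_congr rfl fun x _ => ?_
      show cnt (W4bk4grassmannian.sup i j) x ^ 2 + cnt (W4bk4grassmannian.inf i j) x ^ 2 = _
      rw [cnt_sup, cnt_inf]
      rcases le_total (cnt i x) (cnt j x) with hh | hh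
      · rw [min_eq_left hh, max_eq_right hh]
      · rw [min_eq_right hh, max_eq_left hh, add_comm]
    have := qw_pw i; have := qw_pw j; have := qw_pw p₀.1; have := qw_pw p₀.2
    have := hsame.wt
    omega
  have h1 := congrArg (fun f => Polynomial.coeff f N) hψ
  rw [show X i * X j = pairMon K (i, j) from rfl] at h1
  beta_reduce at h1
  rw [(wHom_pair K i j).1] at h1
  rw [map_finsuppSum, Finsupp.sum, Polynomial.finsetSum_coeff, Finset.sum_eq_single p₀] at h1
  · rw [map_smul, Polynomial.coeff_smul, ← hp0, (wHom_pair K p₀.1 p₀.2).1, smul_eq_mul, mul_one] at h1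
    exact h1.symm
  · intro p hp hne
    obtain ⟨-, hs, -, hc⟩ := hsupp p hp
    obtain ⟨hle, heq'⟩ := hkey p hc hs
    rw [map_smul, Polynomial.coeff_smul, Polynomial.coeff_eq_zero_of_natDegree_lt, smul_zero]
    exact lt_of_le_of_lt (wHom_pair K p.1 p.2).2 (lt_of_le_of_ne hle fun e => hne (heq' e))
  · intro hp
    rw [Finsupp.notMem_support_iff.1 hp]; simp

end LeadGrass
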