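import Groth.Agent.Lead.Grass.Cell

/-! First fundamental theorem for `SL_d`. -/

noncomputable section

open MvPolynomial W4bk4grassmannian Finset

universe u

namespace LeadGrass

variable {K : Type u} [Field K] {d n : ℕ}

lemma adjoin_minors : Algebra.adjoin K (Set.range fun θ : Idx d n => minor K d n θ.1) = (pluckerMap K d n).range :=
  Algebra.adjoin_range_eq_range_aeval K _

lemma saturate_top (hd : 0 < d) (h : d ≤ n) {s : MatRing K d n}
    (hs : minor K d n (top h).1 * s ∈ (pluckerMap K d n).range) (hlt : ∃ φ, φ < top h) :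
    s ∈ (pluckerMap K d n).range := by
  classical
  obtain ⟨G, hG⟩ := hs
  have hG' : pluckerMap K d n G = minor K d n (top h).1 * s := hG
  have hmem : G ∈ plIdeal K (top h) ⊔ Ideal.span {X (top h)} := by
    refine mem_divisor_inter hd _ hlt fun φ hφ => ?_
    let z : MatRing K d n →ₐ[K] MatRing K d n := aeval fun p => if p.1 ≤ φ.1 p.2 then X p else 0
    have hz : ∀ f, z (pluckerMap K d n f) = rho K φ f := by
      intro f
      rw [pluckerMap_eq, pl_comp, rho]
      congr 1
      refine congrArg _ ?_
      ext i j : 1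
      simp only [Matrix.map_apply, Matrix.of_apply, mat, z, aeval_X]
    have : pluckerMap K d n (X (top h)) = minor K d n (top h).1 := by simp [pluckerMap]
    rw [← hz, hG', ← this, map_mul, hz, rho_vanish K φ _ hφ.1.not_ge, zero_mul]
  obtain ⟨a, ha, b, hb, rfl⟩ := Submodule.mem_sup.1 hmem
  obtain ⟨c, rfl⟩ := Ideal.mem_span_singleton.1 hb
  refine ⟨c, ?_⟩
  have ha0 : pluckerMap K d n a = 0 := by
    rw [plIdeal_top] at ha
    rw [pluckerMap_eq]
    exact plTop_le_ker K _ ha
  have hne : minor K d n (top h).1 ≠ 0 := by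
    intro h0
    apply rho_ne K (top h)
    let z : MatRing K d n →ₐ[K] MatRing K d n := aeval fun p => if p.1 ≤ (top h).1 p.2 then X p else 0
    have : z (minor K d n (top h).1) = rho K (top h) (X (top h)) := by
      rw [rho, pl_X, minor, AlgHom.map_det]
      congr 1
      ext i j : 1
      simp [mat, z]
    rw [← this, h0, map_zero]
  apply mul_left_cancel₀ hne
  rw [← hG']
  show minor K d n (top h).1 * pluckerMap K d n c = _
  rw [map_add, map_mul, ha0, zero_add]
  simp [pluckerMap]

lemma minor_invariant (θ : Fin d → Fin n) (g : Matrix.SpecialLinearGroup (Fin d) K) :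
    rightTranslate K d n g (minor K d n θ) = minor K d n θ := by
  rw [minor, AlgHom.map_det]
  have : (rightTranslate K d n g).mapMatrix (Matrix.of fun s t : Fin d => (X (θ s, t) : MatRing K d n)) =
      (Matrix.of fun s t : Fin d => (X (θ s, t) : MatRing K d n)) * (g : Matrix (Fin d) (Fin d) K).map C := by
    ext s t : 1
    simp [rightTranslate, Matrix.mul_apply]
  rw [this, Matrix.det_mul]
  have h1 : ((g : Matrix (Fin d) (Fin d) K).map C : Matrix (Fin d) (Fin d) (MatRing K d n)).det = 1 := by
    rw [← RingHom.mapMatrix_apply, ← RingHom.map_det, g.2, map_one]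
  rw [h1, mul_one]

/-- First fundamental theorem. -/
theorem fft_SL [Infinite K] (hd : 0 < d) (hdn : d < n) (f : MatRing K d n) :
    (∀ g : Matrix.SpecialLinearGroup (Fin d) K, rightTranslate K d n g f = f) ↔
      f ∈ Algebra.adjoin K (Set.range fun θ : Idx d n => minor K d n θ.1) := by
  classical
  refine ⟨fun hinv => ?_, fun hf g => ?_⟩
  swap
  · have : Algebra.adjoin K (Set.range fun θ : Idx d n => minor K d n θ.1) ≤
        AlgHom.equalizer (rightTranslate K d n g) (AlgHom.id K (MatRing K d n)) := by
      refine Algebra.adjoin_le ?_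
      rintro _ ⟨θ, rfl⟩
      exact minor_invariant θ.1 g
    exact this hf
  rw [adjoin_minors]
  set τ := top hdn.le
  have hlt : ∃ φ, φ < τ := ⟨bot hdn.le, lt_of_le_of_ne (bot_le _ _) fun e => by
    have := congrArg (fun φ : Idx d n => (φ.1 ⟨0, hd⟩).val) e
    simp [τ, bot, top] at this
    omega⟩
  set B' : Matrix (Fin n) (Fin d) (Cell K τ) := Matrix.of fun i j => cellMat K τ i j * if j = ⟨0, hd⟩ then X none else 1
  let ψ : MatRing K d n →ₐ[K] Cell K τ := aeval fun p => B' p.1 p.2
  obtain ⟨N, G, hG⟩ := exists_pow_mem τ (ψ f)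
  replace hG : pl (K := K) B' G = X none ^ N * ψ f := by rw [← hG]; exact (congrArg (fun φ : PlRing K d n →ₐ[K] Cell K τ => φ G) (cell_eq_pl τ hd)).symm
  set D := minor K d n τ.1
  have hkey : (pluckerMap K d n G - D ^ N * f) * D = 0 := by
    refine MvPolynomial.funext fun v => ?_
    set A : Matrix (Fin n) (Fin d) K := Matrix.of fun i j => v (i, j) with hA
    rw [map_mul, map_zero]
    have hD : eval v D = (A.submatrix τ.1 id).det := by
      rw [show D = minor K d n τ.1 from rfl, minor, RingHom.map_det]
      congr 1
      ext a b; simp [A]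
    by_cases hg : (A.submatrix τ.1 id).det = 0
    · rw [hD, hg, mul_zero]
    rw [hD, map_sub, map_mul, map_pow, hD, mul_eq_zero]
    left
    set g := A.submatrix τ.1 id with hgdef
    set B := A * g⁻¹ with hB
    have hpiv : ∀ a b, B (τ.1 a) b = (1 : Matrix (Fin d) (Fin d) K) a b := fun a b => by
      have : B (τ.1 a) b = (g * g⁻¹) a b := by simp [hB, hgdef, Matrix.mul_apply]
      rw [this, Matrix.mul_nonsing_inv g (IsUnit.mk0 _ hg)]
    let v' : Option (CellIdx τ) → K := fun o => o.elim g.det fun q => B q.1.1 q.1.2
    let diagy : Matrix (Fin d) (Fin d) K := Matrix.diagonal fun j => if j = ⟨0, hd⟩ then g.det else 1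
    have hcell : (cellMat K τ).map (eval v') = B := by
      ext i j
      simp only [Matrix.map_apply, cellMat, Matrix.of_apply]
      split_ifs with h1 h2
      · rw [map_one, h1, hpiv, Matrix.one_apply_eq]
      · simp [v']
      · rw [map_zero]
        by_cases hr : ∃ a, i = τ.1 a
        · obtain ⟨a, rfl⟩ := hr
          rw [hpiv, Matrix.one_apply_ne (fun e => h1 (by rw [e]))]
        · push_neg at hr
          exfalso
          apply h2
          refine ⟨?_, hr⟩
          by_contra hc
          have hi := i.isLt
          have hc' : (τ.1 j).val ≤ i.val := not_lt.1 hc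
          have hj := j.isLt
          simp [τ, top] at hc'
          exact hr ⟨i.val - (n - d), by omega⟩ (Fin.ext (by simp [τ, top]; omega))
    have hB' : ∀ i j, eval v' (B' i j) = (B * diagy) i j := by
      intro i j
      simp only [B', diagy, Matrix.of_apply, Matrix.mul_diagonal, map_mul]
      rw [← hcell, Matrix.map_apply]
      split_ifs <;> simp [v']
    have hdet : diagy.det = g.det := by simp [diagy, Matrix.det_diagonal, Finset.prod_ite_eq']
    have hd0 : diagy.det ≠ 0 := by rw [hdet]; exact hg
    have hh : (diagy⁻¹ * g).det = 1 := by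
      rw [Matrix.det_mul, Matrix.det_nonsing_inv, Ring.inverse_eq_inv', hdet, inv_mul_cancel₀ hg]
    have hAeq : B * diagy * (diagy⁻¹ * g) = A := by
      rw [Matrix.mul_assoc B, ← Matrix.mul_assoc diagy, Matrix.mul_nonsing_inv _ (IsUnit.mk0 _ hd0), Matrix.one_mul, hB,
        Matrix.mul_assoc, Matrix.nonsing_inv_mul g (IsUnit.mk0 _ hg), Matrix.mul_one]
    have hf' : eval v f = eval (fun p : Fin n × Fin d => (B * diagy) p.1 p.2) f := by
      have := congrArg (eval fun p : Fin n × Fin d => (B * diagy) p.1 p.2) (hinv ⟨_, hh⟩)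
      rw [← this]
      have e : (eval fun p : Fin n × Fin d => (B * diagy) p.1 p.2).comp (rightTranslate K d n ⟨_, hh⟩).toRingHom = eval v := by
        refine MvPolynomial.ringHom_ext (fun r => by simp [rightTranslate]) fun p => ?_
        simp only [RingHom.comp_apply, AlgHom.toRingHom_eq_coe, RingHom.coe_coe, rightTranslate, aeval_X, map_sum, map_mul, eval_X, eval_C]
        have := congrFun (congrFun hAeq p.1) p.2
        rw [Matrix.mul_apply] at this
        rw [this]
        rfl
      exact (RingHom.congr_fun e f).symm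
    have h1 := congrArg (eval v') hG
    rw [map_mul, map_pow, eval_X, show v' none = g.det from rfl] at h1
    have h2 : eval v' (ψ f) = eval (fun p : Fin n × Fin d => (B * diagy) p.1 p.2) f := by
      have e : (eval v').comp ψ.toRingHom = eval (fun p : Fin n × Fin d => (B * diagy) p.1 p.2) :=
        MvPolynomial.ringHom_ext (fun r => by simp [ψ]) fun p => by simp [ψ, hB']
      exact RingHom.congr_fun e f
    have h3 : eval v' (pl (K := K) B' G) = eval v (pluckerMap K d n G) := by
      rw [pluckerMap_eq]
      show (aeval v') (pl (K := K) B' G) = (aeval v) (pl (K := K) _ G)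
      rw [pl_comp, pl_comp]
      refine congrArg (fun φ : PlRing K d n →ₐ[K] K => φ G) (MvPolynomial.algHom_ext fun θ => ?_)
      rw [pl_X, pl_X]
      have hmapA : (Matrix.of fun i j => (X (i, j) : MatRing K d n)).map (aeval v) = A := by ext; simp [A]
      have hmapB : B'.map (aeval v') = B * diagy := by
        ext i j
        rw [Matrix.map_apply, aeval_eq_eval]
        exact hB' i j
      rw [hmapA, hmapB]
      conv_rhs => rw [← hAeq]
      rw [Matrix.submatrix_mul (B * diagy) (diagy⁻¹ * g) θ.1 id id Function.bijective_id, Matrix.submatrix_id_id, Matrix.det_mul, hh, mul_one]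
    rw [h3, h2, ← hf'] at h1
    rw [h1, sub_self]
  have hDne : D ≠ 0 := by
    intro h0
    have := congrArg (eval fun p : Fin n × Fin d => if p.1 = τ.1 p.2 then (1 : K) else 0) h0
    rw [map_zero, show D = minor K d n τ.1 from rfl, minor, RingHom.map_det] at this
    apply one_ne_zero (α := K)
    rw [← this]
    convert (Matrix.det_one (n := Fin d) (R := K)).symm using 2
    ext a b
    simp [Matrix.one_apply, τ.2.injective.eq_iff]
  have hN : D ^ N * f ∈ (pluckerMap K d n).range :=
    ⟨G, sub_eq_zero.1 ((mul_eq_zero.1 hkey).resolve_right hDne)⟩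
  clear hG hkey
  induction N with
  | zero => rw [pow_zero, one_mul] at hN; exact hN
  | succ N ih =>
    refine ih (saturate_top hd hdn.le ?_ hlt)
    rw [← mul_assoc, ← pow_succ']; exact hN

end LeadGrass
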