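import Groth.Agent.Lead.Grass.Minors

/-! First fundamental theorem for `GL_n`. -/

noncomputable section

open MvPolynomial W4bk4grassmannian Finset

universe u

namespace LeadGrass

variable {K : Type u} [Field K]

lemma pairing_kills {m n q : ℕ} [Infinite K] {P : MvPolynomial (Fin m × Fin q) K}
    (h : P ∈ CAlgX.minorIdeal (genMatrix K m q) (n + 1)) : pairingMap K n m q P = 0 := by
  rw [← sft] at h
  exact h

lemma plIdeal_phi {d r e : ℕ} (hed : e ≤ d) (her : e ≤ r) {a : PlRing K d (d + r)}
    (ha : a ∈ plIdeal K (cmax e hed her)) : phi K d r a ∈ CAlgX.minorIdeal (genMatrix K r d) (e + 1) := by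
  suffices plIdeal K (cmax e hed her) ≤ (CAlgX.minorIdeal (genMatrix K r d) (e + 1)).comap (phi K d r).toRingHom from this ha
  refine Ideal.span_le.2 ?_
  rintro _ (⟨i, j, s, hs, rfl⟩ | ⟨θ, hθ, rfl⟩) <;> rw [SetLike.mem_coe, Ideal.mem_comap]
  · show phi K d r (shuffleRel K i j s) ∈ CAlgX.minorIdeal (genMatrix K r d) (e + 1)
    rw [phi, pl_shuffleRel]
    exact zero_mem _
  · show phi K d r (X θ) ∈ CAlgX.minorIdeal (genMatrix K r d) (e + 1)
    rw [le_cmax_iff] at hθ
    rw [← span_phi]
    exact Ideal.subset_span ⟨θ, by omega, rfl⟩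

/-- A combination of standard monomials, homogenised, vanishes on a Schubert variety. -/
lemma homog_mem {d r e : ℕ} (φ : Idx d (d + r)) (l : Core d r e →₀ K) (D : ℕ) (hD : ∀ c ∈ l.support, c.1 ≤ D)
    (h : ∀ Z : Matrix (Fin r) (Fin d) K, (∀ θ, ¬ θ ≤ φ → pl (K := K) (bigMat Z) (X θ) = 0) →
      pl (K := K) (bigMat Z) (∑ c ∈ l.support, l c • chainMon K c.2.1) = 0) :
    (∑ c ∈ l.support, l c • (chainMon K c.2.1 * X (cbot d r) ^ (D + 1 - c.1))) ∈ schubertVanishing K d (d + r) φ := by
  classical
  simp only [schubertVanishing, Submodule.mem_iInf, RingHom.mem_ker]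
  intro A hA
  show evalMinors K d (d + r) A _ = 0
  rw [evalMinors_eq, map_sum]
  by_cases hdet : (A.submatrix (cbot d r).1 id).det = 0
  · refine sum_eq_zero fun c hc => ?_
    have := hD c hc
    rw [map_smul, map_mul, map_pow, pl_X A (cbot d r), hdet, zero_pow (by omega), mul_zero, smul_zero]
  · set g := A.submatrix (cbot d r).1 id with hg
    let Z : Matrix (Fin r) (Fin d) K := fun i k => (A * g⁻¹) ⟨d + i.val, by omega⟩ k
    have hAZ : A = bigMat Z * g := by
      have h1 : A * g⁻¹ = bigMat Z := by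
        ext i k
        simp only [bigMat, Matrix.of_apply]
        split_ifs with h1 h2
        · have : (A * g⁻¹) i k = (g * g⁻¹) ⟨i.val, h1⟩ k := by
            simp only [Matrix.mul_apply, hg, Matrix.submatrix_apply, id]
            rfl
          rw [this, Matrix.mul_nonsing_inv g (IsUnit.mk0 _ hdet), Matrix.one_apply, if_pos (Fin.ext h2)]
        · have : (A * g⁻¹) i k = (g * g⁻¹) ⟨i.val, h1⟩ k := by
            simp only [Matrix.mul_apply, hg, Matrix.submatrix_apply, id]
            rfl
          rw [this, Matrix.mul_nonsing_inv g (IsUnit.mk0 _ hdet), Matrix.one_apply, if_neg (fun e => h2 (congrArg Fin.val e))]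
        · show _ = (A * g⁻¹) _ k
          exact congrArg (fun x => (A * g⁻¹) x k) (Fin.ext (Nat.add_sub_of_le (not_lt.1 h1)).symm)
      rw [← h1, Matrix.mul_assoc, Matrix.nonsing_inv_mul g (IsUnit.mk0 _ hdet), Matrix.mul_one]
    have hZ : ∀ θ, ¬ θ ≤ φ → pl (K := K) (bigMat Z) (X θ) = 0 := by
      intro θ hθ
      have h0 := hA θ hθ
      rw [← pl_X (K := K) A θ, pl_scale A Z g hAZ] at h0
      exact (mul_eq_zero.1 h0).resolve_left hdet
    have key : ∀ c ∈ l.support, pl (K := K) A (l c • (chainMon K c.2.1 * X (cbot d r) ^ (D + 1 - c.1))) =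
        g.det ^ (D + 1) * pl (K := K) (bigMat Z) (l c • chainMon K c.2.1) := by
      intro c hc
      rw [map_smul, map_smul, mul_smul_comm, map_mul, map_pow]
      congr 1
      simp only [chainMon, map_prod, pl_scale A Z g hAZ, prod_mul_distrib, prod_const, card_univ, Fintype.card_fin,
        pl_bot, mul_one]
      have := hD c hc
      conv_rhs => rw [show D + 1 = c.1 + (D + 1 - c.1) by omega, pow_add]
      ring
    rw [sum_congr rfl key, ← mul_sum, ← map_sum, h Z hZ, mul_zero]

variable {m n q : ℕ}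

/-- The leading minor. -/
def dY (K : Type u) [Field K] (hm : n ≤ m) (hq : n ≤ q) : MvPolynomial (Fin m × Fin q) K :=
  ((genMatrix K m q).submatrix (Fin.castLE hm) (Fin.castLE hq)).det

lemma aeval_pairing (U : Matrix (Fin m) (Fin n) K) (W : Matrix (Fin n) (Fin q) K) (P : MvPolynomial (Fin m × Fin q) K) :
    aeval (Sum.elim (fun p : Fin m × Fin n => U p.1 p.2) fun p : Fin n × Fin q => W p.1 p.2) (pairingMap K n m q P) =
      aeval (fun p : Fin m × Fin q => (U * W) p.1 p.2) P := by
  rw [← AlgHom.comp_apply]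
  congr 1
  refine MvPolynomial.algHom_ext fun p => ?_
  rw [AlgHom.comp_apply, pairingMap, aeval_X, aeval_X, map_sum, Matrix.mul_apply]
  simp

lemma aeval_dY (hm : n ≤ m) (hq : n ≤ q) (v : Fin m × Fin q → K) :
    aeval v (dY K hm hq) = (Matrix.of fun a b => v (Fin.castLE hm a, Fin.castLE hq b)).det := by
  rw [dY, AlgHom.map_det]
  congr 1
  ext a b
  simp [genMatrix]

lemma dY_pairing_ne (hm : n ≤ m) (hq : n ≤ q) : pairingMap K n m q (dY K hm hq) ≠ 0 := by
  intro h
  let U : Matrix (Fin m) (Fin n) K := fun i k => if i.val = k.val then 1 else 0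
  let W : Matrix (Fin n) (Fin q) K := fun k j => if k.val = j.val then 1 else 0
  have := congrArg (aeval (Sum.elim (fun p : Fin m × Fin n => U p.1 p.2) fun p : Fin n × Fin q => W p.1 p.2)) h
  rw [map_zero, aeval_pairing, aeval_dY] at this
  apply one_ne_zero (α := K)
  rw [← this]
  convert (Matrix.det_one (n := Fin n) (R := K)).symm using 2
  ext a b
  rw [Matrix.of_apply, Matrix.mul_apply, sum_eq_single a]
  · simp [U, W, Matrix.one_apply, Fin.ext_iff]
  · intro k _ hk
    simp [U, Fin.ext_iff] at hk ⊢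
    omega
  · simp

variable [Infinite K]

lemma saturate_pairing (hn : 0 < n) (hm : n ≤ m) (hq : n ≤ q) {s : PairRing K n m q}
    {P : MvPolynomial (Fin m × Fin q) K} (hP : pairingMap K n m q P = pairingMap K n m q (dY K hm hq) * s) :
    s ∈ (pairingMap K n m q).range := by
  classical
  set I := CAlgX.minorIdeal (genMatrix K m q) (n + 1)
  have hI : ∀ θ : Idx q (q + m), n < large θ → phi K q m (X θ) ∈ I := fun θ hθ => by
    show _ ∈ CAlgX.minorIdeal (genMatrix K m q) (n + 1)
    rw [← span_phi]
    exact Ideal.subset_span ⟨θ, hθ, rfl⟩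
  have hmem : Ideal.Quotient.mk I P ∈ Submodule.span K
      (Set.range fun c : Core q m n => Ideal.Quotient.mk I (phi K q m (chainMon K c.2.1))) := by
    rw [core_span n I hI]; trivial
  obtain ⟨l, hl⟩ := Finsupp.mem_span_range_iff_exists_finsupp.1 hmem
  set F := ∑ c ∈ l.support, l c • chainMon K c.2.1 with hF
  have hdiff : P - phi K q m F ∈ I := by
    rw [← Ideal.Quotient.eq, ← hl, hF, map_sum, map_sum, Finsupp.sum]
    exact sum_congr rfl fun c _ => by rw [map_smul]; rfl
  set D := l.support.sup fun c => c.1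
  set G := ∑ c ∈ l.support, l c • (chainMon K c.2.1 * X (cbot q m) ^ (D + 1 - c.1)) with hG
  have hGF : phi K q m G = phi K q m F := by
    rw [hG, hF, map_sum, map_sum]
    refine sum_congr rfl fun c _ => ?_
    rw [map_smul, map_smul, map_mul, map_pow, phi, pl_bot, one_pow, mul_one]
  set τ := cmax (d := q) (r := m) n hq hm with hτdef
  have hτ : phi K q m (X τ) = csign (S := MvPolynomial (Fin m × Fin q) K)
      (⟨Fin.castLE hm, Fin.strictMono_castLE hm⟩ : Idx n m) (⟨Fin.castLE hq, Fin.strictMono_castLE hq⟩ : Idx n q) * dY K hm hq := by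
    rw [hτdef, cmax, phi_cidx]; rfl
  have hlt : ∃ φ, φ < τ := ⟨cbot q m, lt_of_le_of_ne (bot_le _ _) fun e => by
    have := congrArg large e
    rw [large_bot, hτdef, cmax, large_cidx] at this
    omega⟩
  have hGmem : G ∈ plIdeal K τ ⊔ Ideal.span {X τ} := by
    rw [sup_span_eq_inter (by omega) τ hlt]
    refine (Submodule.mem_iInf _).2 fun φ => (Submodule.mem_iInf _).2 fun hφ => ?_
    rw [plIdeal_eq_vanishing K (by omega)]
    refine homog_mem φ l D (fun c hc => Finset.le_sup (f := fun c : Core q m n => c.1) hc) fun Z hZ => ?_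
    have hlt' : φ < τ := hφ.1
    rw [← eval_phi]
    set v : Fin m × Fin q → K := fun p => Z (Fin.rev p.1) p.2 with hv
    have hIv : I ≤ RingHom.ker (aeval (R := K) v).toRingHom := by
      show CAlgX.minorIdeal (genMatrix K m q) (n + 1) ≤ _
      rw [← span_phi, Ideal.span_le]
      rintro _ ⟨θ, hθ, rfl⟩
      show aeval _ (phi K q m (X θ)) = 0
      rw [eval_phi]
      refine hZ θ fun hc => ?_
      have := (le_cmax_iff θ).1 (hc.trans hlt'.le)
      omega
    obtain ⟨U, W, hUW⟩ := exists_factor (n := n) (Matrix.of fun i j => v (i, j)) fun a b => by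
      have h1 : aeval v ((genMatrix K m q).submatrix a b).det = 0 := hIv (Ideal.subset_span ⟨(a, b), rfl⟩)
      rw [← h1, AlgHom.map_det]
      congr 1
      ext i j
      simp [genMatrix]
    have hvUW : (fun p : Fin m × Fin q => (U * W) p.1 p.2) = v := funext fun p => by rw [← hUW]; rfl
    have hd0 : aeval v (dY K hm hq) = 0 := by
      have h1 : aeval v (phi K q m (X τ)) = 0 := by
        rw [hv, eval_phi]; exact hZ τ hlt'.not_ge
      rw [hτ, map_mul] at h1
      refine (mul_eq_zero.1 h1).resolve_left ?_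
      simp [csign]
    have hP0 : aeval v P = 0 := by
      rw [← hvUW, ← aeval_pairing, hP, map_mul, aeval_pairing, hvUW, hd0, zero_mul]
    have := hIv hdiff
    rw [RingHom.mem_ker] at this
    change aeval v (P - phi K q m F) = 0 at this
    rw [map_sub, hP0, zero_sub, neg_eq_zero] at this
    exact this
  obtain ⟨a, ha, b, hb, hab⟩ := Submodule.mem_sup.1 hGmem
  obtain ⟨c, rfl⟩ := Ideal.mem_span_singleton.1 hb
  have ha0 := pairing_kills (plIdeal_phi (K := K) hq hm ha)
  have hdiff0 := pairing_kills hdiff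
  rw [map_sub, sub_eq_zero] at hdiff0
  refine ⟨csign (S := MvPolynomial (Fin m × Fin q) K) (⟨Fin.castLE hm, Fin.strictMono_castLE hm⟩ : Idx n m)
    (⟨Fin.castLE hq, Fin.strictMono_castLE hq⟩ : Idx n q) * phi K q m c, mul_left_cancel₀ (dY_pairing_ne (K := K) hm hq) ?_⟩
  show pairingMap K n m q (dY K hm hq) * pairingMap K n m q _ = _
  rw [← hP, hdiff0, ← hGF, ← hab, map_add, map_add, ha0, zero_add, map_mul (phi K q m), hτ, map_mul, map_mul, map_mul]
  ring

lemma fft_big (hn : 0 < n) (hm : n ≤ m) (hq : n ≤ q) (f : PairRing K n m q)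
    (hinv : ∀ A : GL (Fin n) K, glTranslate K n m q A f = f) : f ∈ (pairingMap K n m q).range := by
  classical
  set Y := genMatrix K m q
  let R := Localization.Away (dY K hm hq)
  let ι : MvPolynomial (Fin m × Fin q) K →+* R := algebraMap _ R
  let adj := (Y.submatrix (Fin.castLE hm) (Fin.castLE hq)).adjugate
  let Un : Matrix (Fin m) (Fin n) (MvPolynomial (Fin m × Fin q) K) := Y.submatrix id (Fin.castLE hq) * adj
  let σ : PairRing K n m q →+* R := eval₂Hom (ι.comp C) (Sum.elim
    (fun p : Fin m × Fin n => ι (Un p.1 p.2) * IsLocalization.Away.invSelf (dY K hm hq))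
    fun p : Fin n × Fin q => ι (Y (Fin.castLE hm p.1) p.2))
  obtain ⟨⟨P, ⟨_, N, rfl⟩⟩, hsurj⟩ := IsLocalization.surj (Submonoid.powers (dY K hm hq)) (σ f)
  have hkey : (pairingMap K n m q P - pairingMap K n m q (dY K hm hq) ^ N * f) * pairingMap K n m q (dY K hm hq) = 0 := by
    refine MvPolynomial.funext fun v => ?_
    rw [map_mul, map_zero]
    set U : Matrix (Fin m) (Fin n) K := Matrix.of fun i k => v (Sum.inl (i, k))
    set W : Matrix (Fin n) (Fin q) K := Matrix.of fun k j => v (Sum.inr (k, j))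
    have hv : v = Sum.elim (fun p : Fin m × Fin n => U p.1 p.2) fun p : Fin n × Fin q => W p.1 p.2 := by
      funext x; rcases x with p | p <;> rfl
    set w : Fin m × Fin q → K := fun p => (U * W) p.1 p.2 with hw
    have hpair : ∀ Q, eval v (pairingMap K n m q Q) = eval w Q := fun Q => by
      rw [← aeval_eq_eval, hv, aeval_pairing]; rfl
    set U0 := U.submatrix (Fin.castLE hm) id
    set W0 := W.submatrix id (Fin.castLE hq)
    have hdet : eval w (dY K hm hq) = U0.det * W0.det := by
      rw [← aeval_eq_eval, aeval_dY, ← Matrix.det_mul]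
      congr 1
    rw [hpair (dY K hm hq), mul_eq_zero]
    by_cases hδ : eval w (dY K hm hq) = 0
    · exact Or.inr hδ
    left
    rw [map_sub, map_mul, map_pow, hpair, hpair, sub_eq_zero]
    let ev : R →+* K := IsLocalization.Away.lift (dY K hm hq) (g := eval w) (IsUnit.mk0 _ hδ)
    have hev : ∀ Q, ev (ι Q) = eval w Q := fun Q => IsLocalization.Away.lift_eq _ _ Q
    have h1 := congrArg ev hsurj
    rw [map_mul] at h1
    dsimp only at h1
    rw [hev, hev, map_pow] at h1
    rw [← h1, mul_comm]
    congr 1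
    have hU0 : U0.det ≠ 0 := fun h => hδ (by rw [hdet, h, zero_mul])
    have hW0 : W0.det ≠ 0 := fun h => hδ (by rw [hdet, h, mul_zero])
    let A : GL (Fin n) K := Matrix.GeneralLinearGroup.mkOfDetNeZero U0 hU0
    have hA : ((A : Matrix (Fin n) (Fin n) K)) = U0 := rfl
    have hAi : (((A⁻¹ : GL (Fin n) K) : Matrix (Fin n) (Fin n) K)) = U0⁻¹ := by rw [Matrix.coe_units_inv, hA]
    have hinv' := congrArg (eval v) (hinv A)
    have e1 : (eval v).comp (glTranslate K n m q A).toRingHom =
        eval (Sum.elim (fun p : Fin m × Fin n => (U * U0⁻¹) p.1 p.2) fun p : Fin n × Fin q => (U0 * W) p.1 p.2) := by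
      refine MvPolynomial.ringHom_ext (fun r => by simp [glTranslate]) fun x => ?_
      rcases x with p | p
      · simp [glTranslate, Matrix.mul_apply, hAi, U]
      · simp [glTranslate, Matrix.mul_apply, hA, W]
    have e2 : ev.comp σ =
        eval (Sum.elim (fun p : Fin m × Fin n => (U * U0⁻¹) p.1 p.2) fun p : Fin n × Fin q => (U0 * W) p.1 p.2) := by
      refine MvPolynomial.ringHom_ext (fun r => by simp [σ, hev]) fun x => ?_
      rcases x with p | p
      · have hinvSelf : ev (IsLocalization.Away.invSelf (dY K hm hq)) = (eval w (dY K hm hq))⁻¹ := by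
          have h2 := congrArg ev (IsLocalization.Away.mul_invSelf (S := R) (dY K hm hq))
          rw [map_mul, map_one] at h2
          exact eq_inv_of_mul_eq_one_right (by rw [← hev]; exact h2)
        have hmapY : Y.map (eval w) = U * W := by ext i j; simp [Y, genMatrix, w]
        have hUn : Un.map (eval w) = (U * W).submatrix id (Fin.castLE hq) * ((U * W).submatrix (Fin.castLE hm) (Fin.castLE hq)).adjugate := by
          simp only [Un, adj, Matrix.map_mul]
          rw [← RingHom.mapMatrix_apply (eval w) (Y.submatrix _ _).adjugate, RingHom.map_adjugate,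
            RingHom.mapMatrix_apply, ← Matrix.submatrix_map, ← Matrix.submatrix_map, hmapY]
        have hX : σ (X (Sum.inl p)) = ι (Un p.1 p.2) * IsLocalization.Away.invSelf (dY K hm hq) := by simp [σ]
        rw [RingHom.comp_apply, hX, map_mul, hev, hinvSelf, eval_X]
        show Un.map (eval w) p.1 p.2 * _ = (U * U0⁻¹) p.1 p.2
        have hS : (U * W).submatrix (Fin.castLE hm) (Fin.castLE hq) = U0 * W0 := by
          ext a b; simp [U0, W0, Matrix.mul_apply]
        have hC : (U * W).submatrix id (Fin.castLE hq) = U * W0 := by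
          ext a b; simp [W0, Matrix.mul_apply]
        rw [hUn, hS, hC, hdet, ← Matrix.det_mul, mul_comm, ← smul_eq_mul, ← Matrix.smul_apply, ← Matrix.mul_smul,
          ← Ring.inverse_eq_inv', ← Matrix.inv_def, Matrix.mul_inv_rev, Matrix.mul_assoc, ← Matrix.mul_assoc W0,
          Matrix.mul_nonsing_inv W0 (IsUnit.mk0 _ hW0), Matrix.one_mul]
      · have hX : σ (X (Sum.inr p)) = ι (Y (Fin.castLE hm p.1) p.2) := by simp [σ]
        rw [RingHom.comp_apply, hX, hev, eval_X]
        simp [Y, genMatrix, w, U0, Matrix.mul_apply]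
    rw [show ev (σ f) = (ev.comp σ) f from rfl, e2, ← e1]
    exact hinv'
  have hN : pairingMap K n m q (dY K hm hq) ^ N * f ∈ (pairingMap K n m q).range :=
    ⟨P, sub_eq_zero.1 ((mul_eq_zero.1 hkey).resolve_right (dY_pairing_ne hm hq))⟩
  clear hkey hsurj
  induction N with
  | zero => rw [pow_zero, one_mul] at hN; exact hN
  | succ N ih =>
    obtain ⟨Q, hQ⟩ := hN
    refine ih (saturate_pairing hn hm hq (P := Q) ?_)
    rw [← mul_assoc, ← pow_succ']
    exact hQ

/-- First fundamental theorem. -/
theorem fft_GL (m n q : ℕ) (f : PairRing K n m q) :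
    (∀ A : GL (Fin n) K, glTranslate K n m q A f = f) ↔ f ∈ (pairingMap K n m q).range := by
  classical
  constructor
  swap
  · rintro ⟨P, rfl⟩ A
    show ((glTranslate K n m q A).comp (pairingMap K n m q)) P = pairingMap K n m q P
    congr 1
    refine MvPolynomial.algHom_ext fun p => ?_
    rw [AlgHom.comp_apply, pairingMap, aeval_X, map_sum]
    let Uu : Matrix (Fin m) (Fin n) (PairRing K n m q) := Matrix.of fun i k => X (Sum.inl (i, k))
    let Ww : Matrix (Fin n) (Fin q) (PairRing K n m q) := Matrix.of fun k j => X (Sum.inr (k, j))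
    let Am : Matrix (Fin n) (Fin n) (PairRing K n m q) := (A : Matrix (Fin n) (Fin n) K).map C
    let Ai : Matrix (Fin n) (Fin n) (PairRing K n m q) := ((A⁻¹ : GL (Fin n) K) : Matrix (Fin n) (Fin n) K).map C
    have hAA : Ai * Am = 1 := by
      rw [← Matrix.map_mul, ← Units.val_mul, inv_mul_cancel, Units.val_one, Matrix.map_one C (map_zero C) (map_one C)]
    refine Eq.trans (b := ((Uu * Ai) * (Am * Ww)) p.1 p.2) ?_ ?_
    · rw [Matrix.mul_apply]
      refine sum_congr rfl fun k _ => ?_
      simp [glTranslate, Matrix.mul_apply, Uu, Ww, Am, Ai]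
    · rw [Matrix.mul_assoc, ← Matrix.mul_assoc Ai, hAA, Matrix.one_mul]
      rfl
  intro hinv
  rcases Nat.eq_zero_or_pos n with rfl | hn
  · haveI : IsEmpty ((Fin m × Fin 0) ⊕ (Fin 0 × Fin q)) := by infer_instance
    exact ⟨C (coeff 0 f), by rw [show (pairingMap K 0 m q).toRingHom (C (coeff 0 f)) = C (coeff 0 f) from aeval_C _ _]; exact (eq_C_of_isEmpty f).symm⟩
  let em : Fin m → Fin (max m n) := Fin.castLE (le_max_left _ _)
  let eq' : Fin q → Fin (max q n) := Fin.castLE (le_max_left _ _)
  let inc : PairRing K n m q →ₐ[K] PairRing K n (max m n) (max q n) :=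
    rename (Sum.map (fun p => (em p.1, p.2)) fun p => (p.1, eq' p.2))
  let ret : PairRing K n (max m n) (max q n) →ₐ[K] PairRing K n m q := aeval (Sum.elim
    (fun p : Fin (max m n) × Fin n => if h : p.1.val < m then X (Sum.inl (⟨p.1.val, h⟩, p.2)) else 0)
    fun p : Fin n × Fin (max q n) => if h : p.2.val < q then X (Sum.inr (p.1, ⟨p.2.val, h⟩)) else 0)
  let retY : MvPolynomial (Fin (max m n) × Fin (max q n)) K →ₐ[K] MvPolynomial (Fin m × Fin q) K :=
    aeval fun p => if h : p.1.val < m ∧ p.2.val < q then X (⟨p.1.val, h.1⟩, ⟨p.2.val, h.2⟩) else 0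
  have hret : ∀ g, ret (inc g) = g := fun g => by
    have : ret.comp inc = AlgHom.id K _ := MvPolynomial.algHom_ext fun x => by
      rcases x with p | p <;> simp [ret, inc, em, eq']
    exact AlgHom.congr_fun this g
  have hinv' : ∀ A : GL (Fin n) K, glTranslate K n (max m n) (max q n) A (inc f) = inc f := fun A => by
    have : (glTranslate K n (max m n) (max q n) A).comp inc = inc.comp (glTranslate K n m q A) :=
      MvPolynomial.algHom_ext fun x => by
        rcases x with p | p <;> simp [glTranslate, inc, map_sum]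
    rw [← AlgHom.comp_apply, this, AlgHom.comp_apply, hinv A]
  obtain ⟨P, hP⟩ := fft_big hn (le_max_right _ _) (le_max_right _ _) (inc f) hinv'
  refine ⟨retY P, ?_⟩
  have hc : (pairingMap K n m q).comp retY = ret.comp (pairingMap K n (max m n) (max q n)) :=
    MvPolynomial.algHom_ext fun p => by
      simp only [AlgHom.comp_apply, retY, pairingMap, aeval_X, map_sum, map_mul, ret, Sum.elim_inl, Sum.elim_inr]
      by_cases h1 : p.1.val < m <;> by_cases h2 : p.2.val < q <;> simp [h1, h2]
  show pairingMap K n m q (retY P) = f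
  rw [← AlgHom.comp_apply, hc, AlgHom.comp_apply, show pairingMap K n (max m n) (max q n) P = inc f from hP, hret]

end LeadGrass
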