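import Groth.Agent.Lead.Grass.Cell

/-! Factoriality of Schubert cones. -/

noncomputable section

open MvPolynomial W4bk4grassmannian Finset

universe u

namespace LeadGrass

variable {K : Type u} [Field K] {d n : ℕ}

lemma divisor_eq {τ φ δ : Idx d n} (hφ : φ ∈ divisors τ) (hδ : δ ∈ divisors τ) (h : φ ≤ δ) : φ = δ := by
  by_contra hne
  have := wt_lt (lt_of_le_of_ne h hne)
  have := codeg_eq φ; have := codeg_eq δ
  have := hφ.2; have := hδ.2
  omega

/-- `t` can be lowered. -/
def Low (τ : Idx d n) (t : Fin d) : Prop :=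
  t.val < (τ.1 t).val ∧ ∀ s : Fin d, s.val + 1 = t.val → (τ.1 s).val + 1 < (τ.1 t).val

lemma divisors_eq (τ : Idx d n) : divisors τ = {φ | ∃ (t : Fin d) (h : Low τ t), φ = lower τ t h.1 h.2} := by
  classical
  ext φ
  refine ⟨fun hφ => ?_, fun ⟨t, h, e⟩ => e ▸ lower_mem_divisors τ t h.1 h.2⟩
  obtain ⟨hlt, hc⟩ := hφ
  have hex : ∃ m : ℕ, ∃ t : Fin d, t.val = m ∧ φ.1 t < τ.1 t := by
    by_contra hc'
    push_neg at hc'
    exact hlt.ne (Subtype.ext (funext fun t => le_antisymm (hlt.le t) (hc' _ t rfl)))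
  obtain ⟨t, ht, hlt'⟩ := Nat.find_spec hex
  rw [Fin.lt_def] at hlt'
  have h1 : t.val < (τ.1 t).val := lt_of_le_of_lt (le_val φ t) hlt'
  have h2 : ∀ s : Fin d, s.val + 1 = t.val → (τ.1 s).val + 1 < (τ.1 t).val := by
    intro s hs
    have heq : φ.1 s = τ.1 s := le_antisymm (hlt.le s)
      (not_lt.1 fun hc' => Nat.find_min hex (m := s.val) (by omega) ⟨s, rfl, hc'⟩)
    have : (φ.1 s).val < (φ.1 t).val := φ.2 (by rw [Fin.lt_def]; omega)
    rw [heq] at this
    omega
  refine ⟨t, ⟨h1, h2⟩, divisor_eq ⟨hlt, hc⟩ (lower_mem_divisors τ t h1 h2) fun s => ?_⟩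
  by_cases hs : s = t
  · subst hs
    simp only [lower, Function.update_self, Fin.le_def]
    omega
  · simp only [lower, Function.update_of_ne hs]
    exact hlt.le s

lemma lower_inj {τ : Idx d n} {t t' : Fin d} (h : Low τ t) (h' : Low τ t')
    (e : lower τ t h.1 h.2 = lower τ t' h'.1 h'.2) : t = t' := by
  by_contra hne
  have := congrArg (fun φ : Idx d n => (φ.1 t).val) e
  simp [lower, Function.update_of_ne hne] at this
  have := h.1
  omega

theorem subsingleton_iff_shape (τ : Idx d n) : (divisors τ).Subsingleton ↔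
    ∃ s : ℕ, (∀ t : Fin d, t.val < s → (τ.1 t).val = t.val) ∧
      ∀ t t' : Fin d, s ≤ t.val → t.val + 1 = t'.val → (τ.1 t).val + 1 = (τ.1 t').val := by
  classical
  rw [divisors_eq]
  constructor
  · intro hsub
    have huniq : ∀ t t' : Fin d, Low τ t → Low τ t' → t = t' := fun t t' h h' =>
      lower_inj h h' (hsub ⟨t, h, rfl⟩ ⟨t', h', rfl⟩)
    by_cases hex : ∃ m : ℕ, ∃ t : Fin d, t.val = m ∧ t.val < (τ.1 t).val
    · obtain ⟨t, ht, hlt⟩ := Nat.find_spec hex
      have hid : ∀ s : Fin d, s.val < t.val → (τ.1 s).val = s.val := fun s hs => by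
        have := le_val τ s
        by_contra hne
        exact Nat.find_min hex (m := s.val) (by omega) ⟨s, rfl, by omega⟩
      have hlow : Low τ t := ⟨hlt, fun s hs => by rw [hid s (by omega)]; omega⟩
      refine ⟨t.val, hid, fun a b ha hab => ?_⟩
      have hmono : (τ.1 a).val < (τ.1 b).val := τ.2 (by rw [Fin.lt_def]; omega)
      by_contra hne
      have hb : Low τ b := ⟨by have := val_gap τ (t := t) (t' := b) (by omega); omega, fun s hs => by
        obtain rfl : s = a := Fin.ext (by omega)
        omega⟩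
      have := huniq t b hlow hb
      subst this
      omega
    · push_neg at hex
      refine ⟨d, fun t _ => le_antisymm (hex _ t rfl) (le_val τ t), fun a b ha hab => ?_⟩
      have := a.isLt
      omega
  · rintro ⟨s, hlo, hhi⟩ _ ⟨t, h, rfl⟩ _ ⟨t', h', rfl⟩
    have key : ∀ t : Fin d, Low τ t → t.val = s := by
      intro t ht
      have h1 : ¬ t.val < s := fun hts => by have := hlo t hts; have := ht.1; omega
      by_contra hne
      have hpos : 0 < t.val := by omega
      have h2 := ht.2 ⟨t.val - 1, by omega⟩ (by simp; omega)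
      have h3 := hhi ⟨t.val - 1, by omega⟩ t (by simp; omega) (by simp; omega)
      omega
    obtain rfl : t = t' := Fin.ext ((key t h).trans (key t' h').symm)
    rfl

/-- The class of the top variable, in the cell ring. -/
def yT (τ : Idx d n) : (cell K τ).range := ⟨X none, X τ, cell_top τ⟩

lemma toRange_top (τ : Idx d n) (hd : 0 < d) :
    toRange τ hd (Ideal.Quotient.mk (plIdeal K τ) (X τ)) = yT τ :=
  Subtype.ext (cell_top τ)

lemma prime_iff (τ : Idx d n) (hd : 0 < d) :
    Prime (Ideal.Quotient.mk (plIdeal K τ) (X τ)) ↔ (divisors τ).Subsingleton := by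
  classical
  haveI := plIdeal_isPrime K hd τ
  have hne : Ideal.Quotient.mk (plIdeal K τ) (X τ) ≠ 0 := by
    rw [Ne, Ideal.Quotient.eq_zero_iff_mem]
    exact fun hc => rho_ne K τ (plIdeal_le_ker K le_rfl hc)
  have hiff : Prime (Ideal.Quotient.mk (plIdeal K τ) (X τ)) ↔ (plIdeal K τ ⊔ Ideal.span {X τ}).IsPrime := by
    rw [← Ideal.span_singleton_prime hne, ← Set.image_singleton, ← Ideal.map_span]
    have e : (Ideal.span {X τ}).map (Ideal.Quotient.mk (plIdeal K τ)) =
        (plIdeal K τ ⊔ Ideal.span {X τ}).map (Ideal.Quotient.mk (plIdeal K τ)) := by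
      rw [Ideal.map_sup, Ideal.map_quotient_self, bot_sup_eq]
    rw [e]
    refine ⟨fun h => ?_, fun h => Ideal.map_isPrime_of_surjective Ideal.Quotient.mk_surjective (by rw [Ideal.mk_ker]; exact le_sup_left)⟩
    have := Ideal.comap_isPrime (Ideal.Quotient.mk (plIdeal K τ)) ((plIdeal K τ ⊔ Ideal.span {X τ}).map (Ideal.Quotient.mk (plIdeal K τ)))
    rwa [Ideal.comap_map_of_surjective _ Ideal.Quotient.mk_surjective, ← RingHom.ker_eq_comap_bot, Ideal.mk_ker,
      sup_eq_left.2 le_sup_left] at this
  rw [hiff]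
  by_cases h : ∃ φ, φ < τ
  · rw [sup_span_eq_inter hd τ h]
    constructor
    · intro hp δ hδ δ' hδ'
      by_contra hne'
      have hnot : ∀ φ ∈ divisors τ, ∀ ψ ∈ divisors τ, φ ≠ ψ → X φ ∈ plIdeal K ψ := fun φ hφ ψ hψ hne'' =>
        X_mem_plIdeal K fun hle => hne'' (divisor_eq hφ hψ hle)
      have hmul : X δ * X δ' ∈ ⨅ φ ∈ divisors τ, plIdeal K φ := by
        simp only [Submodule.mem_iInf]
        intro φ hφ
        by_cases e : δ = φ
        · exact Ideal.mul_mem_left _ _ (hnot δ' hδ' φ hφ fun e' => hne' (e.trans e'.symm))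
        · exact Ideal.mul_mem_right _ _ (hnot δ hδ φ hφ e)
      rcases hp.mem_or_mem hmul with hm | hm
      · simp only [Submodule.mem_iInf] at hm
        exact rho_ne K δ (plIdeal_le_ker K le_rfl (hm δ hδ))
      · simp only [Submodule.mem_iInf] at hm
        exact rho_ne K δ' (plIdeal_le_ker K le_rfl (hm δ' hδ'))
    · intro hsub
      obtain ⟨φ₀, hφ₀⟩ := h
      obtain ⟨δ, hδ, -⟩ := exists_divisor_ge hφ₀
      have : (⨅ φ ∈ divisors τ, plIdeal K φ) = plIdeal K δ :=
        le_antisymm (iInf₂_le δ hδ) (le_iInf₂ fun φ hφ => by rw [hsub hφ hδ])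
      rw [this]; exact plIdeal_isPrime K hd δ
  · refine ⟨fun _ a ha b _ => absurd ⟨a, ha.1⟩ h, fun _ => ?_⟩
    have hle : d ≤ n := by
      have h1 := val_le_top τ ⟨0, hd⟩
      simp at h1
      omega
    have hτ : τ = bot hle := by
      rcases eq_or_lt_of_le (bot_le hle τ) with e | e
      · exact e.symm
      · exact absurd ⟨_, e⟩ h
    subst hτ
    exact bot_section_prime hd hle (bot hle)

lemma isUnit_range {τ : Idx d n} {a : (cell K τ).range} (h : IsUnit (a : Cell K τ)) : IsUnit a := by
  obtain ⟨r, hr, he⟩ := MvPolynomial.isUnit_iff_eq_C_of_isReduced.1 h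
  have : a = algebraMap K _ r := Subtype.ext he
  rw [this]
  exact (IsUnit.map _ hr)

theorem ufm_iff (τ : Idx d n) (hd : 0 < d) :
    UniqueFactorizationMonoid (PlRing K d n ⧸ plIdeal K τ) ↔ Prime (Ideal.Quotient.mk (plIdeal K τ) (X τ)) := by
  classical
  haveI := plIdeal_isPrime K hd τ
  have hy : Prime (X none : Cell K τ) := MvPolynomial.X_prime
  rw [← MulEquiv.prime_iff (toRange (K := K) τ hd)]
  rw [toRange_top τ hd]
  constructor
  · intro hU
    haveI := (toRange (K := K) τ hd).toMulEquiv.uniqueFactorizationMonoid hU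
    refine UniqueFactorizationMonoid.irreducible_iff_prime.1 ⟨fun hu => hy.not_unit (hu.map ((cell K τ).range.val : (cell K τ).range →+* Cell K τ)), fun a b hab => ?_⟩
    have : (X none : Cell K τ) = (a : Cell K τ) * (b : Cell K τ) := congrArg Subtype.val hab
    exact (hy.irreducible.isUnit_or_isUnit this).imp isUnit_range isUnit_range
  · intro hp
    suffices hT : UniqueFactorizationMonoid (cell K τ).range from (toRange (K := K) τ hd).symm.toMulEquiv.uniqueFactorizationMonoid hT
    rw [UniqueFactorizationMonoid.iff_exists_prime_mem_of_isPrime]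
    intro P hP hPp
    by_cases hyP : yT τ ∈ P
    · exact ⟨_, hyP, hp⟩
    obtain ⟨p0, hp0, hp0ne⟩ := Submodule.exists_mem_ne_zero_of_ne_bot hP
    have hpull : ∀ s : Cell K τ, ∃ (N : ℕ) (a : (cell K τ).range), (a : Cell K τ) = X none ^ N * s ∧
        ∀ N' < N, X none ^ N' * s ∉ (cell K τ).range :=
      fun s => ⟨Nat.find (exists_pow_mem τ s), ⟨_, Nat.find_spec (exists_pow_mem τ s)⟩, rfl, fun N' h => Nat.find_min _ h⟩
    choose N a ha hmin using hpull
    have key : ∀ π : Cell K τ, Prime π → ¬ Associated π (X none) → Prime (a π) := by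
      intro π hπ hna
      have hndvd : ¬ π ∣ (X none : Cell K τ) := fun h => hna (hπ.associated_of_dvd hy h)
      have hnot : ¬ yT τ ∣ a π := by
        rintro ⟨c, hc⟩
        have hc' : (a π : Cell K τ) = X none * (c : Cell K τ) := congrArg Subtype.val hc
        rw [ha] at hc'
        cases hN : N π with
        | zero =>
          rw [hN, pow_zero, one_mul] at hc'
          exact hna ((hy.associated_of_dvd hπ ⟨_, hc'⟩).symm)
        | succ m =>
          rw [hN, pow_succ', mul_assoc] at hc'
          exact hmin π m (by omega) (mul_left_cancel₀ hy.ne_zero hc' ▸ c.2)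
      refine ⟨fun h0 => ?_, fun hu => ?_, fun b c hbc => ?_⟩
      · have h1 := congrArg Subtype.val h0
        rw [ha] at h1
        exact mul_ne_zero (pow_ne_zero _ hy.ne_zero) hπ.ne_zero h1
      · have h1 := hu.map ((cell K τ).range.val : (cell K τ).range →+* Cell K τ)
        change IsUnit (a π : Cell K τ) at h1
        rw [ha] at h1
        exact hπ.not_unit (isUnit_of_mul_isUnit_right h1)
      · have hπbc : π ∣ (b : Cell K τ) * (c : Cell K τ) := by
          obtain ⟨e, he⟩ := hbc
          refine ⟨X none ^ N π * (e : Cell K τ), ?_⟩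
          have : (b : Cell K τ) * (c : Cell K τ) = (a π : Cell K τ) * (e : Cell K τ) := congrArg Subtype.val he
          rw [this, ha]; ring
        have lift : ∀ b : (cell K τ).range, π ∣ (b : Cell K τ) → a π ∣ b := by
          intro b ⟨s, hs⟩
          obtain ⟨M, hM⟩ := exists_pow_mem τ s
          have h1 : a π ∣ yT τ ^ (N π + M) * b := by
            refine ⟨⟨_, hM⟩, Subtype.ext ?_⟩
            show (X none : Cell K τ) ^ (N π + M) * (b : Cell K τ) = (a π : Cell K τ) * (X none ^ M * s)
            rw [ha, hs]; ring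
          generalize N π + M = m at h1
          induction m with
          | zero => simpa using h1
          | succ m ih =>
            obtain ⟨e, he⟩ := h1
            have : yT τ ∣ a π * e := ⟨yT τ ^ m * b, by rw [← he, pow_succ']; ring⟩
            obtain ⟨e', rfl⟩ := (hp.dvd_or_dvd this).resolve_left hnot
            exact ih ⟨e', mul_left_cancel₀ hp.ne_zero (by rw [← mul_assoc, ← pow_succ', he]; ring)⟩
        exact (hπ.dvd_or_dvd hπbc).imp (lift b) (lift c)
    have h0 : (p0 : Cell K τ) ≠ 0 := fun e => hp0ne (Subtype.ext e)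
    suffices ∀ s : Cell K τ, s ≠ 0 → ∀ b : (cell K τ).range, (∃ M, (b : Cell K τ) = X none ^ M * s) → b ∈ P →
        ∃ x ∈ P, Prime x from this _ h0 p0 ⟨0, by simp⟩ hp0
    intro s hs
    induction s using UniqueFactorizationMonoid.induction_on_prime with
    | h₁ => exact absurd rfl hs
    | h₂ u hu =>
      intro b ⟨M, hM⟩ hb
      exfalso
      obtain ⟨r, hr, rfl⟩ := MvPolynomial.isUnit_iff_eq_C_of_isReduced.1 hu
      have : b = yT τ ^ M * algebraMap K _ r := Subtype.ext hM
      rw [this] at hb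
      rcases hPp.mem_or_mem hb with hb | hb
      · exact hyP (hPp.mem_of_pow_mem M hb)
      · exact hPp.ne_top (Ideal.eq_top_of_isUnit_mem _ hb (hr.map _))
    | h₃ s π hs0 hπ ih =>
      intro b ⟨M, hM⟩ hb
      by_cases hass : Associated π (X none)
      · obtain ⟨u, hu⟩ := hass.symm
        obtain ⟨r, hr, hru⟩ := MvPolynomial.isUnit_iff_eq_C_of_isReduced.1 u.isUnit
        have hbu : b * algebraMap K _ r⁻¹ ∈ P := Ideal.mul_mem_right _ _ hb
        refine ih hs0 _ ⟨M + 1, ?_⟩ hbu
        show (b : Cell K τ) * C _ = _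
        rw [hM, ← hu, hru, pow_succ]
        calc X none ^ M * (X none * C r * s) * C r⁻¹
            = X none ^ M * X none * s * (C r * C r⁻¹) := by ring
          _ = _ := by rw [← map_mul, mul_inv_cancel₀ hr.ne_zero, map_one, mul_one]
      · obtain ⟨M', hM'⟩ := exists_pow_mem τ s
        set c : (cell K τ).range := ⟨_, hM'⟩
        have h1 : a π * c ∈ P := by
          have : yT τ ^ M * (a π * c) = yT τ ^ (N π + M') * b := Subtype.ext (by
            show X none ^ M * ((a π : Cell K τ) * (X none ^ M' * s)) = X none ^ (N π + M') * (b : Cell K τ)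
            rw [ha, hM]; ring)
          exact (hPp.mem_or_mem (this ▸ Ideal.mul_mem_left _ _ hb)).resolve_left fun h => hyP (hPp.mem_of_pow_mem M h)
        rcases hPp.mem_or_mem h1 with h | h
        · exact ⟨_, h, key π hπ hass⟩
        · exact ih hs0 c ⟨M', rfl⟩ h

end LeadGrass
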