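import Groth.Agent.Lead.Grass.Shell
import Groth.Agent.Lead.Grass.Varieties

/-! Unions of Schubert cones are free over the algebra generated by the rank sums. -/

noncomputable section

open MvPolynomial W4bk4grassmannian Finset

universe u

namespace LeadGrass

variable {d n : ℕ} {K : Type u}

/-- A triangular family is a basis. -/
theorem triangular {V ι : Type*} [Field K] [AddCommGroup V] [Module K V] (b : Module.Basis ι K V)
    (f : ι → V) (μ : ι → ℕ) (h : ∀ i, f i - b i ∈ Submodule.span K (b '' {j | μ j < μ i})) :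
    LinearIndependent K f ∧ Submodule.span K (Set.range f) = ⊤ := by
  classical
  constructor
  · rw [linearIndependent_iff]
    intro l hl
    by_contra hne
    obtain ⟨i, hi, hmax⟩ := l.support.exists_max_image μ (Finsupp.support_nonempty_iff.2 hne)
    have hr : ∀ j ∈ l.support, b.repr (f j) i = if j = i then 1 else 0 := by
      intro j hj
      have hsup := b.repr_support_subset_of_mem_span _ (h j)
      have h0 : b.repr (f j - b j) i = 0 := by
        by_contra hn
        have := hsup (Finsupp.mem_support_iff.2 hn)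
        have hlt : μ i < μ j := this
        exact absurd hlt (hmax j hj).not_gt
      rw [map_sub, Finsupp.sub_apply, sub_eq_zero] at h0
      rw [h0, b.repr_self, Finsupp.single_apply]
    have h1 := congrArg (fun v => b.repr v i) hl
    simp only [Finsupp.linearCombination_apply, map_finsuppSum, LinearEquiv.map_smul, map_zero, Finsupp.coe_zero, Pi.zero_apply,
      Finsupp.sum, map_sum, Finsupp.coe_finsetSum, Finset.sum_apply, Finsupp.smul_apply, smul_eq_mul] at h1
    rw [sum_eq_single i] at h1
    · rw [hr i hi, if_pos rfl, mul_one] at h1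
      exact Finsupp.mem_support_iff.1 hi h1
    · intro j hj hji; rw [hr j hj, if_neg hji, mul_zero]
    · exact fun h => absurd hi h
  · rw [eq_top_iff, ← b.span_eq, Submodule.span_le]
    rintro _ ⟨i, rfl⟩
    induction hm : μ i using Nat.strong_induction_on generalizing i with
    | _ M ih =>
      have : b i = f i - (f i - b i) := by abel
      rw [this]
      refine Submodule.sub_mem _ (Submodule.subset_span ⟨i, rfl⟩) ((Submodule.span_le.2 ?_) (h i))
      rintro _ ⟨j, hj, rfl⟩
      exact ih _ (hm ▸ hj) j rfl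

variable (K) in
lemma mon_add [CommRing K] (s t : Multiset (Idx d n)) : mon (K := K) (s + t) = mon s * mon t := by
  simp [mon, Multiset.map_add, Multiset.prod_add]

lemma chainMon_eq_mon [CommRing K] {m : ℕ} (c : Fin m → Idx d n) : chainMon K c = mon (univ.val.map c) := by
  rw [mon, Multiset.map_map]
  rfl

open Classical in
lemma mon_eq_monomial [CommRing K] (s : Multiset (Idx d n)) :
    mon (K := K) s = monomial (Multiset.toFinsupp s) 1 := by
  induction s using Multiset.induction_on with
  | empty => simp [mon]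
  | cons a s ih =>
    rw [mon_cons, ih, show a ::ₘ s = {a} + s from (Multiset.singleton_add a s).symm, Multiset.toFinsupp_add,
      Multiset.toFinsupp_singleton, X, monomial_mul, mul_one]

lemma mon_inj [CommRing K] [Nontrivial K] {s t : Multiset (Idx d n)} (h : mon (K := K) s = mon t) : s = t := by
  classical
  rw [mon_eq_monomial, mon_eq_monomial] at h
  exact Multiset.toFinsupp.injective (monomial_left_injective one_ne_zero h)

/-- The weight of a monomial. -/
def wsq (s : Multiset (Idx d n)) : ℕ := (s.map fun θ => wt θ ^ 2).sum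

lemma wsq_le (s : Multiset (Idx d n)) : wsq s ≤ Multiset.card s * (d * n) ^ 2 := by
  have hb : ∀ θ : Idx d n, wt θ ≤ d * n := fun θ => by have := cnt_total θ; omega
  have := Multiset.sum_le_card_nsmul (s.map fun θ => wt θ ^ 2) ((d * n) ^ 2) (fun z hz => by
    obtain ⟨θ, -, rfl⟩ := Multiset.mem_map.1 hz
    exact Nat.pow_le_pow_left (hb θ) 2)
  simpa [wsq] using this

lemma wsq_profile {s t : Multiset (Idx d n)} (h : s.map codeg = t.map codeg) : wsq s = wsq t := by
  have e : ∀ v : Multiset (Idx d n), wsq v = ((v.map codeg).map fun x => (x + ∑ i : Fin d, i.val) ^ 2).sum := fun v => by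
    rw [Multiset.map_map, wsq]
    exact congrArg _ (Multiset.map_congr rfl fun θ _ => by simp [codeg_eq])
  rw [e, e, h]

/-- Straightening with strict increase of the weight. -/
theorem mon_straighten [CommRing K] (s : Multiset (Idx d n)) :
    mon s ∈ Submodule.span K {f : PlRing K d n | ∃ t, IsCh t ∧ Multiset.card t = Multiset.card s ∧
      (t = s ∨ wsq s < wsq t) ∧ f = mon t} ⊔ (plIdealTop (d := d) (n := n) K).restrictScalars K := by
  classical
  induction hG : Multiset.card s * (d * n) ^ 2 - wsq s using Nat.strong_induction_on generalizing s with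
  | _ G ih =>
    by_cases hs : IsCh s
    · exact Submodule.mem_sup_left (Submodule.subset_span ⟨s, hs, rfl, Or.inl rfl, rfl⟩)
    simp only [IsCh, not_forall, not_or] at hs
    obtain ⟨x, hx, y, hy, hxy, hyx⟩ := hs
    obtain ⟨i, hi, j, hj, hji, hij, hw⟩ : ∃ i ∈ s, ∃ j ∈ s, ¬ j ≤ i ∧ ¬ i ≤ j ∧ wt j ≤ wt i := by
      rcases le_total (wt y) (wt x) with h | h
      · exact ⟨x, hx, y, hy, hyx, hxy, h⟩
      · exact ⟨y, hy, x, hx, hxy, hyx, h⟩
    obtain ⟨t, rfl⟩ := Multiset.exists_cons_of_mem hi
    have hjt : j ∈ t := (Multiset.mem_cons.1 hj).resolve_left (fun e => hji (e ▸ le_rfl))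
    obtain ⟨u, rfl⟩ := Multiset.exists_cons_of_mem hjt
    obtain ⟨r, hr⟩ := exists_pivot hji
    obtain ⟨T, e, a, b, hrel, hT⟩ := step (K := K) hr
    have hmon : mon (i ::ₘ j ::ₘ u) = shuffleRel K i j r * mon u - ∑ A ∈ T, C (e A) * mon (a A ::ₘ b A ::ₘ u) := by
      rw [← hrel, add_mul, Finset.sum_mul]
      simp only [mon_cons]
      rw [show ∑ A ∈ T, C (e A) * (X (a A) * X (b A)) * mon u = ∑ A ∈ T, C (e A) * (X (a A) * (X (b A) * mon u)) from
        Finset.sum_congr rfl fun A _ => by ring]
      ring
    rw [hmon]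
    refine Submodule.sub_mem _ (Submodule.mem_sup_right ?_) (Submodule.sum_mem _ fun A hA => ?_)
    · exact Ideal.mul_mem_right _ _ (Ideal.subset_span ⟨i, j, r, hr, rfl⟩)
    · rw [C_mul']
      refine Submodule.smul_mem _ _ ?_
      obtain ⟨hlt, hsc⟩ := hT A hA
      have h1 := hsc.wt
      have h2 := wt_lt hlt
      have hbd := wsq_le (a A ::ₘ b A ::ₘ u)
      have hq : wt i ^ 2 + wt j ^ 2 < wt (a A) ^ 2 + wt (b A) ^ 2 := by
        obtain ⟨δ, hδ⟩ := Nat.exists_eq_add_of_lt h2
        have hb2 : wt j = wt (b A) + (δ + 1) := by omega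
        have h3 : (δ + 1) * wt (b A) < (δ + 1) * wt i := Nat.mul_lt_mul_of_pos_left (by omega) (by omega)
        rw [hδ, hb2]
        nlinarith
      have hcard : Multiset.card (a A ::ₘ b A ::ₘ u) = Multiset.card (i ::ₘ j ::ₘ u) := by simp
      have hlt' : wsq (i ::ₘ j ::ₘ u) < wsq (a A ::ₘ b A ::ₘ u) := by
        simp only [wsq, Multiset.map_cons, Multiset.sum_cons]
        omega
      rw [hcard] at hbd
      have := ih _ (by rw [hcard]; omega) (a A ::ₘ b A ::ₘ u) rfl
      refine SetLike.le_def.1 (sup_le_sup_right (Submodule.span_mono ?_) _) this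
      rintro _ ⟨t, ht, htc, htw, rfl⟩
      exact ⟨t, ht, htc.trans hcard, Or.inr (by rcases htw with rfl | h <;> omega), rfl⟩

variable [Field K] (P : Tops d n)

variable (K) in
/-- The ideal of the union. -/
def tIdeal : Ideal (PlRing K d n) := ⨅ t : P.T, plIdeal K t.1

variable (K) in
/-- The coordinate ring of the union. -/
abbrev TRing : Type u := PlRing K d n ⧸ tIdeal K P

/-- Standard monomials of the union. -/
def Std : Type := {s : Multiset (Idx d n) // IsFace P s.toFinset}

lemma std_isCh {s : Multiset (Idx d n)} (h : IsFace P s.toFinset) : IsCh s :=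
  fun a ha b hb => h.1 a (Multiset.mem_toFinset.2 ha) b (Multiset.mem_toFinset.2 hb)

lemma mk_mon_zero {s : Multiset (Idx d n)} (hs : ∃ z ∈ s, ∀ t ∈ P.T, ¬ z ≤ t) :
    Ideal.Quotient.mk (tIdeal K P) (mon s) = 0 := by
  obtain ⟨z, hz, hzt⟩ := hs
  obtain ⟨s', rfl⟩ := Multiset.exists_cons_of_mem hz
  rw [Ideal.Quotient.eq_zero_iff_mem, mon_cons]
  exact Ideal.mul_mem_right _ _ ((Submodule.mem_iInf _).2 fun t => X_mem_plIdeal K (hzt t.1 t.2))

lemma face_or_zero (hne : P.T.Nonempty) {s : Multiset (Idx d n)} (hs : IsCh s) :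
    IsFace P s.toFinset ∨ ∃ z ∈ s, ∀ t ∈ P.T, ¬ z ≤ t := by
  classical
  have hch : ∀ a ∈ s.toFinset, ∀ b ∈ s.toFinset, a ≤ b ∨ b ≤ a :=
    fun a ha b hb => hs a (Multiset.mem_toFinset.1 ha) b (Multiset.mem_toFinset.1 hb)
  by_cases h0 : s.toFinset.Nonempty
  · obtain ⟨z, hz, hmax⟩ := s.toFinset.exists_max_image wt h0
    by_cases ht : ∃ t ∈ P.T, z ≤ t
    · obtain ⟨t, ht, hzt⟩ := ht
      refine Or.inl ⟨hch, t, ht, fun a ha => le_trans ?_ hzt⟩
      rcases hch a ha z hz with h | h
      · exact h
      · rcases eq_or_lt_of_le h with e | e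
        · exact e.ge
        · exact absurd (hmax a ha) (wt_lt e).not_ge
    · exact Or.inr ⟨z, Multiset.mem_toFinset.1 hz, fun t h1 h2 => ht ⟨t, h1, h2⟩⟩
  · rw [not_nonempty_iff_eq_empty] at h0
    obtain ⟨t, ht⟩ := hne
    exact Or.inl ⟨hch, t, ht, fun a ha => absurd (h0 ▸ ha) (notMem_empty _)⟩

theorem std_basis (hd : 0 < d) (hne : P.T.Nonempty) :
    LinearIndependent K (fun s : Std P => Ideal.Quotient.mk (tIdeal K P) (mon s.1)) ∧
      Submodule.span K (Set.range fun s : Std P => Ideal.Quotient.mk (tIdeal K P) (mon s.1)) = ⊤ := by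
  classical
  have hb : LinearIndependent K (fun c : (Σ m : ℕ, {c : Fin m → Idx d n // Antitone c ∧ ∃ t : P.T, ∀ k, c k ≤ t.1}) =>
        Ideal.Quotient.mk (tIdeal K P) (chainMon K c.2.1)) ∧
      Submodule.span K (Set.range fun c : (Σ m : ℕ, {c : Fin m → Idx d n // Antitone c ∧ ∃ t : P.T, ∀ k, c k ≤ t.1}) =>
        Ideal.Quotient.mk (tIdeal K P) (chainMon K c.2.1)) = ⊤ := union_basis (K := K) hd (fun t : P.T => t.1)
  constructor
  · choose m c hc hmc hmem using fun s : Std P => exists_antitone (K := K) s.1 (std_isCh P s.2)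
    let e : Std P → (Σ m : ℕ, {c : Fin m → Idx d n // Antitone c ∧ ∃ t : P.T, ∀ k, c k ≤ t.1}) := fun s =>
      ⟨m s, c s, hc s, ⟨s.2.2.choose, s.2.2.choose_spec.1⟩, fun k => s.2.2.choose_spec.2 _ (Multiset.mem_toFinset.2 (hmem s k))⟩
    have he : Function.Injective e := by
      intro s s' h
      refine Subtype.ext (mon_inj (K := K) ?_)
      rw [hmc, hmc]
      exact congrArg (fun x : (Σ m : ℕ, {c : Fin m → Idx d n // Antitone c ∧ ∃ t : P.T, ∀ k, c k ≤ t.1}) => chainMon K x.2.1) h
    convert hb.1.comp e he using 1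
    funext s
    exact congrArg (Ideal.Quotient.mk (tIdeal K P)) (hmc s)
  · rw [eq_top_iff]
    refine hb.2.ge.trans (Submodule.span_le.2 ?_)
    rintro _ ⟨⟨m, c, hc, t, hle⟩, rfl⟩
    refine Submodule.subset_span ⟨⟨univ.val.map c, ?_, t.1, t.2, ?_⟩, congrArg _ (chainMon_eq_mon c).symm⟩
    · intro a ha b hb'
      simp only [Multiset.mem_toFinset, Multiset.mem_map] at ha hb'
      obtain ⟨i, -, rfl⟩ := ha
      obtain ⟨j, -, rfl⟩ := hb'
      rcases le_total i j with h | h
      · exact Or.inr (hc h)
      · exact Or.inl (hc h)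
    · intro a ha
      simp only [Multiset.mem_toFinset, Multiset.mem_map] at ha
      obtain ⟨i, -, rfl⟩ := ha
      exact hle i

open Classical in
/-- The elements of depth `r`. -/
def layer (r : Fin (P.D + 1)) : Finset (Idx d n) :=
  univ.filter fun z => codeg z + r.val = P.D ∧ ∃ t ∈ P.T, z ≤ t

variable (K) in
/-- The rank sums. -/
def rsum (r : Fin (P.D + 1)) : PlRing K d n := ∑ z ∈ layer P r, X z

variable (K) in
/-- Monomials of given ranks leaving a facet. -/
def Out (C : MChain P) (π : Multiset ℕ) : Submodule K (PlRing K d n) :=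
  Submodule.span K {f | ∃ v : Multiset (Idx d n), v.map codeg = π ∧ (∃ z ∈ v, z ∉ Set.range C.1) ∧ f = mon v}

lemma out_mul_mon (C : MChain P) {π : Multiset ℕ} {f : PlRing K d n} (hf : f ∈ Out K P C π) (w : Multiset (Idx d n)) :
    mon w * f ∈ Out K P C (w.map codeg + π) := by
  induction hf using Submodule.span_induction with
  | mem f hf =>
    obtain ⟨v, hv, ⟨z, hz, hzC⟩, rfl⟩ := hf
    exact Submodule.subset_span ⟨w + v, by rw [Multiset.map_add, hv], ⟨z, Multiset.mem_add.2 (Or.inr hz), hzC⟩, (mon_add K w v).symm⟩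
  | zero => simp
  | add x y _ _ hx hy => rw [mul_add]; exact add_mem hx hy
  | smul c x _ hx => rw [mul_smul_comm]; exact Submodule.smul_mem _ c hx

lemma mchain_inj (C : MChain P) : Function.Injective C.1 := fun i j h => by
  have h1 := C.codeg_add i
  have h2 := C.codeg_add j
  rw [h] at h1
  exact Fin.ext (by omega)

lemma prod_rsum (C : MChain P) (m : Multiset (Fin (P.D + 1))) :
    (m.map (rsum K P)).prod - mon (m.map C.1) ∈ Out K P C ((m.map C.1).map codeg) := by
  classical
  induction m using Multiset.induction_on with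
  | empty => simp [mon]
  | cons r m ih =>
    have hr : C.1 r ∈ layer P r := mem_filter.2 ⟨mem_univ _, C.codeg_add r, C.1 0, C.2.1, C.anti (Fin.zero_le _)⟩
    simp only [Multiset.map_cons, Multiset.prod_cons, mon_cons]
    have hsplit : rsum K P r = X (C.1 r) + ∑ z ∈ (layer P r).erase (C.1 r), X z := by
      rw [rsum, add_sum_erase _ (fun z => (X z : PlRing K d n)) hr]
    rw [hsplit, show (X (C.1 r) + ∑ z ∈ (layer P r).erase (C.1 r), X z) * (m.map (rsum K P)).prod - X (C.1 r) * mon (m.map C.1) =
      X (C.1 r) * ((m.map (rsum K P)).prod - mon (m.map C.1)) + (∑ z ∈ (layer P r).erase (C.1 r), X z * mon (m.map C.1)) +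
        (∑ z ∈ (layer P r).erase (C.1 r), X z * ((m.map (rsum K P)).prod - mon (m.map C.1))) by
      rw [← sum_mul, ← sum_mul]; ring]
    have hX : ∀ z, (X z : PlRing K d n) = mon {z} := fun z => by simp [mon]
    refine add_mem (add_mem ?_ (Submodule.sum_mem _ fun z hz => ?_)) (Submodule.sum_mem _ fun z hz => ?_)
    · have := out_mul_mon P C ih {C.1 r}
      rw [← hX] at this
      simpa using this
    · obtain ⟨hne, hz'⟩ := mem_erase.1 hz
      have hzc := (mem_filter.1 hz').2.1
      have hcr := C.codeg_add r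
      refine Submodule.subset_span ⟨z ::ₘ m.map C.1, ?_, ⟨z, Multiset.mem_cons_self _ _, ?_⟩, (mon_cons z _).symm⟩
      · rw [Multiset.map_cons, show codeg z = codeg (C.1 r) by omega]
      · rintro ⟨k, rfl⟩
        have := C.codeg_add k
        exact hne (congrArg C.1 (Fin.ext (by omega)))
    · have hzc := (mem_filter.1 (mem_erase.1 hz).2).2.1
      have hcr := C.codeg_add r
      have := out_mul_mon P C ih {z}
      rw [← hX] at this
      simpa [show codeg z = codeg (C.1 r) by omega] using this

/-- The monomial attached to a facet and exponents. -/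
def stdOf (x : MChain P × (Fin (P.D + 1) →₀ ℕ)) : Std P :=
  ⟨((restr P x.1).val + Finsupp.toMultiset x.2).map x.1.1, by
    refine ⟨fun a ha b hb => ?_, x.1.1 0, x.1.2.1, fun a ha => ?_⟩
    · simp only [Multiset.mem_toFinset, Multiset.mem_map] at ha hb
      obtain ⟨i, -, rfl⟩ := ha
      obtain ⟨j, -, rfl⟩ := hb
      rcases le_total i j with h | h
      · exact Or.inr (x.1.anti h)
      · exact Or.inl (x.1.anti h)
    · simp only [Multiset.mem_toFinset, Multiset.mem_map] at ha
      obtain ⟨i, -, rfl⟩ := ha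
      exact x.1.anti (Fin.zero_le _)⟩

lemma comp_stdOf (x : MChain P × (Fin (P.D + 1) →₀ ℕ)) : comp P _ (stdOf P x).2 = x.1 := by
  refine le_antisymm (comp_le P _ _ _ fun a ha => ?_) (le_of_restr P fun i hi => comp_spec P _ _ _ ?_)
  · simp only [stdOf, Multiset.mem_toFinset, Multiset.mem_map] at ha
    obtain ⟨i, -, rfl⟩ := ha
    exact ⟨i, rfl⟩
  · simp only [stdOf, Multiset.mem_toFinset, Multiset.mem_map]
    exact ⟨i, Multiset.mem_add.2 (Or.inl hi), rfl⟩

lemma stdOf_bijective : Function.Bijective (stdOf P) := by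
  classical
  constructor
  · rintro ⟨C, a⟩ ⟨C', a'⟩ h
    have hC : C = C' := by
      have h1 := comp_stdOf P (C, a)
      have h2 := comp_stdOf P (C', a')
      rw [← show comp P _ (stdOf P (C, a)).2 = comp P _ (stdOf P (C', a')).2 by rw! [h]; rfl, h1] at h2
      exact h2
    subst hC
    have := Multiset.map_injective (mchain_inj P C) (congrArg Subtype.val h)
    rw [add_right_inj] at this
    exact Prod.ext rfl (by simpa using congrArg Multiset.toFinsupp this)
  · rintro ⟨s, hs⟩
    set C := comp P _ hs with hC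
    let inv : Idx d n → Fin (P.D + 1) := Function.invFun C.1
    have hinv : (s.map inv).map C.1 = s := by
      rw [Multiset.map_map]
      conv_rhs => rw [← Multiset.map_id s]
      refine Multiset.map_congr rfl fun z hz => ?_
      exact Function.invFun_eq (comp_spec P _ hs z (Multiset.mem_toFinset.2 hz))
    have hle : (restr P C).val ≤ s.map inv := by
      rw [Multiset.le_iff_subset (restr P C).nodup]
      intro i hi
      refine Multiset.mem_map.2 ⟨C.1 i, Multiset.mem_toFinset.1 (restr_subset P hs hC.symm i hi), ?_⟩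
      exact Function.leftInverse_invFun (mchain_inj P C) i
    refine ⟨(C, Multiset.toFinsupp (s.map inv - (restr P C).val)), Subtype.ext ?_⟩
    simp only [stdOf, Multiset.toFinsupp_toMultiset]
    rw [add_tsub_cancel_of_le hle]
    exact hinv

variable (K) in
/-- The parameters. -/
def params : MvPolynomial (Fin (P.D + 1)) K →ₐ[K] TRing K P :=
  (Ideal.Quotient.mkₐ K (tIdeal K P)).comp (aeval (rsum K P))

open Classical in
/-- The ordering of standard monomials. -/
def rkStd (s : Std P) : ℕ :=
  (Multiset.card s.1 * (d * n) ^ 2 - wsq s.1) * (Fintype.card (MChain P) + 1) +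
    (univ.filter fun C => comp P _ s.2 < C).card

lemma rkStd_lt {s s' : Std P} (hc : Multiset.card s'.1 = Multiset.card s.1)
    (h : wsq s.1 < wsq s'.1 ∨ (wsq s'.1 = wsq s.1 ∧ comp P _ s.2 < comp P _ s'.2)) : rkStd P s' < rkStd P s := by
  classical
  unfold rkStd
  rw [hc]
  rcases h with h | ⟨h, hlt⟩
  · have hb := wsq_le s'.1
    rw [hc] at hb
    have h1 : (univ.filter fun C => comp P _ s'.2 < C).card ≤ Fintype.card (MChain P) := card_le_univ _
    have h2 : (Multiset.card s.1 * (d * n) ^ 2 - wsq s'.1) + 1 ≤ Multiset.card s.1 * (d * n) ^ 2 - wsq s.1 := by omega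
    have h3 := Nat.mul_le_mul_right (Fintype.card (MChain P) + 1) h2
    rw [add_mul, one_mul] at h3
    omega
  · rw [h]
    refine Nat.add_lt_add_left (card_lt_card ⟨fun C hC => ?_, fun hsub => ?_⟩) _
    · simp only [mem_filter, mem_univ, true_and] at hC ⊢
      exact hlt.trans hC
    · have := hsub (mem_filter.2 ⟨mem_univ (comp P _ s'.2), hlt⟩)
      exact lt_irrefl _ (mem_filter.1 this).2

variable (K) in
/-- The product of a restriction monomial and powers of the parameters. -/
def prodOf (x : MChain P × (Fin (P.D + 1) →₀ ℕ)) : TRing K P :=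
  Ideal.Quotient.mk (tIdeal K P) (mon ((restr P x.1).val.map x.1.1)) * params K P (monomial x.2 1)

theorem prodOf_basis (hd : 0 < d) (hne : P.T.Nonempty) :
    LinearIndependent K (prodOf K P) ∧ Submodule.span K (Set.range (prodOf K P)) = ⊤ := by
  classical
  let hb := std_basis (K := K) P hd hne
  let e := Equiv.ofBijective (stdOf P) (stdOf_bijective P)
  let b : Module.Basis (Std P) K (TRing K P) := Module.Basis.mk hb.1 hb.2.ge
  have hbv : ∀ s, b s = Ideal.Quotient.mk (tIdeal K P) (mon s.1) := fun s => by simp [b]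
  let f : Std P → TRing K P := fun s => prodOf K P (e.symm s)
  have key : ∀ x, prodOf K P x - b (stdOf P x) ∈ Submodule.span K (b '' {j | rkStd P j < rkStd P (stdOf P x)}) := by
    rintro ⟨C, a⟩
    rw [hbv]
    have hpar : params K P (monomial a 1) = Ideal.Quotient.mk (tIdeal K P) ((Finsupp.toMultiset a).map (rsum K P)).prod := by
      rw [params, AlgHom.comp_apply, aeval_monomial, map_one, one_mul, Finsupp.toMultiset_map, Finsupp.prod_toMultiset,
        Finsupp.prod_mapDomain_index (fun _ => pow_zero _) (fun _ _ _ => pow_add _ _ _)]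
      rfl
    have hval : (stdOf P (C, a)).1 = (restr P C).val.map C.1 + (Finsupp.toMultiset a).map C.1 := Multiset.map_add _ _ _
    simp only [prodOf, hpar]
    rw [hval, mon_add]
    rw [← map_mul, ← map_sub, ← mul_sub]
    have hout := prod_rsum (K := K) P C (Finsupp.toMultiset a)
    generalize ((Finsupp.toMultiset a).map (rsum K P)).prod - mon ((Finsupp.toMultiset a).map C.1) = g at hout
    induction hout using Submodule.span_induction with
    | zero => simp
    | add x y _ _ hx hy => rw [mul_add, map_add]; exact add_mem hx hy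
    | smul c x _ hx => rw [mul_smul_comm]; exact Submodule.smul_mem _ c hx
    | mem y hy =>
      obtain ⟨v, hv, ⟨z, hz, hzC⟩, rfl⟩ := hy
      rw [← mon_add]
      set w := (restr P C).val.map C.1 + v with hw
      have hcard : Multiset.card w = Multiset.card ((restr P C).val.map C.1 + (Finsupp.toMultiset a).map C.1) := by
        have := congrArg Multiset.card hv
        simp only [Multiset.card_map] at this
        simp [w, this]
      have hwsq : wsq w = wsq ((restr P C).val.map C.1 + (Finsupp.toMultiset a).map C.1) :=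
        wsq_profile (by rw [hw, Multiset.map_add, Multiset.map_add, hv])
      obtain ⟨g1, hg1, g2, hg2, hg⟩ := Submodule.mem_sup.1 (mon_straighten (K := K) w)
      have hg2' : g2 ∈ tIdeal K P := (Submodule.mem_iInf _).2 fun t => plIdealTop_le K _ hg2
      rw [← hg, map_add, Ideal.Quotient.eq_zero_iff_mem.2 hg2', add_zero]
      clear hg hg2 hg2'
      induction hg1 using Submodule.span_induction with
      | zero => simp
      | add x y _ _ hx hy => rw [map_add]; exact add_mem hx hy
      | smul c x _ hx => exact Submodule.smul_mem _ c hx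
      | mem y hy =>
        obtain ⟨t, ht, htc, htw, rfl⟩ := hy
        rcases face_or_zero P hne ht with hface | hzero
        · refine Submodule.subset_span ⟨⟨t, hface⟩, ?_, hbv _⟩
          refine rkStd_lt P ?_ ?_
          · show Multiset.card t = Multiset.card (stdOf P (C, a)).1
            rw [hval]; exact htc.trans hcard
          · rcases htw with rfl | hlt
            · refine Or.inr ⟨by show wsq w = wsq (stdOf P (C, a)).1; rw [hval]; exact hwsq, ?_⟩
              rw [show comp P _ (stdOf P (C, a)).2 = C from comp_stdOf P (C, a)]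
              refine lt_of_le_of_ne (le_of_restr P fun i hi => comp_spec P _ _ _ ?_) fun e => ?_
              · exact Multiset.mem_toFinset.2 (Multiset.mem_add.2 (Or.inl (Multiset.mem_map_of_mem _ hi)))
              · apply hzC
                rw [e]
                exact comp_spec P _ _ z (Multiset.mem_toFinset.2 (Multiset.mem_add.2 (Or.inr hz)))
            · left; show wsq (stdOf P (C, a)).1 < wsq t; rw [hval]; omega
        · rw [mk_mon_zero P hzero]; exact zero_mem _
  obtain ⟨h1, h2⟩ := triangular b f (rkStd P) (fun s => by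
    have := key (e.symm s)
    rwa [show stdOf P (e.symm s) = s from e.apply_symm_apply s] at this)
  constructor
  · have := h1.comp e e.injective
    rw [show prodOf K P = f ∘ e from funext fun x => by simp [f]]
    exact this
  · rw [← h2]
    congr 1
    ext y
    exact ⟨fun ⟨x, hx⟩ => ⟨e x, by simpa [f] using hx⟩, fun ⟨s, hs⟩ => ⟨e.symm s, hs⟩⟩

/-- The union is free and finite over its parameters. -/
theorem free_over_params (hd : 0 < d) (hne : P.T.Nonempty) :
    letI := (params K P).toRingHom.toAlgebra
    Module.Free (MvPolynomial (Fin (P.D + 1)) K) (TRing K P) ∧ Module.Finite (MvPolynomial (Fin (P.D + 1)) K) (TRing K P) := by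
  classical
  letI := (params K P).toRingHom.toAlgebra
  haveI : IsScalarTower K (MvPolynomial (Fin (P.D + 1)) K) (TRing K P) :=
    IsScalarTower.of_algebraMap_eq fun x => ((params K P).commutes x).symm
  let η : MChain P → TRing K P := fun C => Ideal.Quotient.mk (tIdeal K P) (mon ((restr P C).val.map C.1))
  let Ψ := Finsupp.linearCombination (MvPolynomial (Fin (P.D + 1)) K) η
  obtain ⟨h1, h2⟩ := prodOf_basis (K := K) P hd hne
  let bdom : Module.Basis (Σ _ : MChain P, (Fin (P.D + 1) →₀ ℕ)) K (MChain P →₀ MvPolynomial (Fin (P.D + 1)) K) :=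
    Finsupp.basis fun _ => basisMonomials (Fin (P.D + 1)) K
  let bcod : Module.Basis (Σ _ : MChain P, (Fin (P.D + 1) →₀ ℕ)) K (TRing K P) :=
    (Module.Basis.mk h1 h2.ge).reindex (Equiv.sigmaEquivProd _ _).symm
  have hΨ : (Ψ.restrictScalars K : _ →ₗ[K] TRing K P) = (bdom.equiv bcod (Equiv.refl _)).toLinearMap := by
    refine bdom.ext fun ⟨C, a⟩ => ?_
    rw [LinearEquiv.coe_coe, Module.Basis.equiv_apply]
    simp only [bcod, Equiv.refl_apply, Module.Basis.reindex_apply, Equiv.symm_symm, Module.Basis.mk_apply,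
      LinearMap.coe_restrictScalars, bdom, Finsupp.coe_basis, basisMonomials, Ψ, Finsupp.linearCombination_single]
    show (params K P) (monomial a 1) * η C = prodOf K P (C, a)
    rw [prodOf, mul_comm]
  have hbij : Function.Bijective Ψ := by
    have := (bdom.equiv bcod (Equiv.refl _)).bijective
    rw [← LinearEquiv.coe_toLinearMap, ← hΨ] at this
    exact this
  let E := LinearEquiv.ofBijective Ψ hbij
  exact ⟨Module.Free.of_equiv E, Module.Finite.equiv E⟩

end LeadGrass
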