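import Groth.Agent.Lead.Grass.Straighten

/-! Standard monomials are independent; the ideals of Schubert varieties. -/

noncomputable section

open MvPolynomial W4bk4grassmannian Finset

universe u v

namespace LeadGrass

variable {K : Type u} [Field K] {d n : ℕ}

/-- Chains with entries satisfying a predicate. -/
abbrev Chain (good : Idx d n → Prop) : Type := Σ m : ℕ, {c : Fin m → Idx d n // Antitone c ∧ ∀ k, good (c k)}

/-- A family of homomorphisms adapted to a set of indices. -/
structure Fam (P : Idx d n → Prop) (S : Type v) [CommRing S] [Algebra K S] where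
  ρ : Idx d n → PlRing K d n →ₐ[K] S
  vanish : ∀ φ, P φ → ∀ θ, ¬ θ ≤ φ → ρ φ (X θ) = 0
  ne : ∀ φ, P φ → ρ φ (X φ) ≠ 0
  mono : ∀ φ ψ, P φ → P ψ → ψ ≤ φ → ∀ f, ρ φ f = 0 → ρ ψ f = 0
  ε : S →ₐ[K] K
  εX : ∀ φ, P φ → ∀ θ, ε (ρ φ (X θ)) = 0

variable {P : Idx d n → Prop} {S : Type v} [CommRing S] [IsDomain S] [Algebra K S]

omit [IsDomain S] in
lemma Fam.ε_chain (F : Fam (K := K) P S) {φ : Idx d n} (hφ : P φ) {m : ℕ} (c : Fin m → Idx d n) :
    F.ε (F.ρ φ (chainMon K c)) = if m = 0 then 1 else 0 := by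
  rw [chainMon, map_prod, map_prod]
  split_ifs with h
  · subst h; simp
  · exact prod_eq_zero (mem_univ ⟨0, Nat.pos_of_ne_zero h⟩) (F.εX φ hφ _)

omit [IsDomain S] in
lemma Fam.chain_zero (F : Fam (K := K) P S) {φ : Idx d n} (hφ : P φ) {m : ℕ} (c : Fin m → Idx d n) (k : Fin m)
    (hk : ¬ c k ≤ φ) : F.ρ φ (chainMon K c) = 0 := by
  rw [chainMon, map_prod]
  exact prod_eq_zero (mem_univ k) (F.vanish φ hφ _ hk)

lemma Fam.indep (F : Fam (K := K) P S) : ∀ φ, P φ →
    ∀ l : Chain (fun θ : Idx d n => P θ ∧ θ ≤ φ) →₀ K,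
      (l.sum fun c a => a • F.ρ φ (chainMon K c.2.1)) = 0 → l = 0 := by
  classical
  intro φ
  induction φ using (Finite.to_wellFoundedLT (α := Idx d n)).wf.induction with
  | _ φ ih =>
    intro hφ
    suffices ∀ M, ∀ l : Chain (fun θ : Idx d n => P θ ∧ θ ≤ φ) →₀ K,
        (∀ c ∈ l.support, c.1 ≤ M) → (l.sum fun c a => a • F.ρ φ (chainMon K c.2.1)) = 0 → l = 0 from
      fun l hl => this (l.support.sup fun c => c.1) l (fun c hc => Finset.le_sup (f := fun c => c.1) hc) hl
    intro M
    induction M using Nat.strong_induction_on with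
    | _ M ihM =>
      intro l hM hl
      -- chains below a smaller index
      have hsmall : ∀ ψ, P ψ → ψ < φ → ∀ c, (∀ k, c.2.1 k ≤ ψ) → l c = 0 := by
        intro ψ hψ hlt c hc
        let e : Chain (fun θ : Idx d n => P θ ∧ θ ≤ ψ) → Chain (fun θ : Idx d n => P θ ∧ θ ≤ φ) :=
          fun c => ⟨c.1, c.2.1, c.2.2.1, fun k => ⟨(c.2.2.2 k).1, (c.2.2.2 k).2.trans hlt.le⟩⟩
        have he : Function.Injective e := by
          rintro ⟨m, c, hc⟩ ⟨m', c', hc'⟩ h
          simp only [e, Sigma.mk.injEq] at h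
          obtain ⟨rfl, h⟩ := h
          simp only [heq_eq_eq, Subtype.mk.injEq] at h
          subst h; rfl
        have h0 := ih ψ hlt hψ (l.comapDomain e he.injOn) (by
          have h1 := F.mono φ ψ hφ hψ hlt.le (l.sum fun c a => a • chainMon K c.2.1) (by
            rw [map_finsuppSum]
            simpa only [map_smul] using hl)
          rw [map_finsuppSum] at h1
          simp only [map_smul] at h1
          rw [← h1, Finsupp.sum, Finsupp.sum]
          refine Finset.sum_of_injOn e he.injOn (fun c hc => by simpa using hc) (fun c hc hc' => ?_) (fun c hc => by simp [e])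
          have : ∃ k, ¬ c.2.1 k ≤ ψ := by
            by_contra hall
            push_neg at hall
            refine hc' ⟨⟨c.1, c.2.1, c.2.2.1, fun k => ⟨(c.2.2.2 k).1, hall k⟩⟩, ?_, rfl⟩
            simpa [e] using hc
          obtain ⟨k, hk⟩ := this
          rw [F.chain_zero hψ _ k hk, smul_zero])
        have := congrArg (fun f => f ⟨c.1, c.2.1, c.2.2.1, fun k => ⟨(c.2.2.2 k).1, hc k⟩⟩) h0
        simpa [e] using this
      -- the empty chain
      have hempty : ∀ c, c.1 = 0 → l c = 0 := by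
        intro c hc
        have h1 := congrArg F.ε hl
        rw [map_finsuppSum, map_zero] at h1
        simp only [map_smul, F.ε_chain hφ, smul_ite, smul_zero, smul_eq_mul, mul_one] at h1
        rw [Finsupp.sum, Finset.sum_eq_single c] at h1
        · simpa [hc] using h1
        · rintro ⟨m, c'⟩ - hne
          rw [if_neg, mul_zero]
          rintro rfl
          apply hne
          obtain ⟨m', c''⟩ := c
          subst hc
          simp only [Sigma.mk.injEq, heq_eq_eq, true_and]
          exact Subtype.ext (funext fun k => k.elim0)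
        · intro hc'; rw [Finsupp.notMem_support_iff.1 hc']; simp
      have hstruct : ∀ c ∈ l.support, ∃ h : 0 < c.1, c.2.1 ⟨0, h⟩ = φ := by
        intro c hc
        rw [Finsupp.mem_support_iff] at hc
        have h0 : c.1 ≠ 0 := fun e => hc (hempty c e)
        refine ⟨Nat.pos_of_ne_zero h0, ?_⟩
        by_contra hne
        exact hc (hsmall _ (c.2.2.2 _).1 (lt_of_le_of_ne (c.2.2.2 _).2 hne) c
          fun k => c.2.2.1 (Fin.le_def.2 (Nat.zero_le _)))
      rcases Nat.eq_zero_or_pos M with hM0 | hMpos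
      · ext c
        by_cases hc : c ∈ l.support
        · exact hempty c (by have := hM c hc; omega)
        · simpa using hc
      -- divide by the top variable
      let tail : Chain (fun θ : Idx d n => P θ ∧ θ ≤ φ) → Chain (fun θ : Idx d n => P θ ∧ θ ≤ φ) := fun c =>
        ⟨c.1 - 1, fun k => c.2.1 ⟨k.val + 1, by omega⟩,
          fun a b hab => c.2.2.1 (Fin.le_def.2 (by simpa using hab)), fun k => c.2.2.2 _⟩
      have htail : ∀ c ∈ l.support, F.ρ φ (chainMon K c.2.1) = F.ρ φ (X φ) * F.ρ φ (chainMon K (tail c).2.1) := by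
        intro c hc
        obtain ⟨h, htop⟩ := hstruct c hc
        obtain ⟨m, c, hp⟩ := c
        obtain ⟨m, rfl⟩ : ∃ m', m = m' + 1 := ⟨m - 1, by simp at h; omega⟩
        rw [← map_mul]
        congr 1
        rw [chainMon, chainMon, Fin.prod_univ_succ]
        simp only at htop
        show X (c 0) * _ = _
        rw [show c 0 = φ from htop]
        rfl
      have hinj : Set.InjOn tail l.support := by
        rintro ⟨m, c, hp⟩ hc ⟨m', c', hp'⟩ hc' h
        obtain ⟨hpos, htop⟩ := hstruct _ hc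
        obtain ⟨hpos', htop'⟩ := hstruct _ hc'
        obtain ⟨m, rfl⟩ : ∃ q, m = q + 1 := ⟨m - 1, by simp at hpos; omega⟩
        obtain ⟨m', rfl⟩ : ∃ q, m' = q + 1 := ⟨m' - 1, by simp at hpos'; omega⟩
        simp only [tail, Sigma.mk.injEq, Nat.add_sub_cancel] at h
        obtain ⟨rfl, h⟩ := h
        simp only [heq_eq_eq, Subtype.mk.injEq] at h
        congr 2
        funext k
        induction k using Fin.cases with
        | zero => exact htop.trans htop'.symm
        | succ k => exact congrFun h k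
      have h2 := ihM (M - 1) (by omega) (l.mapDomain tail) ?_ ?_
      · ext c
        by_cases hc : c ∈ l.support
        · have := congrArg (fun f => f (tail c)) h2
          simp only [Finsupp.coe_zero, Pi.zero_apply] at this
          rwa [Finsupp.mapDomain_apply' (l.support : Set _) l subset_rfl hinj hc] at this
        · simpa using hc
      · intro c hc
        obtain ⟨c', hc', rfl⟩ := Finset.mem_image.1 (Finsupp.mapDomain_support hc)
        have := hM c' hc'
        show c'.1 - 1 ≤ M - 1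
        omega
      · rw [Finsupp.sum_mapDomain_index]
        rotate_left
        · intro b; exact zero_smul _ _
        · intro b _ _; exact add_smul _ _ _
        refine (mul_eq_zero.1 (?_ : F.ρ φ (X φ) * _ = 0)).resolve_left (F.ne φ hφ)
        rw [← hl, Finsupp.sum, Finsupp.sum, Finset.mul_sum]
        exact Finset.sum_congr rfl fun c hc => by rw [htail c hc, mul_smul_comm]

/-- Independence on a union. -/
lemma Fam.indep_union (F : Fam (K := K) P S) (Φ : Idx d n → Prop) (hΦ : ∀ φ, Φ φ → P φ)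
    (hne : ∃ φ, Φ φ) (good : Idx d n → Prop) (hgood : ∀ θ, good θ → P θ)
    (l : (Σ m : ℕ, {c : Fin m → Idx d n // Antitone c ∧ (∀ k, good (c k)) ∧ ∃ φ, Φ φ ∧ ∀ k, c k ≤ φ}) →₀ K)
    (hl : ∀ φ, Φ φ → F.ρ φ (l.sum fun c a => a • chainMon K c.2.1) = 0) : l = 0 := by
  classical
  ext c
  obtain ⟨φ, hφ, hle⟩ := c.2.2.2.2
  let α := Σ m : ℕ, {c : Fin m → Idx d n // Antitone c ∧ (∀ k, good (c k)) ∧ ∃ φ, Φ φ ∧ ∀ k, c k ≤ φ}
  let sub : {c : α // ∀ k, c.2.1 k ≤ φ} → Chain (fun θ : Idx d n => P θ ∧ θ ≤ φ) := fun c =>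
    ⟨c.1.1, c.1.2.1, c.1.2.2.1, fun k => ⟨hgood _ (c.1.2.2.2.1 k), c.2 k⟩⟩
  have hsub : Function.Injective sub := by
    rintro ⟨⟨m, a, ha⟩, _⟩ ⟨⟨m', b, hb⟩, _⟩ h
    simp only [sub, Sigma.mk.injEq] at h
    obtain ⟨rfl, h⟩ := h
    simp only [heq_eq_eq, Subtype.mk.injEq] at h
    subst h; rfl
  have h0 := F.indep φ (hΦ φ hφ) ((l.subtypeDomain fun c : α => ∀ k, c.2.1 k ≤ φ).mapDomain sub) (by
    rw [Finsupp.sum_mapDomain_index]
    rotate_left
    · intro b; exact zero_smul _ _
    · intro b _ _; exact add_smul _ _ _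
    have h1 := hl φ hφ
    rw [map_finsuppSum] at h1
    simp only [map_smul] at h1
    rw [← h1, Finsupp.sum, Finsupp.sum]
    refine Finset.sum_of_injOn Subtype.val Subtype.val_injective.injOn (fun c hc => by simpa using hc)
      (fun c hc hc' => ?_) (fun c hc => by simp [sub])
    have : ∃ k, ¬ c.2.1 k ≤ φ := by
      by_contra hall
      push_neg at hall
      exact hc' ⟨⟨c, hall⟩, by simpa using hc, rfl⟩
    obtain ⟨k, hk⟩ := this
    rw [F.chain_zero (hΦ φ hφ) _ k hk, smul_zero])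
  have := congrArg (fun f => f (sub ⟨c, hle⟩)) h0
  simp only [Finsupp.mapDomain_apply hsub, Finsupp.subtypeDomain_apply, Finsupp.coe_zero, Pi.zero_apply] at this
  exact this

/-- The common kernel is the obvious ideal. -/
theorem Fam.ker_le (F : Fam (K := K) P S) (Φ : Idx d n → Prop) (hΦ : ∀ φ, Φ φ → P φ) (hne : ∃ φ, Φ φ)
    (good : Idx d n → Prop) (hgood : ∀ θ, good θ → P θ)
    (I : Ideal (PlRing K d n)) (hI : plIdealTop K ≤ I)
    (hbad : ∀ (m : ℕ) (c : Fin m → Idx d n), Antitone c →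
      ¬ ((∀ k, good (c k)) ∧ ∃ φ, Φ φ ∧ ∀ k, c k ≤ φ) → chainMon K c ∈ I)
    (hker : ∀ f ∈ I, ∀ φ, Φ φ → F.ρ φ f = 0)
    {f : PlRing K d n} (hf : ∀ φ, Φ φ → F.ρ φ f = 0) : f ∈ I := by
  classical
  let α := Σ m : ℕ, {c : Fin m → Idx d n // Antitone c ∧ (∀ k, good (c k)) ∧ ∃ φ, Φ φ ∧ ∀ k, c k ≤ φ}
  have h1 : f ∈ Submodule.span K (Set.range fun c : α => chainMon K c.2.1) ⊔ I.restrictScalars K := by
    have hI' : (plIdealTop (d := d) (n := n) K).restrictScalars K ≤ I.restrictScalars K := fun x hx => hI hx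
    refine SetLike.le_def.1 (sup_le ?_ (hI'.trans le_sup_right)) (mem_chainSpan_sup f)
    refine Submodule.span_le.2 ?_
    rintro _ ⟨m, c, hc, rfl⟩
    by_cases hg : (∀ k, good (c k)) ∧ ∃ φ, Φ φ ∧ ∀ k, c k ≤ φ
    · exact Submodule.mem_sup_left (Submodule.subset_span ⟨⟨m, c, hc, hg⟩, rfl⟩)
    · exact Submodule.mem_sup_right (hbad m c hc hg)
  obtain ⟨g, hg, h, hh, rfl⟩ := Submodule.mem_sup.1 h1
  obtain ⟨l, rfl⟩ := (Finsupp.mem_span_range_iff_exists_finsupp).1 hg
  have := F.indep_union Φ hΦ hne good hgood l fun φ hφ => by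
    have := hf φ hφ
    rwa [map_add, hker h hh φ hφ, add_zero] at this
  subst this
  rw [Finsupp.sum_zero_index, zero_add]; exact hh

variable (K)

/-- The generic matrix of the Schubert variety: column `t` lives in the rows `≤ φ t`. -/
def mat (φ : Idx d n) : Matrix (Fin n) (Fin d) (MatRing K d n) :=
  Matrix.of fun i j => if i ≤ φ.1 j then X (i, j) else 0

/-- Restriction to the Schubert variety of `φ`. -/
def rho (φ : Idx d n) : PlRing K d n →ₐ[K] MatRing K d n := pl (mat K φ)

omit [Field K] in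
lemma det_zero_of_support {R : Type*} [CommRing R] (M : Matrix (Fin d) (Fin d) R) (t : Fin d)
    (h : ∀ i j : Fin d, t ≤ i → j ≤ t → M i j = 0) : M.det = 0 := by
  rw [Matrix.det_apply]
  refine sum_eq_zero fun σ _ => ?_
  suffices ∃ j : Fin d, M (σ j) j = 0 by
    obtain ⟨j, hj⟩ := this
    rw [prod_eq_zero (f := fun j => M (σ j) j) (mem_univ j) hj, smul_zero]
  by_contra hc
  push_neg at hc
  have hsub : (Finset.Iic t).map σ.toEmbedding ⊆ Finset.Iio t := by
    intro i hi
    obtain ⟨j, hj, rfl⟩ := Finset.mem_map.1 hi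
    rw [mem_Iio]
    by_contra h'
    exact hc j (h _ j (not_lt.1 h') (mem_Iic.1 hj))
  have := card_le_card hsub
  rw [card_map, Fin.card_Iic, Fin.card_Iio] at this
  omega

omit [Field K] in
lemma det_schubert {R : Type*} [CommRing R] (M : Matrix (Fin n) (Fin d) R) (φ : Idx d n)
    (hM : ∀ i j, ¬ i ≤ φ.1 j → M i j = 0) {θ : Idx d n} (hθ : ¬ θ ≤ φ) : (M.submatrix θ.1 id).det = 0 := by
  obtain ⟨t, ht⟩ : ∃ t, φ.1 t < θ.1 t := by
    by_contra hc
    push_neg at hc
    exact hθ hc
  refine det_zero_of_support _ t fun i j hi hj => hM _ _ fun h => ?_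
  exact absurd ((θ.2.monotone hi).trans (h.trans (φ.2.monotone hj))) ht.not_ge

lemma rho_vanish (φ θ : Idx d n) (h : ¬ θ ≤ φ) : rho K φ (X θ) = 0 := by
  rw [rho, pl_X]
  exact det_schubert _ φ (fun i j hij => by simp [mat, hij]) h

lemma rho_ne (φ : Idx d n) : rho K φ (X φ) ≠ 0 := by
  intro h
  have := congrArg (aeval (fun p : Fin n × Fin d => if p.1 = φ.1 p.2 then (1 : K) else 0)) h
  rw [rho, pl_X, map_zero, AlgHom.map_det] at this
  apply one_ne_zero (α := K)
  rw [← this]
  convert (Matrix.det_one (n := Fin d) (R := K)).symm using 2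
  ext i j
  simp only [AlgHom.mapMatrix_apply, Matrix.map_apply, Matrix.submatrix_apply, id, mat, Matrix.of_apply, Matrix.one_apply]
  split_ifs with h1 h2 h2
  · subst h2; simp
  · rw [aeval_X, if_neg]; exact fun e => h2 (φ.2.injective e)
  · subst h2; exact absurd le_rfl h1
  · simp

lemma rho_mono {φ ψ : Idx d n} (h : ψ ≤ φ) (f : PlRing K d n) (hf : rho K φ f = 0) : rho K ψ f = 0 := by
  let z : MatRing K d n →ₐ[K] MatRing K d n := aeval fun p => if p.1 ≤ ψ.1 p.2 then X p else 0
  have : z (rho K φ f) = rho K ψ f := by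
    rw [rho, rho, pl_comp]
    congr 1
    refine congrArg _ ?_
    ext i j : 1
    simp only [Matrix.map_apply, mat, Matrix.of_apply]
    by_cases hi : i ≤ ψ.1 j
    · rw [if_pos (hi.trans (h j)), if_pos hi]; simp [z, hi]
    · rw [if_neg hi]
      split_ifs <;> simp [z, hi]
  rw [← this, hf, map_zero]

/-- The standard family. -/
def stdFam (hd : 0 < d) : Fam (K := K) (fun _ : Idx d n => True) (MatRing K d n) where
  ρ := rho K
  vanish φ _ θ h := rho_vanish K φ θ h
  ne φ _ := rho_ne K φ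
  mono _ _ _ _ h f hf := rho_mono K h f hf
  ε := aeval fun _ => 0
  εX φ _ θ := by
    rw [rho, pl_X, AlgHom.map_det]
    haveI : Nonempty (Fin d) := ⟨⟨0, hd⟩⟩
    refine Eq.trans ?_ (Matrix.det_zero (n := Fin d) (R := K))
    congr 1
    ext i j
    simp only [AlgHom.mapMatrix_apply, Matrix.map_apply, Matrix.submatrix_apply, mat, Matrix.of_apply]
    split_ifs <;> simp

lemma plTop_le_ker {T : Type*} [CommRing T] [Algebra K T] (M : Matrix (Fin n) (Fin d) T) :
    plIdealTop (d := d) (n := n) K ≤ RingHom.ker (pl (K := K) M).toRingHom := by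
  refine Ideal.span_le.2 ?_
  rintro _ ⟨i, j, r, -, rfl⟩
  exact pl_shuffleRel M i j r

lemma plIdealTop_le (τ : Idx d n) : plIdealTop (d := d) (n := n) K ≤ plIdeal K τ :=
  Ideal.span_mono Set.subset_union_left

lemma X_mem_plIdeal {τ θ : Idx d n} (h : ¬ θ ≤ τ) : X θ ∈ plIdeal K τ :=
  Ideal.subset_span (Or.inr ⟨θ, h, rfl⟩)

lemma chain_mem_plIdeal {τ : Idx d n} {m : ℕ} (c : Fin m → Idx d n) (k : Fin m) (h : ¬ c k ≤ τ) :
    chainMon K c ∈ plIdeal K τ := by
  rw [chainMon, ← Finset.mul_prod_erase _ _ (mem_univ k)]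
  exact Ideal.mul_mem_right _ _ (X_mem_plIdeal K h)

lemma plIdeal_le_ker {τ φ : Idx d n} (h : φ ≤ τ) : plIdeal K τ ≤ RingHom.ker (rho K φ).toRingHom := by
  refine Ideal.span_le.2 ?_
  rintro _ (⟨i, j, r, -, rfl⟩ | ⟨θ, hθ, rfl⟩)
  · exact pl_shuffleRel _ i j r
  · exact rho_vanish K φ θ fun hc => hθ (hc.trans h)

/-- `I(τ)` is the kernel of the restriction to the Schubert variety. -/
theorem plIdeal_eq_ker (hd : 0 < d) (τ : Idx d n) : plIdeal K τ = RingHom.ker (rho K τ).toRingHom := by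
  refine le_antisymm (plIdeal_le_ker K le_rfl) fun f hf => ?_
  refine (stdFam K hd).ker_le (· = τ) (fun _ _ => trivial) ⟨τ, rfl⟩ (fun _ => True) (fun _ _ => trivial)
    (plIdeal K τ) (plIdealTop_le K τ) (fun m c _ hg => ?_) (fun g hg φ hφ => hφ ▸ plIdeal_le_ker K le_rfl hg)
    (fun φ hφ => hφ ▸ hf)
  simp only [implies_true, true_and, exists_eq_left, not_forall] at hg
  obtain ⟨k, hk⟩ := hg
  exact chain_mem_plIdeal K c k hk

lemma plIdeal_isPrime (hd : 0 < d) (τ : Idx d n) : (plIdeal K τ).IsPrime := by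
  rw [plIdeal_eq_ker K hd]; exact RingHom.ker_isPrime _

variable [Infinite K]

/-- `I(τ)` is the vanishing ideal. -/
theorem plIdeal_eq_vanishing (hd : 0 < d) (τ : Idx d n) : plIdeal K τ = schubertVanishing K d n τ := by
  refine le_antisymm ?_ fun f hf => ?_
  · simp only [schubertVanishing, le_iInf_iff]
    intro A hA
    refine Ideal.span_le.2 ?_
    rintro _ (⟨i, j, r, -, rfl⟩ | ⟨θ, hθ, rfl⟩)
    · exact pl_shuffleRel (K := K) A i j r
    · show evalMinors K d n A (X θ) = 0
      rw [evalMinors_eq, pl_X]; exact hA θ hθ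
  · rw [plIdeal_eq_ker K hd]
    refine MvPolynomial.funext fun v => ?_
    simp only [schubertVanishing, Submodule.mem_iInf] at hf
    let A : Matrix (Fin n) (Fin d) K := Matrix.of fun i j => if i ≤ τ.1 j then v (i, j) else 0
    have := hf A fun φ hφ => det_schubert A τ (fun i j h => by simp [A, h]) hφ
    rw [RingHom.mem_ker] at this
    change evalMinors K d n A f = 0 at this
    rw [map_zero, ← this, evalMinors_eq]
    show (aeval v) (pl (mat K τ) f) = _
    rw [pl_comp]
    congr 1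
    refine congrArg _ ?_
    ext i j : 1
    simp only [Matrix.map_apply, mat, A, Matrix.of_apply]
    split_ifs <;> simp

omit [Infinite K] in
lemma plIdeal_top (h : d ≤ n) : plIdeal K (top h) = plIdealTop (d := d) (n := n) K := by
  refine le_antisymm (Ideal.span_le.2 ?_) (plIdealTop_le K _)
  rintro _ (hx | ⟨θ, hθ, rfl⟩)
  · exact Ideal.subset_span hx
  · exact absurd (le_top h θ) hθ

theorem vanishing_eq (hd : 0 < d) (h : d ≤ n) : vanishing K d n = plIdealTop (d := d) (n := n) K := by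
  rw [← plIdeal_top K h, plIdeal_eq_vanishing K hd, vanishing, schubertVanishing]
  exact le_antisymm (le_iInf₂ fun A _ => iInf_le _ A)
    (le_iInf fun A => iInf₂_le A fun φ hφ => absurd (le_top h φ) hφ)

end LeadGrass
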