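import Groth.Agent.Lead.Grass.Comb

/-! Shelling of the maximal chains of a union of Schubert varieties of one dimension. -/

noncomputable section

open W4bk4grassmannian Finset

namespace LeadGrass

variable {d n : ℕ}

lemma wt_of_divisor {p a : Idx d n} (ha : a ∈ divisors p) : wt a + 1 = wt p := by
  have := codeg_eq a
  have := codeg_eq p
  have := ha.2
  omega

lemma inf_mem_divisors {p a b : Idx d n} (ha : a ∈ divisors p) (hb : b ∈ divisors p) (hab : a ≠ b) :
    W4bk4grassmannian.inf a b ∈ divisors a := by
  have hwa := wt_of_divisor ha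
  have hwb := wt_of_divisor hb
  have hw : wt (W4bk4grassmannian.sup a b) + wt (W4bk4grassmannian.inf a b) = wt a + wt b := by
    simp only [wt, W4bk4grassmannian.sup, W4bk4grassmannian.inf, ← sum_add_distrib]
    refine sum_congr rfl fun t _ => ?_
    rcases le_total (a.1 t) (b.1 t) with h | h
    · rw [max_eq_right h, min_eq_left h, add_comm]
    · rw [max_eq_left h, min_eq_right h]
  have hne : ¬ b ≤ a := fun h => by
    rcases eq_or_lt_of_le h with e | e
    · exact hab e.symm
    · have := wt_lt e; omega
  have hlt : a < W4bk4grassmannian.sup a b :=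
    lt_of_le_of_ne (le_sup_left' a b) fun e => hne (e ▸ le_sup_right' a b)
  have hsup := wt_lt hlt
  have hsp := wt_le (sup_le' ha.1.le hb.1.le)
  refine ⟨lt_of_le_of_ne (inf_le_left' a b) fun e => ?_, ?_⟩
  · rw [e] at hw
    omega
  · have := codeg_eq (W4bk4grassmannian.inf a b)
    have := codeg_eq a
    omega

lemma inf_comm' (a b : Idx d n) : W4bk4grassmannian.inf a b = W4bk4grassmannian.inf b a :=
  Subtype.ext (funext fun _ => min_comm _ _)

/-- The varieties at the top: all of one dimension, meeting pairwise in divisors. -/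
structure Tops (d n : ℕ) where
  T : Finset (Idx d n)
  D : ℕ
  rank : ∀ t ∈ T, codeg t = D
  inter : ∀ a ∈ T, ∀ b ∈ T, a ≠ b → W4bk4grassmannian.inf a b ∈ divisors a

variable (P : Tops d n)

/-- The top of a single variety. -/
def Tops.single (τ : Idx d n) : Tops d n where
  T := {τ}
  D := codeg τ
  rank t ht := by rw [mem_singleton.1 ht]
  inter a ha b hb hab := absurd ((mem_singleton.1 ha).trans (mem_singleton.1 hb).symm) hab

/-- Divisors of one variety as tops. -/
def Tops.ofDivisors (τ : Idx d n) (T : Finset (Idx d n)) (hT : ∀ t ∈ T, t ∈ divisors τ) : Tops d n where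
  T := T
  D := codeg τ - 1
  rank t ht := by have := (hT t ht).2; omega
  inter a ha b hb hab := inf_mem_divisors (hT a ha) (hT b hb) hab

/-- A maximal chain, from the top down. -/
def MChain : Type := {c : Fin (P.D + 1) → Idx d n //
  c 0 ∈ P.T ∧ ∀ k : Fin P.D, c k.succ ∈ divisors (c k.castSucc)}

namespace MChain

variable {P}

lemma anti (C : MChain P) : Antitone C.1 :=
  (Fin.antitone_iff_succ_le).2 fun k => (C.2.2 k).1.le

lemma codeg_add (C : MChain P) : ∀ k : Fin (P.D + 1), codeg (C.1 k) + k.val = P.D := by
  intro k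
  induction k using Fin.induction with
  | zero => simpa using P.rank _ C.2.1
  | succ k ih =>
    have := (C.2.2 k).2
    simp only [Fin.val_castSucc] at ih
    rw [Fin.val_succ]
    omega

instance : Fintype (MChain P) := by
  classical exact Subtype.fintype _

end MChain

/-- The depth `j` entry of a chain, extended by the last one. -/
def at' (C : MChain P) (j : ℕ) : Idx d n := C.1 ⟨min j P.D, by omega⟩

variable {P}

lemma at'_val (C : MChain P) (k : Fin (P.D + 1)) : at' P C k.val = C.1 k :=
  congrArg C.1 (Fin.ext (by dsimp only; omega))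

lemma at'_step (C : MChain P) {j : ℕ} (hj : j < P.D) : at' P C (j + 1) ∈ divisors (at' P C j) := by
  have h := C.2.2 ⟨j, hj⟩
  rw [show at' P C (j + 1) = C.1 (Fin.succ ⟨j, hj⟩) from congrArg C.1 (Fin.ext (by simp; omega)),
    show at' P C j = C.1 (Fin.castSucc ⟨j, hj⟩) from congrArg C.1 (Fin.ext (by simp; omega))]
  exact h

variable (P)

open Classical in
/-- Possible entries at depth `j`. -/
def sib (g : ℕ → Idx d n) : ℕ → Finset (Idx d n)
  | 0 => P.T
  | j + 1 => univ.filter fun q => q ∈ divisors (g j)

/-- The tie breaker. -/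
def idxOf (q : Idx d n) : ℕ := ((Fintype.equivFin (Idx d n)) q).val

open Classical in
/-- The preferred entries at depth `j`. -/
def pref (g : ℕ → Idx d n) : ℕ → Finset (Idx d n)
  | 0 => ∅
  | j + 1 => ((sib P g j).filter fun q =>
      (if q ∈ pref g j then 0 else Fintype.card (Idx d n)) + idxOf q <
        (if g j ∈ pref g j then 0 else Fintype.card (Idx d n)) + idxOf (g j)).image
      fun q => W4bk4grassmannian.inf q (g j)

open Classical in
/-- The priority of an entry at depth `j`. -/
def key (g : ℕ → Idx d n) (j : ℕ) (q : Idx d n) : ℕ :=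
  (if q ∈ pref P g j then 0 else Fintype.card (Idx d n)) + idxOf q

lemma key_inj (g : ℕ → Idx d n) (j : ℕ) {q q' : Idx d n} (h : key P g j q = key P g j q') : q = q' := by
  have h1 : idxOf q < Fintype.card (Idx d n) := Fin.isLt _
  have h2 : idxOf q' < Fintype.card (Idx d n) := Fin.isLt _
  apply (Fintype.equivFin (Idx d n)).injective
  apply Fin.ext
  show idxOf q = idxOf q'
  unfold key at h
  split_ifs at h <;> omega

lemma pref_congr {g g' : ℕ → Idx d n} : ∀ j, (∀ i < j, g i = g' i) → pref P g j = pref P g' j := by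
  intro j
  induction j with
  | zero => intro _; rfl
  | succ j ih =>
    intro h
    have hs : sib P g j = sib P g' j := by
      cases j with
      | zero => rfl
      | succ i =>
        ext q
        simp only [sib, mem_filter, h i (by omega)]
    simp only [pref, ih (fun i hi => h i (by omega)), hs, h j (by omega)]

lemma key_congr {g g' : ℕ → Idx d n} (j : ℕ) (h : ∀ i < j, g i = g' i) (q : Idx d n) :
    key P g j q = key P g' j q := by
  unfold key
  rw [pref_congr P j h]

lemma at'_mem_sib (C : MChain P) : ∀ {j : ℕ}, j ≤ P.D → at' P C j ∈ sib P (at' P C) j := by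
  intro j hj
  classical
  cases j with
  | zero => exact C.2.1
  | succ i => exact mem_filter.2 ⟨mem_univ _, at'_step C (by omega)⟩

/-- The sequence of priorities of a chain. -/
def code (C : MChain P) : Lex (Fin (P.D + 1) → ℕ) := toLex fun k => key P (at' P C) k.val (C.1 k)

lemma code_inj : Function.Injective (code P) := by
  intro C C' h
  have h' : ∀ k : Fin (P.D + 1), key P (at' P C) k.val (C.1 k) = key P (at' P C') k.val (C'.1 k) :=
    fun k => congrFun (congrArg ofLex h) k
  suffices ∀ j ≤ P.D, at' P C j = at' P C' j from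
    Subtype.ext (funext fun k => by simpa [at'_val] using this k.val (by omega))
  intro j
  induction j using Nat.strong_induction_on with
  | _ j ih =>
    intro hj
    have := h' ⟨j, by omega⟩
    rw [← at'_val C, ← at'_val C'] at this
    dsimp only at this
    rw [key_congr P j (fun i hi => ih i hi (by omega))] at this
    exact key_inj P _ _ this

instance : LinearOrder (MChain P) := LinearOrder.lift' (code P) (code_inj P)

lemma lt_iff (C C' : MChain P) : C < C' ↔ ∃ j : Fin (P.D + 1), (∀ i < j, C.1 i = C'.1 i) ∧
    key P (at' P C') j.val (C.1 j) < key P (at' P C') j.val (C'.1 j) := by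
  show code P C < code P C' ↔ _
  constructor
  · rintro ⟨j, h1, h2⟩
    have hp : ∀ i, i < j.val → at' P C i = at' P C' i := by
      intro i
      induction i using Nat.strong_induction_on with
      | _ i ih =>
        intro hi
        have hlt : i < P.D + 1 := by omega
        have := h1 ⟨i, hlt⟩ (Fin.lt_def.2 hi)
        simp only [code, ← at'_val, Pi.toLex_apply] at this
        rw [key_congr P i (fun a ha => ih a ha (by omega))] at this
        exact key_inj P _ _ this
    refine ⟨j, fun i hi => ?_, ?_⟩
    · rw [← at'_val C, ← at'_val C']; exact hp _ (Fin.lt_def.1 hi)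
    · simp only [code, Pi.toLex_apply] at h2
      rwa [key_congr P j.val (fun a ha => hp a ha)] at h2
  · rintro ⟨j, h1, h2⟩
    have hp : ∀ i, i < j.val → at' P C i = at' P C' i := fun i hi => by
      have := h1 ⟨i, by omega⟩ (Fin.lt_def.2 hi)
      rw [← at'_val C, ← at'_val C'] at this
      exact this
    refine ⟨j, fun i hi => ?_, ?_⟩
    · simp only [code, Pi.toLex_apply, ← at'_val]
      rw [hp _ (Fin.lt_def.1 hi), key_congr P i.val fun a ha => hp a (lt_trans ha (Fin.lt_def.1 hi))]
    · simp only [code, Pi.toLex_apply]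
      rwa [key_congr P j.val (fun a ha => hp a ha)]

/-- Existence of an exchange below depth `j`. -/
lemma exchange (C : MChain P) : ∀ j ≤ P.D, ∀ w ∈ sib P (at' P C) j,
    key P (at' P C) j w < key P (at' P C) j (at' P C j) →
    ∃ i : Fin (P.D + 1), j ≤ i.val ∧ (∃ C'', C'' < C ∧ ∀ k, k ≠ i → C''.1 k = C.1 k) ∧ ¬ C.1 i ≤ w := by
  classical
  intro j hj
  induction hm : P.D - j using Nat.strong_induction_on generalizing j with
  | _ M ih =>
    intro w hw hkey
    have hne : w ≠ at' P C j := fun e => by rw [e] at hkey; exact lt_irrefl _ hkey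
    have hmemj := at'_mem_sib P C hj
    have hcw : ¬ at' P C j ≤ w ∧ W4bk4grassmannian.inf w (at' P C j) ∈ divisors (at' P C j) ∧
        W4bk4grassmannian.inf w (at' P C j) ∈ divisors w := by
      have hi : W4bk4grassmannian.inf w (at' P C j) ∈ divisors w ∧
          W4bk4grassmannian.inf (at' P C j) w ∈ divisors (at' P C j) ∧ codeg w = codeg (at' P C j) := by
        cases j with
        | zero =>
          exact ⟨P.inter _ hw _ hmemj hne, P.inter _ hmemj _ hw hne.symm, by rw [P.rank _ hw, P.rank _ hmemj]⟩
        | succ i =>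
          simp only [sib, mem_filter, mem_univ, true_and] at hw hmemj
          exact ⟨inf_mem_divisors hw hmemj hne, inf_mem_divisors hmemj hw hne.symm, by
            have := hw.2; have := hmemj.2; omega⟩
      refine ⟨fun hle => hne.symm (eq_of_le_of_not_lt hle fun hlt => ?_), inf_comm' w _ ▸ hi.2.1, hi.1⟩
      have := wt_lt hlt
      have := codeg_eq w
      have := codeg_eq (at' P C j)
      omega
    obtain ⟨hnle, hw'c, hw'w⟩ := hcw
    rcases eq_or_lt_of_le hj with rfl | hjlt
    · exfalso
      have h0 := C.codeg_add ⟨P.D, by omega⟩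
      rw [← at'_val C] at h0
      have := hw'c.2
      dsimp only at h0
      omega
    by_cases hpref : at' P C (j + 1) ∈ pref P (at' P C) (j + 1)
    · simp only [pref, mem_image, mem_filter] at hpref
      obtain ⟨q, ⟨hq, hqkey⟩, hqe⟩ := hpref
      have hqne : q ≠ at' P C j := fun e => by rw [e] at hqkey; exact lt_irrefl _ hqkey
      have hqdiv : at' P C (j + 1) ∈ divisors q := by
        rw [← hqe]
        cases j with
        | zero => exact P.inter _ hq _ hmemj hqne
        | succ i =>
          simp only [sib, mem_filter, mem_univ, true_and] at hq hmemj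
          exact inf_mem_divisors hq hmemj hqne
      let f : Fin (P.D + 1) → Idx d n := Function.update C.1 ⟨j, by omega⟩ q
      have hf : f 0 ∈ P.T ∧ ∀ k : Fin P.D, f k.succ ∈ divisors (f k.castSucc) := by
        refine ⟨?_, fun k => ?_⟩
        · by_cases h0 : (0 : Fin (P.D + 1)) = ⟨j, by omega⟩
          · have hj0 : j = 0 := (congrArg Fin.val h0).symm
            subst hj0
            rw [show f 0 = q from Function.update_self (f := C.1) _ _]
            exact hq
          · rw [show f 0 = C.1 0 from Function.update_of_ne h0 _ _]; exact C.2.1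
        · have hk := C.2.2 k
          by_cases h1 : k.val + 1 = j
          · have e1 : k.succ = (⟨j, by omega⟩ : Fin (P.D + 1)) := Fin.ext h1
            have e2 : k.castSucc ≠ (⟨j, by omega⟩ : Fin (P.D + 1)) := fun e => by
              have := congrArg Fin.val e; simp at this; omega
            simp only [f, e1, Function.update_self, Function.update_of_ne e2]
            subst h1
            simp only [sib, mem_filter, mem_univ, true_and] at hq
            rw [← at'_val C, Fin.val_castSucc]
            exact hq
          · by_cases h2 : k.val = j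
            · have e1 : k.castSucc = (⟨j, by omega⟩ : Fin (P.D + 1)) := Fin.ext h2
              have e2 : k.succ ≠ (⟨j, by omega⟩ : Fin (P.D + 1)) := fun e => by
                have := congrArg Fin.val e; simp at this; omega
              simp only [f, e1, Function.update_self, Function.update_of_ne e2]
              rw [← at'_val C, Fin.val_succ, h2]
              exact hqdiv
            · have e1 : k.succ ≠ (⟨j, by omega⟩ : Fin (P.D + 1)) := fun e => h1 (by simpa using congrArg Fin.val e)
              have e2 : k.castSucc ≠ (⟨j, by omega⟩ : Fin (P.D + 1)) := fun e => h2 (by simpa using congrArg Fin.val e)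
              simp only [f, Function.update_of_ne e1, Function.update_of_ne e2]
              exact hk
      refine ⟨⟨j, by omega⟩, le_rfl, ⟨⟨f, hf⟩, (lt_iff P _ _).2 ⟨⟨j, by omega⟩, fun i hi => ?_, ?_⟩,
        fun k hk => Function.update_of_ne hk _ _⟩, by rw [← at'_val C]; exact hnle⟩
      · exact Function.update_of_ne hi.ne _ _
      · show key P _ j (f ⟨j, _⟩) < _
        rw [show f ⟨j, by omega⟩ = q from Function.update_self (f := C.1) _ _, ← at'_val C]
        exact hqkey
    · have hw' : W4bk4grassmannian.inf w (at' P C j) ∈ sib P (at' P C) (j + 1) :=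
        mem_filter.2 ⟨mem_univ _, hw'c⟩
      have hwp : W4bk4grassmannian.inf w (at' P C j) ∈ pref P (at' P C) (j + 1) := by
        simp only [pref, mem_image, mem_filter]
        exact ⟨w, ⟨hw, hkey⟩, rfl⟩
      have hk' : key P (at' P C) (j + 1) (W4bk4grassmannian.inf w (at' P C j)) <
          key P (at' P C) (j + 1) (at' P C (j + 1)) := by
        unfold key
        rw [if_pos hwp, if_neg hpref]
        have : idxOf (W4bk4grassmannian.inf w (at' P C j)) < Fintype.card (Idx d n) := Fin.isLt _
        omega
      obtain ⟨i, hi, hC, hnle'⟩ := ih (P.D - (j + 1)) (by omega) (j + 1) (by omega) rfl _ hw' hk'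
      refine ⟨i, by omega, hC, fun hle => hnle' (le_inf' hle ?_)⟩
      rw [show at' P C j = C.1 ⟨j, by omega⟩ from at'_val C ⟨j, by omega⟩]
      exact C.anti (Fin.le_def.2 (by dsimp only; omega))

/-- Shellability. -/
theorem shelling {C C' : MChain P} (h : C' < C) :
    ∃ i : Fin (P.D + 1), C.1 i ∉ Set.range C'.1 ∧ ∃ C'', C'' < C ∧ ∀ k, k ≠ i → C''.1 k = C.1 k := by
  obtain ⟨j, hj, hkey⟩ := (lt_iff P _ _).1 h
  have hsib : C'.1 j ∈ sib P (at' P C) j.val := by
    classical
    obtain ⟨j, hjD⟩ := j
    cases j with
    | zero => exact C'.2.1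
    | succ i =>
      refine mem_filter.2 ⟨mem_univ _, ?_⟩
      have h1 := at'_step C' (j := i) (by omega)
      rw [← at'_val C'] 
      have h2 := hj ⟨i, by omega⟩ (Fin.lt_def.2 (by dsimp only; omega))
      rw [← at'_val C', ← at'_val C] at h2
      dsimp only at h2
      rw [← h2]
      exact h1
  obtain ⟨i, hi, hC, hnle⟩ := exchange P C j.val (by omega) _ hsib (by rwa [at'_val])
  refine ⟨i, ?_, hC⟩
  rintro ⟨k, hk⟩
  have h1 := C.codeg_add i
  have h2 := C'.codeg_add k
  rw [hk] at h2
  obtain rfl : k = i := Fin.ext (by omega)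
  exact hnle (hk ▸ C'.anti (Fin.le_def.2 hi))

lemma exists_chain_through : ∀ (D : ℕ) (t : Idx d n), codeg t = D → ∀ S : Finset (Idx d n),
    (∀ a ∈ S, ∀ b ∈ S, a ≤ b ∨ b ≤ a) → (∀ a ∈ S, a ≤ t) →
    ∃ g : ℕ → Idx d n, g 0 = t ∧ (∀ j < D, g (j + 1) ∈ divisors (g j)) ∧ ∀ a ∈ S, ∃ j ≤ D, g j = a := by
  classical
  intro D
  induction D with
  | zero =>
    intro t ht S _ hle
    refine ⟨fun _ => t, rfl, fun j hj => absurd hj (by omega), fun a ha => ⟨0, le_rfl, ?_⟩⟩
    refine (eq_of_le_of_not_lt (hle a ha) fun hlt => ?_).symm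
    obtain ⟨φ, hφ, -⟩ := exists_divisor_ge hlt
    have := hφ.2
    omega
  | succ D ih =>
    intro t ht S hch hle
    have hlt : ∃ a, a < t ∧ ∀ b ∈ S, b ≠ t → b ≤ a := by
      by_cases hne : (S.erase t).Nonempty
      · obtain ⟨m, hm, hmax⟩ := (S.erase t).exists_max_image wt hne
        refine ⟨m, lt_of_le_of_ne (hle m (mem_of_mem_erase hm)) (ne_of_mem_erase hm), fun b hb hbt => ?_⟩
        rcases hch b hb m (mem_of_mem_erase hm) with h | h
        · exact h
        · rcases eq_or_lt_of_le h with e | e
          · exact e.ge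
          · exact absurd (hmax b (mem_erase.2 ⟨hbt, hb⟩)) (wt_lt e).not_ge
      · by_cases hd0 : d = 0
        · subst hd0
          simp [codeg] at ht
        have hdn : d ≤ n := by
          have := val_le_top t ⟨0, by omega⟩
          simp only at this
          omega
        refine ⟨bot hdn, lt_of_le_of_ne (bot_le hdn t) fun e => ?_, fun b hb hbt => absurd ⟨b, mem_erase.2 ⟨hbt, hb⟩⟩ hne⟩
        rw [← e] at ht
        simp [codeg, bot] at ht
    obtain ⟨a, hat, hba⟩ := hlt
    obtain ⟨φ, hφ, hle'⟩ := exists_divisor_ge hat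
    obtain ⟨g, hg0, hgs, hgS⟩ := ih φ (by have := hφ.2; omega) (S.erase t)
      (fun x hx y hy => hch x (mem_of_mem_erase hx) y (mem_of_mem_erase hy))
      (fun x hx => (hba x (mem_of_mem_erase hx) (ne_of_mem_erase hx)).trans hle')
    refine ⟨fun j => if j = 0 then t else g (j - 1), rfl, fun j hj => ?_, fun x hx => ?_⟩
    · cases j with
      | zero => simp [hg0, hφ]
      | succ i => simpa using hgs i (by omega)
    · by_cases hxt : x = t
      · exact ⟨0, Nat.zero_le _, by simp [hxt]⟩
      · obtain ⟨j, hj, e⟩ := hgS x (mem_erase.2 ⟨hxt, hx⟩)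
        exact ⟨j + 1, by omega, by simpa using e⟩

/-- Sets of the order complex. -/
def IsFace (S : Finset (Idx d n)) : Prop := (∀ a ∈ S, ∀ b ∈ S, a ≤ b ∨ b ≤ a) ∧ ∃ t ∈ P.T, ∀ a ∈ S, a ≤ t

open Classical in
/-- The facets containing a set. -/
def facets (S : Finset (Idx d n)) : Finset (MChain P) := univ.filter fun C => ∀ a ∈ S, a ∈ Set.range C.1

lemma facets_nonempty {S : Finset (Idx d n)} (h : IsFace P S) : (facets P S).Nonempty := by
  classical
  obtain ⟨t, ht, hle⟩ := h.2
  obtain ⟨g, hg0, hgs, hgS⟩ := exists_chain_through P.D t (P.rank t ht) S h.1 hle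
  refine ⟨⟨fun k => g k.val, by simpa [hg0] using ht, fun k => by simpa using hgs k.val k.isLt⟩, ?_⟩
  simp only [facets, mem_filter, mem_univ, true_and]
  intro a ha
  obtain ⟨j, hj, e⟩ := hgS a ha
  exact ⟨⟨j, by omega⟩, e⟩

open Classical in
/-- The minimal facet of a face. -/
def comp (S : Finset (Idx d n)) (h : IsFace P S) : MChain P := (facets P S).min' (facets_nonempty P h)

lemma comp_spec (S : Finset (Idx d n)) (h : IsFace P S) : ∀ a ∈ S, a ∈ Set.range (comp P S h).1 := by
  classical
  have := (facets P S).min'_mem (facets_nonempty P h)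
  simp only [facets, mem_filter, mem_univ, true_and] at this
  exact this

lemma comp_le (S : Finset (Idx d n)) (h : IsFace P S) (C : MChain P) (hC : ∀ a ∈ S, a ∈ Set.range C.1) :
    comp P S h ≤ C := by
  classical
  exact min'_le _ _ (by simp only [facets, mem_filter, mem_univ, true_and]; exact hC)

open Classical in
/-- The restriction of a facet. -/
def restr (C : MChain P) : Finset (Fin (P.D + 1)) :=
  univ.filter fun i => ∃ C'', C'' < C ∧ ∀ k, k ≠ i → C''.1 k = C.1 k

lemma le_of_restr {C C' : MChain P} (h : ∀ i ∈ restr P C, C.1 i ∈ Set.range C'.1) : C ≤ C' := by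
  classical
  by_contra hc
  obtain ⟨i, hi, hC⟩ := shelling P (not_le.1 hc)
  exact hi (h i (mem_filter.2 ⟨mem_univ _, hC⟩))

lemma restr_subset {C : MChain P} {S : Finset (Idx d n)} (h : IsFace P S) (hC : comp P S h = C) :
    ∀ i ∈ restr P C, C.1 i ∈ S := by
  classical
  intro i hi
  by_contra hn
  obtain ⟨C'', hlt, hC''⟩ := (mem_filter.1 hi).2
  refine absurd (comp_le P S h C'' fun a ha => ?_) (hC ▸ hlt).not_ge
  obtain ⟨k, hk⟩ := comp_spec P S h a ha
  rw [hC] at hk
  refine ⟨k, ?_⟩
  rw [hC'' k (fun e => hn (by rw [← e, hk]; exact ha)), hk]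

end LeadGrass
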