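import Groth.Agent.Lead.Grass.Coord
import Groth.Agent.Lead.Grass.Comb

/-! The straightening law: chain monomials span modulo the shuffle relations. -/

noncomputable section

open MvPolynomial W4bk4grassmannian Finset

universe u

namespace LeadGrass

variable {K : Type u} [CommRing K] {d n : ℕ}

/-- The shuffle with the identity positions. -/
def A₀ (r : Fin d) : Finset (Fin (d + 1)) := univ.filter fun k => k.val ≤ r.val

lemma A₀_card (r : Fin d) : (A₀ r).card = r.val + 1 := by
  rw [A₀, show (univ.filter fun k : Fin (d + 1) => k.val ≤ r.val) = Iic (⟨r.val, by omega⟩ : Fin (d + 1)) by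
    ext k; simp [Fin.le_def], Fin.card_Iic]

lemma mem_A₀ (r : Fin d) (k : Fin (d + 1)) : k ∈ A₀ r ↔ k.val ≤ r.val := by simp [A₀]

variable {i j : Idx d n} {r : Fin d}

lemma moving_strictMono (h : IsPivot i j r) : StrictMono (movingRows i j r) := by
  intro a b hab
  have hb := b.isLt
  rw [Fin.lt_def] at hab
  unfold movingRows
  by_cases ha' : a.val ≤ r.val
  · rw [dif_pos ha']
    by_cases hb' : b.val ≤ r.val
    · rw [dif_pos hb']; exact i.2 (by rw [Fin.lt_def]; exact hab)
    · rw [dif_neg hb']
      exact lt_of_le_of_lt (i.2.monotone (Fin.le_def.2 ha' : (⟨a.val, _⟩ : Fin d) ≤ r))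
        (lt_of_lt_of_le h.2 (j.2.monotone (Fin.le_def.2 (by simp; omega))))
  · rw [dif_neg ha', dif_neg (by omega)]
    exact j.2 (by rw [Fin.lt_def]; simp; omega)

lemma emb_A₀ (k : Fin (r.val + 1)) : ((A₀ r).orderEmbOfFin (A₀_card r) k).val = k.val := by
  have := Finset.orderEmbOfFin_unique (A₀_card r) (f := fun k : Fin (r.val + 1) => (⟨k.val, by omega⟩ : Fin (d + 1)))
    (fun k => (mem_A₀ r _).2 (Nat.lt_succ_iff.1 k.isLt)) (fun a b h => Fin.lt_def.2 (Fin.lt_def.1 h))
  rw [← congrFun this k]

lemma emb_A₀c (k : Fin (d - r.val)) :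
    ((A₀ r)ᶜ.orderEmbOfFin (compl_card r _ (A₀_card r)) k).val = k.val + r.val + 1 := by
  have := Finset.orderEmbOfFin_unique (compl_card r _ (A₀_card r))
    (f := fun k : Fin (d - r.val) => (⟨k.val + r.val + 1, by omega⟩ : Fin (d + 1)))
    (fun k => Finset.mem_compl.2 fun h => by have h' : k.val + r.val + 1 ≤ r.val := (mem_A₀ r _).1 h; omega)
    (fun a b h => Fin.lt_def.2 (show a.val + r.val + 1 < b.val + r.val + 1 by have := Fin.lt_def.1 h; omega))
  rw [← congrFun this k]

lemma shuffle_id (i j : Idx d n) (r : Fin d) :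
    shuffleI i j r (A₀ r) (A₀_card r) = i.1 ∧ shuffleJ i j r (A₀ r) (A₀_card r) = j.1 := by
  constructor <;> funext t
  · unfold shuffleI
    split_ifs with h
    · unfold movingRows
      rw [dif_pos (by rw [emb_A₀]; exact h)]
      congr 1; exact Fin.ext (by simp [emb_A₀])
    · rfl
  · unfold shuffleJ
    split_ifs with h
    · rfl
    · unfold movingRows
      rw [dif_neg (by rw [emb_A₀c]; simp)]
      refine congrArg j.1 (Fin.ext ?_); simp [emb_A₀c]; omega

lemma coord_of_idx (θ : Idx d n) : coord K d n θ.1 = X θ := by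
  have hinj := θ.2.injective
  have h : (univ.image θ.1).card = d := by rw [card_image_of_injective _ hinj, card_univ, Fintype.card_fin]
  rw [coord, dif_pos h]
  have h1 : invCount d n θ.1 = 0 := by
    rw [invCount, card_eq_zero, filter_eq_empty_iff]
    rintro ⟨a, b⟩ - ⟨hab, hba⟩
    exact absurd (θ.2 hab) hba.not_gt
  have h2 : sortIdx d n θ.1 h = θ :=
    Subtype.ext (Finset.orderEmbOfFin_unique h (fun t => mem_image_of_mem _ (mem_univ t)) θ.2).symm
  rw [h1, h2, pow_zero, one_mul]

lemma shuffleTerm_id (i j : Idx d n) (r : Fin d) : shuffleTerm K i j r (A₀ r) = X i * X j := by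
  rw [shuffleTerm, dif_pos (A₀_card r), (shuffle_id i j r).1, (shuffle_id i j r).2, coord_of_idx, coord_of_idx]
  have : shuffleSign r (A₀ r) = 0 := by
    rw [shuffleSign, Nat.sub_eq_zero_iff_le, ← Finset.map_orderEmbOfFin_univ (A₀ r) (A₀_card r), Finset.sum_map]
    rw [Finset.sum_congr rfl (fun k _ => show (((A₀ r).orderEmbOfFin (A₀_card r)).toEmbedding k).val = k.val from emb_A₀ k),
      Fin.sum_univ_eq_sum_range (fun i => i), Finset.sum_range_id, Nat.add_sub_cancel, mul_comm]
  rw [this, pow_zero, one_mul]

lemma cnt_eq_card_image {a : Fin d → Fin n} (h : (univ.image a).card = d) (x : Fin n) :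
    cnt (sortIdx d n a h) x = (univ.filter fun t => a t ≤ x).card := by
  have hinj := injective_of_card h
  rw [cnt, ← card_image_of_injective (univ.filter fun t => (sortIdx d n a h).1 t ≤ x) (sortIdx d n a h).2.injective,
    ← card_image_of_injective (univ.filter fun t => a t ≤ x) hinj]
  congr 1
  ext y
  simp only [mem_image, mem_filter, mem_univ, true_and]
  constructor
  · rintro ⟨t, ht, rfl⟩
    have := Finset.orderEmbOfFin_mem _ h t
    simp only [mem_image, mem_univ, true_and] at this
    obtain ⟨s, hs⟩ := this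
    exact ⟨s, by rw [hs]; exact ht, hs⟩
  · rintro ⟨t, ht, rfl⟩
    obtain ⟨s, hs⟩ : a t ∈ Set.range (Finset.orderEmbOfFin _ h) := by rw [Finset.range_orderEmbOfFin]; simp
    exact ⟨s, by show (Finset.orderEmbOfFin _ h) s ≤ x; rw [hs]; exact ht, hs⟩

lemma shuffle_cnt (i j : Idx d n) (r : Fin d) (A : Finset (Fin (d + 1))) (hA : A.card = r.val + 1) (x : Fin n) :
    (univ.filter fun t => shuffleI i j r A hA t ≤ x).card + (univ.filter fun t => shuffleJ i j r A hA t ≤ x).card =
      cnt i x + cnt j x := by
  classical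
  have key : ∀ (A : Finset (Fin (d + 1))) (hA : A.card = r.val + 1),
      (univ.filter fun t => shuffleI i j r A hA t ≤ x).card + (univ.filter fun t => shuffleJ i j r A hA t ≤ x).card =
      (univ.filter fun t : Fin d => r.val < t.val ∧ i.1 t ≤ x).card + (univ.filter fun t : Fin d => t.val < r.val ∧ j.1 t ≤ x).card
        + (univ.filter fun k => movingRows i j r k ≤ x).card := by
    intro A hA
    set F := fun k => movingRows i j r k ≤ x
    have e1 : (univ.filter fun t => shuffleI i j r A hA t ≤ x).card =
        (univ.filter fun t : Fin d => r.val < t.val ∧ i.1 t ≤ x).card + (A.filter F).card := by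
      rw [← card_filter_add_card_filter_not (s := univ.filter fun t => shuffleI i j r A hA t ≤ x) (p := fun t => r.val < t.val)]
      congr 1
      · rw [filter_filter]
        congr 1
        refine filter_congr fun t _ => ⟨fun h => ⟨h.2, ?_⟩, fun h => ⟨?_, h.1⟩⟩
        · have h' := h.1; rw [shuffleI, dif_neg (by omega)] at h'; exact h'
        · rw [shuffleI, dif_neg (by omega)]; exact h.2
      · rw [filter_filter]
        refine card_bij (fun t ht => A.orderEmbOfFin hA ⟨t.val, by simp at ht; omega⟩) ?_ ?_ ?_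
        · intro t ht
          simp only [mem_filter, mem_univ, true_and] at ht ⊢
          refine ⟨A.orderEmbOfFin_mem hA _, ?_⟩
          have h' := ht.1
          rw [shuffleI, dif_pos (by omega)] at h'
          exact h'
        · intro t _ t' _ e
          exact Fin.ext (by simpa using congrArg Fin.val ((A.orderEmbOfFin hA).injective e))
        · intro k hk
          simp only [mem_filter] at hk
          obtain ⟨s, rfl⟩ : k ∈ Set.range (A.orderEmbOfFin hA) := by rw [range_orderEmbOfFin]; exact hk.1
          refine ⟨⟨s.val, by omega⟩, ?_, rfl⟩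
          simp only [mem_filter, mem_univ, true_and]
          refine ⟨?_, by omega⟩
          rw [shuffleI, dif_pos (by simp; omega)]
          exact hk.2
    have e2 : (univ.filter fun t => shuffleJ i j r A hA t ≤ x).card =
        (univ.filter fun t : Fin d => t.val < r.val ∧ j.1 t ≤ x).card + (Aᶜ.filter F).card := by
      rw [← card_filter_add_card_filter_not (s := univ.filter fun t => shuffleJ i j r A hA t ≤ x) (p := fun t => t.val < r.val)]
      congr 1
      · rw [filter_filter]
        congr 1
        refine filter_congr fun t _ => ⟨fun h => ⟨h.2, ?_⟩, fun h => ⟨?_, h.1⟩⟩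
        · have h' := h.1; simp only [shuffleJ, dif_pos h.2] at h'; exact h'
        · simp only [shuffleJ, dif_pos h.1]; exact h.2
      · rw [filter_filter]
        refine card_bij (fun t ht => Aᶜ.orderEmbOfFin (compl_card r A hA) ⟨t.val - r.val, by simp at ht; omega⟩) ?_ ?_ ?_
        · intro t ht
          simp only [mem_filter, mem_univ, true_and] at ht ⊢
          refine ⟨Aᶜ.orderEmbOfFin_mem _ _, ?_⟩
          have h' := ht.1
          simp only [shuffleJ, dif_neg ht.2] at h'
          exact h'
        · intro t ht t' ht' e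
          have := congrArg Fin.val ((Aᶜ.orderEmbOfFin (compl_card r A hA)).injective e)
          simp at ht ht' this
          exact Fin.ext (by omega)
        · intro k hk
          simp only [mem_filter] at hk
          obtain ⟨s, rfl⟩ : k ∈ Set.range (Aᶜ.orderEmbOfFin (compl_card r A hA)) := by rw [range_orderEmbOfFin]; exact hk.1
          refine ⟨⟨s.val + r.val, by omega⟩, ?_, by simp⟩
          simp only [mem_filter, mem_univ, true_and]
          refine ⟨?_, by simp⟩
          simp only [shuffleJ, dif_neg (show ¬ s.val + r.val < r.val by omega), Nat.add_sub_cancel]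
          exact hk.2
    rw [e1, e2, ← Finset.card_filter_add_card_filter_not (s := univ.filter F) (p := fun k => k ∈ A),
      filter_filter, filter_filter]
    rw [show (univ.filter fun k => F k ∧ k ∈ A) = A.filter F by ext; simp [and_comm],
      show (univ.filter fun k => F k ∧ ¬ k ∈ A) = Aᶜ.filter F by ext; simp [and_comm]]
    omega
  rw [key A hA, ← key (A₀ r) (A₀_card r), (shuffle_id i j r).1, (shuffle_id i j r).2]
  rfl

/-- A non-identity term at a pivot: its first factor dominates strictly. -/
lemma shuffle_dominates (h : IsPivot i j r) {A : Finset (Fin (d + 1))} (hA : A.card = r.val + 1) (hne : A ≠ A₀ r) :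
    (∀ t, i.1 t ≤ shuffleI i j r A hA t) ∧ i.1 r < shuffleI i j r A hA r := by
  have hm := moving_strictMono h
  have hge : ∀ k : Fin (r.val + 1), k.val ≤ (A.orderEmbOfFin hA k).val := by
    rintro ⟨k, hk⟩
    induction k with
    | zero => simp
    | succ k ih =>
      have h1 := ih (by omega)
      have h2 : (A.orderEmbOfFin hA ⟨k, by omega⟩).val < (A.orderEmbOfFin hA ⟨k + 1, hk⟩).val :=
        (A.orderEmbOfFin hA).strictMono (by simp [Fin.lt_def])
      simp only at h1 ⊢; omega
  have hi : ∀ (t : Fin d), t.val ≤ r.val → i.1 t = movingRows i j r ⟨t.val, by omega⟩ := fun t ht => by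
    rw [movingRows, dif_pos (by simpa using ht)]
  refine ⟨fun t => ?_, ?_⟩
  · unfold shuffleI
    split_ifs with ht
    · rw [hi t ht]
      exact hm.monotone (Fin.le_def.2 (hge ⟨t.val, by omega⟩))
    · exact le_rfl
  · rw [shuffleI, dif_pos le_rfl, hi r le_rfl]
    refine hm (lt_of_le_of_ne (Fin.le_def.2 (hge ⟨r.val, by omega⟩)) fun e => hne ?_)
    apply Finset.eq_of_subset_of_card_le _ (by rw [A₀_card, hA])
    intro k hk
    obtain ⟨s, rfl⟩ : k ∈ Set.range (A.orderEmbOfFin hA) := by rw [range_orderEmbOfFin]; exact hk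
    rw [mem_A₀]
    have : A.orderEmbOfFin hA s ≤ A.orderEmbOfFin hA ⟨r.val, by omega⟩ :=
      (A.orderEmbOfFin hA).monotone (Fin.le_def.2 (by simp; omega))
    rw [Fin.le_def, ← e] at this
    exact this

/-- The pair `(a, b)` has the same content as `(i, j)`. -/
def SameContent (a b i j : Idx d n) : Prop := ∀ x, cnt a x + cnt b x = cnt i x + cnt j x

/-- One straightening step. -/
lemma step (h : IsPivot i j r) :
    ∃ (T : Finset (Finset (Fin (d + 1)))) (ε : Finset (Fin (d + 1)) → K)
      (a b : Finset (Fin (d + 1)) → Idx d n),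
      X i * X j + ∑ A ∈ T, C (ε A) * (X (a A) * X (b A)) = shuffleRel K i j r ∧
      ∀ A ∈ T, i < a A ∧ SameContent (a A) (b A) i j := by
  classical
  set T := (univ.erase (A₀ r)).filter fun A => ∃ hA : A.card = r.val + 1,
    (univ.image (shuffleI i j r A hA)).card = d ∧ (univ.image (shuffleJ i j r A hA)).card = d with hT
  have hrel : X i * X j + ∑ A ∈ T, shuffleTerm K i j r A = shuffleRel K i j r := by
    rw [shuffleRel, ← Finset.add_sum_erase _ _ (mem_univ (A₀ r)), shuffleTerm_id]
    congr 1
    refine Finset.sum_subset (filter_subset _ _) fun A hA hAT => ?_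
    simp only [hT, mem_filter, not_and, not_exists] at hAT
    unfold shuffleTerm
    split_ifs with hc
    · by_cases h1 : (univ.image (shuffleI i j r A hc)).card = d
      · have h2 := fun h2 => hAT hA hc h1 h2
        rw [coord, coord, dif_pos h1, dif_neg h2, mul_zero]
      · rw [coord, dif_neg h1, mul_zero, zero_mul]
    · rfl
  have hex : ∀ A ∈ T, ∃ (e : K) (a b : Idx d n), shuffleTerm K i j r A = C e * (X a * X b) ∧ i < a ∧ SameContent a b i j := by
    intro A hA
    simp only [hT, mem_filter, mem_erase] at hA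
    obtain ⟨⟨hne, -⟩, hc, h1, h2⟩ := hA
    refine ⟨(-1) ^ shuffleSign r A * (-1) ^ invCount d n (shuffleI i j r A hc) * (-1) ^ invCount d n (shuffleJ i j r A hc),
      sortIdx d n _ h1, sortIdx d n _ h2, ?_, ?_, fun x => ?_⟩
    · rw [shuffleTerm, dif_pos hc, coord, coord, dif_pos h1, dif_pos h2, map_mul, map_mul, map_pow, map_pow, map_pow,
        map_neg, map_one]
      ring
    · obtain ⟨hd1, hd2⟩ := shuffle_dominates h hc hne
      have hle : i ≤ sortIdx d n _ h1 := le_iff_cnt.2 fun x => by
        rw [cnt_eq_card_image h1]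
        exact card_le_card fun t ht => by
          simp only [mem_filter, mem_univ, true_and] at ht ⊢
          exact (hd1 t).trans ht
      refine lt_of_le_of_ne hle fun e => ?_
      have := cnt_eq_card_image h1 (i.1 r)
      rw [← e] at this
      have hlt : (univ.filter fun t => shuffleI i j r A hc t ≤ i.1 r).card < cnt i (i.1 r) := by
        refine card_lt_card ⟨fun t ht => ?_, fun hsub => ?_⟩
        · simp only [mem_filter, mem_univ, true_and] at ht ⊢
          exact (hd1 t).trans ht
        · have := hsub (show r ∈ univ.filter fun t => i.1 t ≤ i.1 r by simp)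
          simp only [mem_filter, mem_univ, true_and] at this
          exact absurd hd2 this.not_gt
      omega
    · rw [cnt_eq_card_image h1, cnt_eq_card_image h2]
      exact shuffle_cnt i j r A hc x
  haveI : Nonempty (Idx d n) := ⟨i⟩
  choose! e a b he ha hb using hex
  exact ⟨T, e, a, b, by rw [← hrel]; congr 1; exact Finset.sum_congr rfl fun A hA => (he A hA).symm,
    fun A hA => ⟨ha A hA, hb A hA⟩⟩

lemma exists_pivot (h : ¬ j ≤ i) : ∃ r, IsPivot i j r := by
  classical
  have hex : ∃ m : ℕ, ∃ r : Fin d, r.val = m ∧ i.1 r < j.1 r := by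
    by_contra hc
    push_neg at hc
    exact h fun t => hc _ t rfl
  obtain ⟨r, hr, hlt⟩ := Nat.find_spec hex
  refine ⟨r, fun t ht => ?_, hlt⟩
  by_contra hc
  exact Nat.find_min hex (m := t.val) (by rw [Fin.lt_def] at ht; omega) ⟨t, rfl, not_le.1 hc⟩

lemma cnt_total (θ : Idx d n) : ∑ x, cnt θ x + wt θ = d * n := by
  have h : ∀ t : Fin d, (univ.filter fun x => θ.1 t ≤ x).card + (θ.1 t).val = n := fun t => by
    rw [show (univ.filter fun x => θ.1 t ≤ x) = Ici (θ.1 t) by ext; simp, Fin.card_Ici]
    omega
  have : ∑ x, cnt θ x = ∑ t : Fin d, (univ.filter fun x => θ.1 t ≤ x).card := by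
    simp only [cnt, card_filter]
    exact Finset.sum_comm
  rw [this, wt, ← Finset.sum_add_distrib, Finset.sum_congr rfl fun t _ => h t]
  simp

lemma SameContent.wt {a b : Idx d n} (h : SameContent a b i j) : wt a + wt b = wt i + wt j := by
  have h1 : ∑ x, cnt a x + ∑ x, cnt b x = ∑ x, cnt i x + ∑ x, cnt j x := by
    rw [← Finset.sum_add_distrib, ← Finset.sum_add_distrib]
    exact Finset.sum_congr rfl fun x _ => h x
  have := cnt_total a; have := cnt_total b; have := cnt_total i; have := cnt_total j
  omega

/-- The monomial of a multiset of indices. -/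
def mon (s : Multiset (Idx d n)) : PlRing K d n := (s.map fun θ => X θ).prod

lemma mon_cons (a : Idx d n) (s : Multiset (Idx d n)) : mon (K := K) (a ::ₘ s) = X a * mon s := by
  simp [mon]

/-- Pairwise comparable. -/
def IsCh (s : Multiset (Idx d n)) : Prop := ∀ a ∈ s, ∀ b ∈ s, a ≤ b ∨ b ≤ a

lemma exists_antitone (s : Multiset (Idx d n)) (hs : IsCh s) :
    ∃ (m : ℕ) (c : Fin m → Idx d n), Antitone c ∧ mon (K := K) s = chainMon K c ∧ ∀ k, c k ∈ s := by
  induction hm : s.card using Nat.strong_induction_on generalizing s with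
  | _ M ih =>
    by_cases h0 : s = 0
    · exact ⟨0, Fin.elim0, fun a => a.elim0, by simp [h0, mon, chainMon], fun k => k.elim0⟩
    obtain ⟨a, ha, hmax⟩ := s.toFinset.exists_max_image wt (by
      obtain ⟨a, ha⟩ := Multiset.exists_mem_of_ne_zero h0
      exact ⟨a, Multiset.mem_toFinset.2 ha⟩)
    rw [Multiset.mem_toFinset] at ha
    obtain ⟨t, rfl⟩ := Multiset.exists_cons_of_mem ha
    obtain ⟨m, c, hc, hmc, hmem⟩ := ih t.card (by rw [← hm]; simp) t
      (fun x hx y hy => hs x (Multiset.mem_cons_of_mem hx) y (Multiset.mem_cons_of_mem hy)) rfl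
    have htop : ∀ x ∈ t, x ≤ a := fun x hx => by
      rcases hs x (Multiset.mem_cons_of_mem hx) a (Multiset.mem_cons_self _ _) with h | h
      · exact h
      · rcases eq_or_lt_of_le h with h' | h'
        · exact h'.ge
        · exact absurd (wt_lt h') (hmax x (Multiset.mem_toFinset.2 (Multiset.mem_cons_of_mem hx))).not_gt
    refine ⟨m + 1, Fin.cons a c, ?_, ?_, ?_⟩
    · intro x y hxy
      induction y using Fin.cases with
      | zero => rw [Fin.le_zero_iff.1 hxy]
      | succ y =>
        induction x using Fin.cases with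
        | zero => simpa using htop _ (hmem y)
        | succ x => simpa using hc (Fin.succ_le_succ_iff.1 hxy)
    · rw [mon_cons, hmc, chainMon, chainMon, Fin.prod_univ_succ]; simp
    · intro k
      induction k using Fin.cases with
      | zero => simp
      | succ k => simp [hmem k]

variable (K d n)

/-- The span of the standard monomials. -/
def chainSpan : Submodule K (PlRing K d n) :=
  Submodule.span K {f | ∃ (m : ℕ) (c : Fin m → Idx d n), Antitone c ∧ f = chainMon K c}

variable {K d n}

lemma mon_mem (s : Multiset (Idx d n)) :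
    mon s ∈ chainSpan K d n ⊔ (plIdealTop (d := d) (n := n) K).restrictScalars K := by
  classical
  suffices H : ∀ G (s : Multiset (Idx d n)), s.card * (d * n) ^ 2 - (s.map fun θ => wt θ ^ 2).sum = G →
      mon s ∈ chainSpan K d n ⊔ (plIdealTop (d := d) (n := n) K).restrictScalars K from H _ s rfl
  intro G
  induction G using Nat.strong_induction_on with
  | _ G ih =>
    intro s hG
    by_cases hs : IsCh s
    · obtain ⟨m, c, hc, hmc, -⟩ := exists_antitone (K := K) s hs
      exact Submodule.mem_sup_left (Submodule.subset_span ⟨m, c, hc, hmc⟩)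
    simp only [IsCh, not_forall, not_or] at hs
    obtain ⟨x, hx, y, hy, hxy, hyx⟩ := hs
    obtain ⟨i, hi, j, hj, hji, hw⟩ : ∃ i ∈ s, ∃ j ∈ s, ¬ j ≤ i ∧ ¬ i ≤ j ∧ wt j ≤ wt i := by
      rcases le_total (wt y) (wt x) with h | h
      · exact ⟨x, hx, y, hy, hyx, hxy, h⟩
      · exact ⟨y, hy, x, hx, hxy, hyx, h⟩
    obtain ⟨hij, hw⟩ := hw
    obtain ⟨t, rfl⟩ := Multiset.exists_cons_of_mem hi
    have hjt : j ∈ t := (Multiset.mem_cons.1 hj).resolve_left (fun e => hji (e ▸ le_rfl))
    obtain ⟨u, rfl⟩ := Multiset.exists_cons_of_mem hjt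
    obtain ⟨r, hr⟩ := exists_pivot hji
    obtain ⟨T, e, a, b, hrel, hT⟩ := step (K := K) hr
    have hmon : mon (i ::ₘ j ::ₘ u) = shuffleRel K i j r * mon u - ∑ A ∈ T, C (e A) * mon (a A ::ₘ b A ::ₘ u) := by
      rw [← hrel, add_mul, Finset.sum_mul]
      simp only [mon_cons]
      rw [show ∑ A ∈ T, C (e A) * (X (a A) * X (b A)) * mon u = ∑ A ∈ T, C (e A) * (X (a A) * (X (b A) * mon u)) from
        Finset.sum_congr rfl fun A _ => by ring]
      ring
    rw [hmon]
    refine Submodule.sub_mem _ (Submodule.mem_sup_right ?_) (Submodule.sum_mem _ fun A hA => ?_)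
    · exact Ideal.mul_mem_right _ _ (Ideal.subset_span ⟨i, j, r, hr, rfl⟩)
    · rw [C_mul']
      refine Submodule.smul_mem _ _ (ih _ ?_ _ rfl)
      obtain ⟨hlt, hsc⟩ := hT A hA
      have h1 := hsc.wt
      have h2 := wt_lt hlt
      have hb : ∀ θ : Idx d n, wt θ ≤ d * n := fun θ => by have := cnt_total θ; omega
      have hb' : ∀ v : Multiset (Idx d n), (v.map fun θ => wt θ ^ 2).sum ≤ v.card * (d * n) ^ 2 := fun v => by
        have := Multiset.sum_le_card_nsmul (v.map fun θ => wt θ ^ 2) ((d * n) ^ 2) (fun z hz => by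
          obtain ⟨θ, -, rfl⟩ := Multiset.mem_map.1 hz
          exact Nat.pow_le_pow_left (hb θ) 2)
        simpa using this
      have hbd := hb' (a A ::ₘ b A ::ₘ u)
      have hq : wt i ^ 2 + wt j ^ 2 < wt (a A) ^ 2 + wt (b A) ^ 2 := by
        obtain ⟨δ, hδ⟩ := Nat.exists_eq_add_of_lt h2
        have hb2 : wt j = wt (b A) + (δ + 1) := by omega
        have h3 : (δ + 1) * wt (b A) < (δ + 1) * wt i := Nat.mul_lt_mul_of_pos_left (by omega) (by omega)
        rw [hδ, hb2]
        nlinarith
      simp only [Multiset.map_cons, Multiset.sum_cons, Multiset.card_cons] at hG hbd ⊢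
      omega

/-- Standard monomials span modulo the shuffle relations. -/
theorem mem_chainSpan_sup (f : PlRing K d n) :
    f ∈ chainSpan K d n ⊔ (plIdealTop (d := d) (n := n) K).restrictScalars K := by
  suffices h : ∀ s : Multiset (Idx d n), f * mon s ∈ chainSpan K d n ⊔ (plIdealTop (d := d) (n := n) K).restrictScalars K by
    simpa [mon] using h 0
  induction f using MvPolynomial.induction_on with
  | C c => intro s; rw [C_mul']; exact Submodule.smul_mem _ _ (mon_mem s)
  | add p q hp hq => intro s; rw [add_mul]; exact Submodule.add_mem _ (hp s) (hq s)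
  | mul_X p a hp => intro s; rw [mul_assoc, ← mon_cons]; exact hp _

end LeadGrass
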